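import Cfsg.Agent.Lib.Fi22Loc.Quat
import Cfsg.Agent.Lib.SymplecticTypeP
import Cfsg.Agent.Lib.McLThree.Weak.Local
import Cfsg.Agent.Lib.Comp.Layer
import Cfsg.Prelude.Def_Transfer

/-!
The centraliser of the involution of one plane, modulo it: the centraliser of the image of the central element is
similar to a three-centraliser of a unitary group, and the image is not weakly closed there.
-/

set_option autoImplicit false
set_option synthInstance.maxSize 1024

namespace CfsgLib.Fi22Loc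

open CfsgLib.U6Three (V2 SL23 det2 app2)

universe u

/-- The vectors without a component on the first plane. -/
def V0 : AddSubgroup V6 where
  carrier := {v | v 0 = 0}
  zero_mem' := rfl
  add_mem' := fun {a b} (ha : a 0 = 0) (hb : b 0 = 0) => show (a + b) 0 = 0 by rw [Pi.add_apply, ha, hb, add_zero]
  neg_mem' := fun {a} (ha : a 0 = 0) => show (-a) 0 = 0 by rw [Pi.neg_apply, ha, neg_zero]

theorem mem_V0 {v : V6} : v ∈ V0 ↔ v 0 = 0 := Iff.rfl

theorem card_V0 : Nat.card V0 = 81 := by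
  have : Nat.card V0 = Nat.card (V2 × V2) := Nat.card_congr
    { toFun := fun v => (v.1 1, v.1 2)
      invFun := fun p => ⟨![0, p.1, p.2], rfl⟩
      left_inv := fun v => Subtype.ext (funext fun i => by fin_cases i <;> simp [show v.1 0 = 0 from v.2])
      right_inv := fun p => rfl }
  rw [this, Nat.card_prod, Nat.card_prod, Nat.card_zmod]

theorem V0_eigen : ∀ x : V2, -x = x → x = 0 := by decide +kernel

theorem one1_app (v : V6) : appB (Setting.sB (one1 0)) v = v ↔ v 0 = 0 := by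
  constructor
  · intro h
    have := congrFun h 0
    rw [Setting.sB_app] at this
    exact V0_eigen _ (by simpa [one1] using this)
  · intro h
    funext i
    rw [Setting.sB_app]
    by_cases hi : i = 0
    · subst hi; simp [one1, h]
    · simp [one1, hi]

theorem det2_std : det2 ((1, 0) : V2) (0, 1) ≠ 0 := by decide +kernel

theorem sl_no_fix : ∀ d a : SL23, ψ a = 0 → a ≠ 1 → a ≠ -1 → d * a * d⁻¹ = a → ψ d = 0 := by decide +kernel

theorem sl_odd_quartic : ∀ d : SL23, ψ d = 0 → d * d * (d * d) = 1 := fun d h => (ψ_zero d).mp h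

namespace Setting

variable {G : Type u} [Group G] (D : Setting G)

/-- The involution of the first plane. -/
noncomputable def tt : G := D.sg (one1 0)

theorem tt_sq : D.tt * D.tt = 1 := D.sg_sq _

theorem tt_ne : D.tt ≠ 1 := fun h => by
  have := congrFun (sB_inj (((D.sg_acts (one1 0)).unique ((show D.sg (one1 0) = 1 from h) ▸ D.acts_one)).trans
    (show (1 : Bk) = sB fun _ => false from rfl))) 0
  simp [one1] at this

theorem tt_z : Commute D.tt D.z := (D.sg_acts _).1.cz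

theorem tt_q (v : V6) : D.tt * D.q v * D.tt⁻¹ = D.q (appB (sB (one1 0)) v) := D.sg_q _ v

theorem tt_not_Q : D.tt ∉ D.Q := fun h => by
  have h3 := D.Q_cube h
  rw [pow_succ, pow_two, D.tt_sq, one_mul] at h3
  exact D.tt_ne h3

/-- The centraliser. -/
noncomputable def TC : Subgroup G := Subgroup.centralizer ({D.tt} : Set G)

theorem mem_TC {g : G} : g ∈ D.TC ↔ Commute g D.tt := Subgroup.mem_centralizer_singleton_iff

/-- The involution inside its centraliser. -/
noncomputable def NT : Subgroup D.TC := (Subgroup.zpowers D.tt).subgroupOf D.TC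

instance : D.NT.Normal := ⟨fun a ha g => by
  obtain ⟨n, hn⟩ := Subgroup.mem_subgroupOf.mp ha
  refine Subgroup.mem_subgroupOf.mpr ⟨n, ?_⟩
  rw [Subgroup.coe_mul, Subgroup.coe_mul, Subgroup.coe_inv, ← show D.tt ^ n = (a : G) from hn]
  show D.tt ^ n = (g : G) * D.tt ^ n * (g : G)⁻¹
  rw [((D.mem_TC.mp g.2).zpow_right n).eq, mul_inv_cancel_right]⟩

theorem zpow_tt (n : ℤ) : D.tt ^ n = 1 ∨ D.tt ^ n = D.tt := by
  rcases Int.even_or_odd n with ⟨m, rfl⟩ | ⟨m, rfl⟩
  · exact Or.inl (by rw [← two_mul, zpow_mul, zpow_two, D.tt_sq, one_zpow])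
  · exact Or.inr (by rw [zpow_add_one, zpow_mul, zpow_two, D.tt_sq, one_zpow, one_mul])

theorem mem_NT {a : D.TC} : a ∈ D.NT ↔ (a : G) = 1 ∨ (a : G) = D.tt := by
  constructor
  · intro ha
    obtain ⟨n, hn⟩ := Subgroup.mem_subgroupOf.mp ha
    rw [← show D.tt ^ n = (a : G) from hn]
    exact D.zpow_tt n
  · rintro (h | h)
    · exact Subgroup.mem_subgroupOf.mpr ⟨0, by simp [h]⟩
    · exact Subgroup.mem_subgroupOf.mpr ⟨1, by simp [h]⟩

/-- The quotient map. -/
noncomputable def mkT : D.TC →* D.TC ⧸ D.NT := QuotientGroup.mk' D.NT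

theorem mk_surj : Function.Surjective D.mkT := QuotientGroup.mk'_surjective _

theorem mk_eq {a b : D.TC} (h : D.mkT a = D.mkT b) : (b : G) = a ∨ (b : G) = a * D.tt := by
  have h' : a⁻¹ * b ∈ D.NT := QuotientGroup.eq.mp h
  rcases D.mem_NT.mp h' with e | e <;> rw [Subgroup.coe_mul, Subgroup.coe_inv, inv_mul_eq_iff_eq_mul] at e
  · exact Or.inl (by rw [e, mul_one])
  · exact Or.inr e

/-- The central element in the centraliser. -/
noncomputable def zT : D.TC := ⟨D.z, D.mem_TC.mpr D.tt_z.symm⟩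

/-- Its image. -/
noncomputable def zb : D.TC ⧸ D.NT := D.mkT D.zT

theorem zb_cube : D.zb ^ 3 = 1 := by
  rw [zb, ← map_pow, show D.zT ^ 3 = 1 from Subtype.ext D.z_cube, map_one]

theorem zb_ne : D.zb ≠ 1 := fun h => by
  rcases D.mk_eq (a := 1) (b := D.zT) (by rw [map_one]; exact h.symm) with e | e
  · exact D.z_ne e
  · rw [Subgroup.coe_one, one_mul] at e
    exact D.tt_not_Q (e ▸ D.z_mem)

theorem card_zb : Nat.card (Subgroup.zpowers D.zb) = 3 := by
  haveI : Fact (Nat.Prime 3) := ⟨Nat.prime_three⟩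
  rw [Nat.card_zpowers]
  exact orderOf_eq_prime D.zb_cube D.zb_ne

/-- The centraliser of the image. -/
noncomputable def CZ : Subgroup (D.TC ⧸ D.NT) :=
  Subgroup.centralizer ((Subgroup.zpowers D.zb : Subgroup (D.TC ⧸ D.NT)) : Set (D.TC ⧸ D.NT))

theorem mem_CZ {x : D.TC ⧸ D.NT} : x ∈ D.CZ ↔ Commute x D.zb := by
  rw [CZ, Subgroup.mem_centralizer_iff]
  refine ⟨fun h => (h _ (Subgroup.mem_zpowers _)).symm, fun h y hy => ?_⟩
  obtain ⟨n, rfl⟩ := hy
  exact (h.zpow_right n).eq.symm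

/-- Elements centralising the image come from the centraliser of the central element. -/
theorem lift_CZ {x : D.TC ⧸ D.NT} (hx : x ∈ D.CZ) : ∃ h : D.TC, D.mkT h = x ∧ Commute (h : G) D.z := by
  obtain ⟨h, rfl⟩ := D.mk_surj x
  refine ⟨h, rfl, ?_⟩
  have e := D.mem_CZ.mp hx
  rcases D.mk_eq (a := D.zT) (b := h * D.zT * h⁻¹) (by
    show D.zb = _
    rw [map_mul, map_mul, map_inv]; show D.zb = D.mkT h * D.zb * (D.mkT h)⁻¹
    rw [e.eq, mul_inv_cancel_right]) with r | r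
  · exact mul_inv_eq_iff_eq_mul.mp r
  · exfalso
    have h3 : ((h : G) * D.z * (h : G)⁻¹) ^ 3 = 1 := by rw [conj_pow, D.z_cube]; group
    rw [show (h : G) * D.z * (h : G)⁻¹ = D.z * D.tt from r, D.tt_z.symm.mul_pow, D.z_cube, one_mul, pow_succ, pow_two,
      D.tt_sq, one_mul] at h3
    exact D.tt_ne h3

theorem mk_CZ {h : D.TC} (hz : Commute (h : G) D.z) : D.mkT h ∈ D.CZ :=
  D.mem_CZ.mpr ((show Commute h D.zT from Subtype.ext hz).map D.mkT)

/-- The core inside the centraliser. -/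
noncomputable def Qt : Subgroup G where
  carrier := {x | ∃ a v, v ∈ V0 ∧ x = D.zz a * D.q v}
  one_mem' := ⟨0, 0, V0.zero_mem, by rw [zz_zero, q_zero, one_mul]⟩
  mul_mem' := by
    rintro _ _ ⟨k, v, hv, rfl⟩ ⟨l, w, hw, rfl⟩
    refine ⟨k + l + -om v w, v + w, V0.add_mem hv hw, ?_⟩
    calc D.zz k * D.q v * (D.zz l * D.q w) = D.zz k * (D.q v * D.zz l) * D.q w := by group
      _ = D.zz k * D.zz l * (D.q v * D.q w) := by rw [← (D.zz_q l v).eq]; group
      _ = _ := by rw [q_mul', ← zz_add, ← mul_assoc, ← zz_add]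
  inv_mem' := by
    rintro _ ⟨k, v, hv, rfl⟩
    refine ⟨-k, -v, V0.neg_mem hv, ?_⟩
    rw [mul_inv_rev, q_inv, ← zz_neg, (D.zz_q (-k) (-v)).eq]

theorem mem_Qt {x : G} : x ∈ D.Qt ↔ x ∈ D.Q ∧ Commute x D.tt := by
  constructor
  · rintro ⟨a, v, hv, rfl⟩
    refine ⟨D.zz_q_mem_Q a v, ?_⟩
    refine ((D.zz_comm D.tt_z a).symm).mul_left ?_
    have h := D.tt_q v
    rw [(one1_app v).mpr hv, mul_inv_eq_iff_eq_mul] at h
    exact h.symm
  · rintro ⟨⟨a, v, rfl⟩, hc⟩
    refine ⟨a, v, (one1_app v).mp (D.q_injective ?_), rfl⟩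
    have : Commute (D.q v) D.tt := by
      have := ((D.zz_comm D.tt_z a).symm).inv_left.mul_left hc
      rwa [inv_mul_cancel_left] at this
    rw [← D.tt_q, ← this.eq, mul_inv_cancel_right]

theorem card_Qt : Nat.card D.Qt = 243 := by
  let f : ZMod 3 × V0 → D.Qt := fun p => ⟨D.zz p.1 * D.q p.2.1, p.1, p.2.1, p.2.2, rfl⟩
  have hb : Function.Bijective f := ⟨fun p p' e => by
    obtain ⟨e1, e2⟩ := D.el_inj (congrArg Subtype.val e)
    exact Prod.ext e1 (Subtype.ext e2), fun x => by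
    obtain ⟨a, v, hv, e⟩ := x.2
    exact ⟨(a, ⟨v, hv⟩), Subtype.ext e.symm⟩⟩
  rw [← Nat.card_congr (Equiv.ofBijective f hb), Nat.card_prod, Nat.card_zmod, card_V0]

theorem qt_TC {x : G} (hx : x ∈ D.Qt) : x ∈ D.TC := D.mem_TC.mpr (D.mem_Qt.mp hx).2

theorem qt_z {x : G} (hx : x ∈ D.Qt) : Commute x D.z := D.Q_z (D.mem_Qt.mp hx).1

theorem qt_cube {x : G} (hx : x ∈ D.Qt) : x ^ 3 = 1 := D.Q_cube (D.mem_Qt.mp hx).1

/-- The core mapped. -/
noncomputable def φQ : D.Qt →* D.CZ :=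
  (D.mkT.comp (Subgroup.inclusion fun _ hx => D.qt_TC hx)).codRestrict D.CZ fun x => D.mk_CZ (D.qt_z x.2)

theorem φQ_inj : Function.Injective D.φQ := by
  refine (injective_iff_map_eq_one _).mpr fun x hx => Subtype.ext ?_
  have h : D.mkT ⟨x.1, D.qt_TC x.2⟩ = D.mkT 1 := by rw [map_one]; exact congrArg Subtype.val hx
  rcases D.mk_eq h.symm with e | e
  · exact e
  · have hQ := (D.mem_Qt.mp x.2).1
    rw [show x.1 = D.tt by simpa using e] at hQ
    exact absurd hQ D.tt_not_Q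

/-- The image of the core. -/
noncomputable def Qb : Subgroup D.CZ := D.φQ.range

theorem card_Qb : Nat.card D.Qb = 243 := by
  rw [Qb, ← D.card_Qt]
  exact (Nat.card_congr (MonoidHom.ofInjective D.φQ_inj).toEquiv).symm

theorem mem_Qb {x : D.CZ} : x ∈ D.Qb ↔ ∃ h : D.TC, (h : G) ∈ D.Qt ∧ D.mkT h = x := by
  constructor
  · rintro ⟨y, rfl⟩
    exact ⟨⟨y.1, D.qt_TC y.2⟩, y.2, rfl⟩
  · rintro ⟨h, hh, e⟩
    exact ⟨⟨_, hh⟩, Subtype.ext e⟩

theorem mk_mul_tt (h : D.TC) : D.mkT (h * ⟨D.tt, D.mem_TC.mpr (Commute.refl _)⟩) = D.mkT h := by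
  rw [map_mul, show D.mkT ⟨D.tt, _⟩ = 1 from (QuotientGroup.eq_one_iff _).mpr (D.mem_NT.mpr (Or.inr rfl)), mul_one]

theorem qb_of {h : D.TC} (hq : (h : G) ∈ D.Qt ∨ (h : G) * D.tt ∈ D.Qt) (hz : Commute (h : G) D.z) :
    (⟨D.mkT h, D.mk_CZ hz⟩ : D.CZ) ∈ D.Qb := by
  rcases hq with e | e
  · exact D.mem_Qb.mpr ⟨h, e, rfl⟩
  · exact D.mem_Qb.mpr ⟨h * ⟨D.tt, D.mem_TC.mpr (Commute.refl _)⟩, e, D.mk_mul_tt h⟩

/-- An element centralising both and trivial on the last two planes. -/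
theorem in_Qt {h : G} {b : Bk} (hI : D.Img h b) (ht : Commute h D.tt) (hπ : b.π = 1) (h1 : b.g 1 = 1)
    (h2 : b.g 2 = 1) : h ∈ D.Qt ∨ h * D.tt ∈ D.Qt := by
  have hr := D.img_real hI
  rw [eq_dg hπ] at hr
  have hc := D.const hr (dg_π _)
  have h0 : ψ (b.g 0) = 0 := by
    have e1 := congrFun hc 1
    simp only [cv_dg, h1, ψ_one] at e1
    exact e1.symm
  have hP : D.Pq b.g := ⟨fun i => by fin_cases i <;> simp [h0, h1, h2, ψ_one], hr⟩
  have hs := D.single_sign hP (m := 0) fun i hi => by fin_cases i <;> simp_all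
  rcases hs with e | e
  · refine Or.inl (D.mem_Qt.mpr ⟨Img.mem_Q ?_, ht⟩)
    rwa [show b = 1 from Bk.ext' hπ fun i => by fin_cases i <;> simp [e, h1, h2, one_g]] at hI
  · refine Or.inr (D.mem_Qt.mpr ⟨Img.mem_Q ?_, ht.mul_left (Commute.refl _)⟩)
    have hb : b = sB (one1 0) := Bk.ext' hπ fun i => by fin_cases i <;> simp [e, h1, h2, sB, dg_g, one1, sgn]
    have := hI.mul (D.img_acts (D.sg_acts (one1 0)))
    rwa [hb, sB_sq] at this

theorem img_fix {h : G} {b : Bk} (hI : D.Img h b) (ht : Commute h D.tt) : b.π 0 = 0 := by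
  have e := congrArg (fun C : Bk => C.g (b.π 0)) (D.img_commute hI (D.img_acts (D.sg_acts (one1 0))) ht)
  have hs : ∀ k, (sB (one1 0)).π.symm k = k := fun k => rfl
  simp only [mul_g, hs, sB, dg_g, Equiv.symm_apply_apply, one1, decide_true] at e
  by_contra hne
  simp only [hne, decide_false] at e
  exact (by decide +kernel : ∀ a : SL23, a * sgn true ≠ sgn false * a) _ e

instance Qb_normal : D.Qb.Normal := ⟨fun a ha x => by
  obtain ⟨h, hh, e⟩ := D.mem_Qb.mp ha
  obtain ⟨g, eg, hg⟩ := D.lift_CZ x.2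
  refine D.mem_Qb.mpr ⟨g * h * g⁻¹, D.mem_Qt.mpr ⟨D.conj_Q hg (D.mem_Qt.mp hh).1, ?_⟩, ?_⟩
  · exact D.mem_TC.mp (g * h * g⁻¹).2
  · rw [map_mul, map_mul, map_inv, e, eg]; rfl⟩

variable [Finite G]

theorem cent_Qb : Subgroup.centralizer (D.Qb : Set D.CZ) ≤ D.Qb := by
  intro x hx
  obtain ⟨h, eh, hz⟩ := D.lift_CZ x.2
  obtain ⟨b, hI⟩ := D.img_exists hz
  have ht := D.mem_TC.mp h.2
  have hfix : ∀ v, v 0 = 0 → appB b v = v := fun v hv => by
    have hm : D.q v ∈ D.Qt := ⟨0, v, hv, by rw [D.zz_zero, one_mul]⟩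
    have hc := Subgroup.mem_centralizer_iff.mp hx _ ⟨⟨_, hm⟩, rfl⟩
    have hc' : D.mkT ⟨_, D.qt_TC hm⟩ * D.mkT h = D.mkT h * D.mkT ⟨_, D.qt_TC hm⟩ := by
      rw [eh]; exact congrArg Subtype.val hc
    obtain ⟨n, hn⟩ := hI.2 v
    rw [← map_mul, ← map_mul] at hc'
    rcases D.mk_eq hc' with e | e
    · simp only [Subgroup.coe_mul] at e
      have : (h : G) * D.q v * (h : G)⁻¹ = D.zz 0 * D.q v := by rw [e, D.zz_zero, mul_inv_cancel_right, one_mul]
      exact (D.el_inj (hn.symm.trans this)).2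
    · exfalso
      simp only [Subgroup.coe_mul] at e
      have e2 : (h : G) * D.q v * (h : G)⁻¹ = D.q v * D.tt := by
        rw [e, mul_assoc (D.q v), ht.eq, ← mul_assoc, mul_inv_cancel_right]
      refine D.tt_not_Q ?_
      rw [show D.tt = (D.q v)⁻¹ * ((h : G) * D.q v * (h : G)⁻¹) by rw [e2, inv_mul_cancel_left], hn]
      exact mul_mem (inv_mem (D.q_mem v)) (D.zz_q_mem_Q _ _)
  have hb : b.π = 1 ∧ b.g 1 = 1 ∧ b.g 2 = 1 := by
    have h0 := D.img_fix hI ht
    have key : ∀ i : Fin 3, i ≠ 0 → b.π i = i ∧ ∀ a, app2 (b.g i) a = a := fun i hi => by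
      have e : ∀ a, emb (b.π i) (app2 (b.g (b.π i)) a) = emb i a := fun a => by
        rw [← appB_emb]; exact hfix _ (emb_ne hi.symm a)
      have hπi : b.π i = i := by
        by_contra hne
        have := congrFun (e (1, 0)) i
        rw [emb_ne (Ne.symm hne), emb_self] at this
        exact absurd this (by decide)
      refine ⟨hπi, fun a => ?_⟩
      have := congrFun (e a) i
      rwa [hπi, emb_self, emb_self] at this
    refine ⟨Equiv.ext fun i => ?_, ?_, ?_⟩
    · fin_cases i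
      exacts [h0, (key 1 (by decide)).1, (key 2 (by decide)).1]
    · exact CfsgLib.U6Three.app2_inj _ _ (by rw [(key 1 (by decide)).2, CfsgLib.U6Three.app2_one])
        (by rw [(key 1 (by decide)).2, CfsgLib.U6Three.app2_one])
    · exact CfsgLib.U6Three.app2_inj _ _ (by rw [(key 2 (by decide)).2, CfsgLib.U6Three.app2_one])
        (by rw [(key 2 (by decide)).2, CfsgLib.U6Three.app2_one])
  have := D.qb_of (D.in_Qt hI ht hb.1 hb.2.1 hb.2.2) hz
  exact (show (⟨D.mkT h, D.mk_CZ hz⟩ : D.CZ) = x from Subtype.ext eh) ▸ this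

theorem qb_pgroup : IsPGroup 3 D.Qb := fun x => by
  obtain ⟨h, hh, e⟩ := D.mem_Qb.mp x.2
  refine ⟨1, Subtype.ext (Subtype.ext ?_)⟩
  show ((x : D.CZ) : D.TC ⧸ D.NT) ^ 3 = 1
  rw [← e, ← map_pow, show h ^ 3 = 1 from Subtype.ext (D.qt_cube hh), map_one]

theorem iterate_cube {b : Bk} : ∀ n : ℕ, (b ^ 3 ^ n).π = b.π ^ 3 ^ n := fun n => by
  induction 3 ^ n with
  | zero => rfl
  | succ m ih => rw [pow_succ, pow_succ, mul_π, ih]

theorem pCore_eq : Cfsg.pCore 3 D.CZ = D.Qb := by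
  haveI : Fact (Nat.Prime 3) := ⟨Nat.prime_three⟩
  have hle : D.Qb ≤ Cfsg.pCore 3 D.CZ := CfsgLib.le_pCore D.qb_pgroup
  refine le_antisymm (fun x hx => ?_) hle
  obtain ⟨h, eh, hz⟩ := D.lift_CZ x.2
  obtain ⟨b, hI⟩ := D.img_exists hz
  have ht := D.mem_TC.mp h.2
  have h0 := D.img_fix hI ht
  -- images of elements of the core of order a power of three
  have tors : ∀ {y : D.CZ} {g : D.TC} {c : Bk}, y ∈ Cfsg.pCore 3 D.CZ → D.mkT g = y → D.Img (g : G) c →
      ∃ n : ℕ, c ^ 3 ^ n = 1 ∨ c ^ 3 ^ n = sB (one1 0) := fun {y g c} hy eg hc => by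
    obtain ⟨n, hn⟩ := CfsgLib.isPGroup_pCore (p := 3) (G := D.CZ) ⟨y, hy⟩
    refine ⟨n, ?_⟩
    have e : D.mkT (g ^ 3 ^ n) = D.mkT 1 := by
      rw [map_pow, map_one, eg]
      exact congrArg (fun z : Cfsg.pCore 3 D.CZ => ((z : D.CZ) : D.TC ⧸ D.NT)) hn
    rcases D.mk_eq e.symm with r | r <;> rw [Subgroup.coe_pow] at r
    · left
      have := hc.pow (3 ^ n)
      rw [r] at this
      exact this.unique (D.img_Q (one_mem _))
    · right
      have := hc.pow (3 ^ n)
      rw [r, Subgroup.coe_one, one_mul] at this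
      exact this.unique (D.img_acts (D.sg_acts _))
  have hπ : b.π = 1 := by
    obtain ⟨n, hn⟩ := tors hx eh hI
    have e : b.π ^ 3 ^ n = 1 := by rw [← iterate_cube]; rcases hn with e | e <;> rw [e] <;> rfl
    have h2 : b.π ^ 2 = 1 := by
      rw [pow_two]
      exact (by decide +kernel : ∀ p : Equiv.Perm (Fin 3), p 0 = 0 → p * p = 1) _ h0
    obtain ⟨m, hm⟩ : Odd (3 ^ n) := (by decide : Odd 3).pow
    rwa [hm, pow_succ, pow_mul, h2, one_pow, one_mul] at e
  have hcomm : ∀ w : Fin 3 → SL23, D.Pq w → ∀ i, i ≠ 0 → b.g i * w i * (b.g i)⁻¹ = w i := by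
    intro w hw i hi
    obtain ⟨s, hs⟩ := hw.2
    have hst : Commute s D.tt := by
      have := D.sg_comm hs (one1 0)
      rw [show (fun i => one1 0 ((dg w).π.symm i)) = one1 0 from rfl, mul_inv_eq_iff_eq_mul] at this
      exact this
    set sT : D.TC := ⟨s, D.mem_TC.mpr hst⟩
    set p : D.CZ := ⟨D.mkT sT, D.mk_CZ hs.1.cz⟩
    have hy : x * p * x⁻¹ * p⁻¹ ∈ Cfsg.pCore 3 D.CZ := by
      rw [show x * p * x⁻¹ * p⁻¹ = x * (p * x⁻¹ * p⁻¹) by group]
      exact mul_mem hx ((inferInstance : (Cfsg.pCore 3 D.CZ).Normal).conj_mem _ (inv_mem hx) p)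
    have hc := ((hI.mul (D.img_acts hs)).mul hI.inv).mul (D.img_acts hs).inv
    obtain ⟨n, hn⟩ := tors (g := h * sT * h⁻¹ * sT⁻¹) hy (by rw [map_mul, map_mul, map_mul, map_inv, map_inv, eh]; rfl) hc
    have hs' : ∀ k, b.π.symm k = k := fun k => by rw [hπ]; rfl
    have e1 : b * dg w * b⁻¹ = dg fun i => b.g i * w i * (b.g i)⁻¹ := by rw [conj_dg]; simp only [hs']
    have e2 : b * dg w * b⁻¹ * (dg w)⁻¹ = dg fun i => b.g i * w i * (b.g i)⁻¹ * (w i)⁻¹ := by
      refine mul_inv_eq_iff_eq_mul.mpr ?_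
      rw [e1, dg_mul]
      exact congrArg dg (funext fun i => (inv_mul_cancel_right _ _).symm)
    rw [e2] at hn
    have hpw : ∀ (f : Fin 3 → SL23) (m : ℕ), dg f ^ m = dg (f ^ m) := fun f m => by
      induction m with
      | zero => rfl
      | succ m ih => rw [pow_succ, ih, dg_mul, pow_succ]
    rw [hpw] at hn
    have hz : (b.g i * w i * (b.g i)⁻¹ * (w i)⁻¹) ^ 3 ^ n = 1 := by
      rcases hn with e | e
      · have := congrArg (fun C : Bk => C.g i) e
        simpa [dg_g, one_g] using this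
      · have := congrArg (fun C : Bk => C.g i) e
        simpa [dg_g, sB, one1, hi, sgn] using this
    have h4 : (b.g i * w i * (b.g i)⁻¹ * (w i)⁻¹) ^ 4 = 1 := by
      rw [show (4 : ℕ) = 2 * 2 from rfl, pow_mul, pow_two, pow_two]
      exact sl_odd_quartic _ (ψ_comm _ _)
    have ho : orderOf (b.g i * w i * (b.g i)⁻¹ * (w i)⁻¹) ∣ Nat.gcd 4 (3 ^ n) :=
      Nat.dvd_gcd (orderOf_dvd_of_pow_eq_one h4) (orderOf_dvd_of_pow_eq_one hz)
    rw [show Nat.gcd 4 (3 ^ n) = 1 from Nat.Coprime.pow_right n (by norm_num), Nat.dvd_one, orderOf_eq_one_iff] at ho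
    exact mul_inv_eq_one.mp ho
  have hb : ∀ i, i ≠ 0 → b.g i = 1 ∨ b.g i = -1 := fun i hi => by
    obtain ⟨w, hw, wi, -⟩ := D.pq_pair qA qA ψ_qA ψ_qA (i := i) (j := 0) hi
    have e1 := hcomm w hw i hi
    rw [wi] at e1
    obtain ⟨w', hw', wi', -⟩ := D.pq_pair qX qA (qmap_facts.1 (.xa 0)) ψ_qA (i := i) (j := 0) hi
    have e2 := hcomm w' hw' i hi
    rw [wi'] at e2
    exact (by decide +kernel : ∀ a : SL23, a * qA * a⁻¹ = qA → a * qX * a⁻¹ = qX → a = 1 ∨ a = -1) _ e1 e2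
  -- the signs of the last two planes are killed by the odd order
  obtain ⟨n, hn⟩ := tors hx eh hI
  have hone : ∀ i, i ≠ 0 → b.g i = 1 := fun i hi => (hb i hi).resolve_right fun e => by
    have hs' : ∀ k, b.π.symm k = k := fun k => by rw [hπ]; rfl
    have hpw : ∀ m : ℕ, (b ^ m).g i = b.g i ^ m := fun m => by
      induction m with
      | zero => rfl
      | succ m ih =>
        rw [pow_succ', mul_g, hs', ih, ← pow_succ']
    have hodd : Odd (3 ^ n) := (by decide : Odd 3).pow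
    have hsi : (sB (one1 0)).g i = 1 := by simp [sB, dg_g, one1, hi, sgn]
    have h1 : (b ^ 3 ^ n).g i = 1 := by
      rcases hn with r | r <;> rw [r]
      · rfl
      · exact hsi
    rw [hpw, e, hodd.neg_one_pow] at h1
    exact absurd h1 (by decide)
  have := D.qb_of (D.in_Qt hI ht hπ (hone 1 (by decide)) (hone 2 (by decide))) hz
  exact (show (⟨D.mkT h, D.mk_CZ hz⟩ : D.CZ) = x from Subtype.ext eh) ▸ this

theorem gfit : Cfsg.generalizedFittingSubgroup D.CZ = D.Qb := by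
  haveI : Fact (Nat.Prime 3) := ⟨Nat.prime_three⟩
  rw [← D.pCore_eq]
  refine (CfsgLib.Comp.gfit_eq_pCore_iff 3).mpr ?_
  rw [D.pCore_eq]
  exact D.cent_Qb

theorem qb_extraspecial : Cfsg.IsExtraspecial 3 D.Qb := by
  haveI : Fact (Nat.Prime 3) := ⟨Nat.prime_three⟩
  refine CfsgLib.McLThree.Weak.extraspecial_of_equiv (MonoidHom.ofInjective D.φQ_inj) ?_
  set zq : D.Qt := ⟨D.zz 1, 1, 0, V0.zero_mem, by rw [D.q_zero, mul_one]⟩
  have hz1 : zq ≠ 1 := fun h => D.z_ne (by rw [← D.zz_one]; exact congrArg Subtype.val h)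
  have hmem : ∀ c : ZMod 3, ∀ g : D.Qt, (g : G) = D.zz c → g ∈ Subgroup.zpowers zq := fun c g e =>
    Subgroup.mem_zpowers_iff.mpr ⟨c.val, Subtype.ext (by
      rw [zpow_natCast, Subgroup.coe_pow, e]
      show D.zz 1 ^ c.val = _
      rw [D.zz_one]; rfl)⟩
  refine CfsgLib.SymplecticTypeP.isExtraspecial_of
    (fun x => ⟨1, Subtype.ext (by simpa using D.qt_cube x.2)⟩) (z := zq)
    (orderOf_eq_prime (Subtype.ext (by simpa using D.qt_cube zq.2)) hz1) (fun g => ?_) (fun g h => ?_) (fun g hg => ?_) ?_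
  · rw [show g ^ 3 = 1 from Subtype.ext (by simpa using D.qt_cube g.2)]
    exact one_mem _
  · obtain ⟨a, v, hv, e⟩ := g.2
    obtain ⟨c, w, hw, e'⟩ := h.2
    refine hmem (om v w) _ ?_
    show (g : G) * (h : G) * (g : G)⁻¹ * (h : G)⁻¹ = _
    rw [e, e', show D.zz a * D.q v * (D.zz c * D.q w) * (D.zz a * D.q v)⁻¹ =
      D.zz a * (D.q v * D.zz c * (D.q v)⁻¹ * (D.q v * D.q w * (D.q v)⁻¹)) * (D.zz a)⁻¹ by group,
      D.conj_zz (D.q_z v), D.q_conj, ← mul_assoc (D.zz c), ← D.zz_add, ← mul_assoc (D.zz a), ← D.zz_add,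
      mul_assoc (D.zz _) (D.q w), ← ((D.zz_q a w).inv_left).eq, ← mul_assoc (D.zz _), ← D.zz_neg, ← D.zz_add,
      mul_inv_rev, ← mul_assoc, mul_inv_cancel_right, ← D.zz_neg, ← D.zz_add]
    congr 1; ring
  · obtain ⟨a, v, hv, e⟩ := g.2
    have hv0 : v = 0 := by
      have key : ∀ i, i ≠ 0 → v i = 0 := fun i hi => by
        by_contra hne
        obtain ⟨b, hb⟩ := det2_ne _ hne
        have hm : D.q (emb i b) ∈ D.Qt := ⟨0, emb i b, emb_ne hi.symm b, by rw [D.zz_zero, one_mul]⟩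
        have hc : Commute (g : G) (D.q (emb i b)) := congrArg Subtype.val (hg ⟨_, hm⟩)
        rw [e] at hc
        have := (D.zz_q a (emb i b)).inv_left.mul_left hc
        rw [inv_mul_cancel_left, D.q_comm, om_emb] at this
        exact hb this
      funext i
      fin_cases i
      exacts [hv, key 1 (by decide), key 2 (by decide)]
    exact hmem a g (by rw [e, hv0, D.q_zero, mul_one])
  · refine ⟨⟨D.q (emb 1 (1, 0)), 0, _, emb_ne (show (0 : Fin 3) ≠ 1 by decide) _, by rw [D.zz_zero, one_mul]⟩,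
      ⟨D.q (emb 1 (0, 1)), 0, _, emb_ne (show (0 : Fin 3) ≠ 1 by decide) _, by rw [D.zz_zero, one_mul]⟩, fun h => ?_⟩
    have := D.q_comm.mp (congrArg Subtype.val h : D.q (emb 1 (1, 0)) * D.q (emb 1 (0, 1)) = _)
    rw [om_emb, emb_self] at this
    exact det2_std this

theorem center_qb : Subgroup.center D.Qb = (Subgroup.center D.CZ).subgroupOf D.Qb := by
  ext y
  rw [Subgroup.mem_subgroupOf]
  constructor
  · intro hy
    obtain ⟨w, hw⟩ := y.2
    have hc : ∀ u : D.Qt, Commute w u := fun u => D.φQ_inj (by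
      rw [map_mul, map_mul, hw]
      exact congrArg Subtype.val (Subgroup.mem_center_iff.mp hy ⟨D.φQ u, u, rfl⟩).symm)
    obtain ⟨a, v, hv, e⟩ := w.2
    have hv0 : v = 0 := by
      have key : ∀ i, i ≠ 0 → v i = 0 := fun i hi => by
        by_contra hne
        obtain ⟨b, hb⟩ := det2_ne _ hne
        have hm : D.q (emb i b) ∈ D.Qt := ⟨0, emb i b, emb_ne hi.symm b, by rw [D.zz_zero, one_mul]⟩
        have h1 : Commute (w : G) (D.q (emb i b)) := congrArg Subtype.val (hc ⟨_, hm⟩)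
        rw [e] at h1
        have := (D.zz_q a (emb i b)).inv_left.mul_left h1
        rw [inv_mul_cancel_left, D.q_comm, om_emb] at this
        exact hb this
      funext i
      fin_cases i
      exacts [hv, key 1 (by decide), key 2 (by decide)]
    rw [hv0, D.q_zero, mul_one] at e
    refine Subgroup.mem_center_iff.mpr fun x => Subtype.ext ?_
    rw [← hw]
    show (x : D.TC ⧸ D.NT) * D.mkT ⟨w.1, _⟩ = D.mkT ⟨w.1, _⟩ * x
    rw [show (⟨w.1, D.qt_TC w.2⟩ : D.TC) = D.zT ^ a.val from Subtype.ext e, map_pow]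
    exact (D.mem_CZ.mp x.2).pow_right _
  · intro hy
    exact Subgroup.mem_center_iff.mpr fun x => Subtype.ext (Subgroup.mem_center_iff.mp hy x.1)

end Setting

end CfsgLib.Fi22Loc
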