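import Cfsg.Agent.Lib.Fi22Loc.Cent
import Cfsg.Agent.S2994

/-!
The centraliser of the involution of one plane modulo it has a normal unitary group of dimension six over four elements.
-/

set_option autoImplicit false
set_option synthInstance.maxSize 1024

namespace CfsgLib.Fi22Loc

open CfsgLib.U6Three (V2 SL23 det2 app2)

universe u

theorem ψ_mul_sgn : ∀ (a : SL23) (t : Bool), ψ (a * Setting.sgn t) = ψ a := by decide +kernel

namespace Setting

variable {G : Type u} [Group G] (D : Setting G)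

/-- A lift commuting with the central element. -/
noncomputable def rep (x : D.CZ) : D.TC := (D.lift_CZ x.2).choose

theorem rep_spec (x : D.CZ) : D.mkT (D.rep x) = x ∧ Commute (D.rep x : G) D.z := (D.lift_CZ x.2).choose_spec

/-- The class of a lift. -/
noncomputable def bx (x : D.CZ) : Bk := D.im (D.rep x)

theorem bx_img (x : D.CZ) : D.Img (D.rep x) (D.bx x) := D.im_spec (D.rep_spec x).2

theorem bx_spec {x : D.CZ} {h : D.TC} {b : Bk} (e : D.mkT h = x) (hI : D.Img (h : G) b) :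
    b.π = (D.bx x).π ∧ (∀ i, i ≠ 0 → b.g i = (D.bx x).g i) ∧ (∀ i, ψ (b.g i) = ψ ((D.bx x).g i)) := by
  rcases D.mk_eq ((D.rep_spec x).1.trans e.symm) with r | r
  · rw [r] at hI
    obtain rfl := hI.unique (D.bx_img x)
    exact ⟨rfl, fun _ _ => rfl, fun _ => rfl⟩
  · rw [r] at hI
    obtain rfl := hI.unique ((D.bx_img x).mul (D.img_acts (D.sg_acts (one1 0))))
    have hg : ∀ i, ((D.bx x) * sB (one1 0)).g i = (D.bx x).g i * sgn (one1 0 ((D.bx x).π.symm i)) := fun i => by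
      simp [mul_g, sB, dg_g]
    refine ⟨by rw [mul_π, show (sB (one1 0)).π = 1 from rfl, mul_one], fun i hi => ?_,
      fun i => by rw [hg, ψ_mul_sgn]⟩
    have h0 := D.img_fix (D.bx_img x) (D.mem_TC.mp (D.rep x).2)
    rw [hg]
    have : one1 0 ((D.bx x).π.symm i) = false := by
      simp only [one1, decide_eq_false_iff_not]
      intro h
      exact hi (((D.bx x).π.apply_symm_apply i).symm.trans (by rw [h, h0]))
    simp [this, sgn]

/-- The classes in the product of the quaternion groups. -/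
noncomputable def P2 : Subgroup D.CZ where
  carrier := {x | (D.bx x).π = 1 ∧ ∀ i, ψ ((D.bx x).g i) = 0}
  one_mem' := by
    obtain ⟨e1, -, e3⟩ := D.bx_spec (x := 1) (h := 1) (map_one _) (D.img_Q (one_mem _))
    exact ⟨e1.symm, fun i => by rw [← e3, one_g, ψ_one]⟩
  mul_mem' := by
    rintro x y ⟨hx, hx'⟩ ⟨hy, hy'⟩
    obtain ⟨e1, -, e3⟩ := D.bx_spec (x := x * y) (h := D.rep x * D.rep y)
      (by rw [map_mul, (D.rep_spec x).1, (D.rep_spec y).1]; rfl) ((D.bx_img x).mul (D.bx_img y))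
    refine ⟨by rw [← e1, mul_π, hx, hy, one_mul], fun i => ?_⟩
    rw [← e3, mul_g, ψ_mul, hx', hy', add_zero]
  inv_mem' := by
    rintro x ⟨hx, hx'⟩
    obtain ⟨e1, -, e3⟩ := D.bx_spec (x := x⁻¹) (h := (D.rep x)⁻¹)
      (by rw [map_inv, (D.rep_spec x).1]; rfl) ((D.bx_img x).inv)
    have h1 : ((D.bx x)⁻¹).π = 1 := by
      have h := congrArg (fun C : Bk => C.π) (inv_mul_cancel (D.bx x))
      simp only [mul_π, hx, mul_one] at h
      exact h
    refine ⟨e1.symm.trans h1, fun i => ?_⟩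
    have h2 := congrArg (fun C : Bk => ψ (C.g i)) (inv_mul_cancel (D.bx x))
    simp only [mul_g, ψ_mul, one_g, ψ_one, hx', add_zero] at h2
    rw [← e3]; exact h2

instance P2_normal : D.P2.Normal := ⟨fun x hx y => by
  obtain ⟨hπ, hψ⟩ := hx
  obtain ⟨e1, -, e3⟩ := D.bx_spec (x := y * x * y⁻¹) (h := D.rep y * D.rep x * (D.rep y)⁻¹)
    (by rw [map_mul, map_mul, map_inv, (D.rep_spec x).1, (D.rep_spec y).1]; rfl)
    (((D.bx_img y).mul (D.bx_img x)).mul (D.bx_img y).inv)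
  rw [eq_dg hπ, conj_dg] at e1 e3
  refine ⟨e1.symm.trans (dg_π _), fun i => ?_⟩
  rw [← e3, dg_g, ψ_conj]
  exact hψ _⟩

/-- The two components. -/
noncomputable def pr : D.P2 →* K8 × K8 where
  toFun x := (⟨(D.bx x).g 1, x.2.2 1⟩, ⟨(D.bx x).g 2, x.2.2 2⟩)
  map_one' := by
    obtain ⟨-, e2, -⟩ := D.bx_spec (x := ((1 : D.P2) : D.CZ)) (h := 1) (map_one _) (D.img_Q (one_mem _))
    exact Prod.ext (Subtype.ext ((e2 1 (by decide)).symm)) (Subtype.ext ((e2 2 (by decide)).symm))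
  map_mul' x y := by
    obtain ⟨-, e2, -⟩ := D.bx_spec (x := ((x * y : D.P2) : D.CZ)) (h := D.rep x * D.rep y)
      (by rw [map_mul, (D.rep_spec _).1, (D.rep_spec _).1]; rfl) ((D.bx_img _).mul (D.bx_img _))
    have hs : ∀ k, (D.bx x).π.symm k = k := fun k => by rw [x.2.1]; rfl
    refine Prod.ext (Subtype.ext ?_) (Subtype.ext ?_)
    · show (D.bx _).g 1 = (D.bx x).g 1 * (D.bx y).g 1
      rw [← e2 1 (by decide), mul_g, hs]
    · show (D.bx _).g 2 = (D.bx x).g 2 * (D.bx y).g 2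
      rw [← e2 2 (by decide), mul_g, hs]

theorem pr_surj : Function.Surjective D.pr := by
  rintro ⟨⟨a, ha⟩, ⟨c, hc⟩⟩
  obtain ⟨w, hw, w1, w2⟩ := D.pq_pair a c ha hc (show (1 : Fin 3) ≠ 2 by decide)
  obtain ⟨s, hs⟩ := hw.2
  have hst : Commute s D.tt := by
    have := D.sg_comm hs (one1 0)
    rw [show (fun i => one1 0 ((dg w).π.symm i)) = one1 0 from rfl, mul_inv_eq_iff_eq_mul] at this
    exact this
  obtain ⟨e1, e2, e3⟩ := D.bx_spec (x := ⟨D.mkT ⟨s, D.mem_TC.mpr hst⟩, D.mk_CZ hs.1.cz⟩)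
    (h := ⟨s, D.mem_TC.mpr hst⟩) rfl (D.img_acts hs)
  refine ⟨⟨_, e1.symm.trans (dg_π _), fun i => by rw [← e3, dg_g]; exact hw.1 i⟩, ?_⟩
  refine Prod.ext (Subtype.ext ?_) (Subtype.ext ?_)
  · show (D.bx _).g 1 = a
    rw [← e2 1 (by decide), dg_g, w1]
  · show (D.bx _).g 2 = c
    rw [← e2 2 (by decide), dg_g, w2]

theorem pr_ker : D.pr.ker = D.Qb.subgroupOf D.P2 := by
  ext x
  rw [MonoidHom.mem_ker, Subgroup.mem_subgroupOf]
  constructor
  · intro h
    have h1 : (D.bx x).g 1 = 1 := congrArg (fun p : K8 × K8 => (p.1 : SL23)) h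
    have h2 : (D.bx x).g 2 = 1 := congrArg (fun p : K8 × K8 => (p.2 : SL23)) h
    have := D.qb_of (D.in_Qt (D.bx_img x) (D.mem_TC.mp (D.rep x).2) x.2.1 h1 h2) (D.rep_spec x).2
    exact (show (⟨D.mkT (D.rep x), _⟩ : D.CZ) = x from Subtype.ext (D.rep_spec x).1) ▸ this
  · intro h
    obtain ⟨g, hg, e⟩ := D.mem_Qb.mp h
    obtain ⟨-, e2, -⟩ := D.bx_spec (x := (x : D.CZ)) (h := g) e (D.img_Q (D.mem_Qt.mp hg).1)
    exact Prod.ext (Subtype.ext (e2 1 (by decide)).symm) (Subtype.ext (e2 2 (by decide)).symm)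

variable [Finite G]

/-- The normal subgroup of the factor group. -/
theorem exists_quat : ∃ N : Subgroup (D.CZ ⧸ D.Qb), N.Normal ∧
    Nonempty (N ≃* QuaternionGroup 2 × QuaternionGroup 2) := by
  let f : D.P2 →* D.CZ ⧸ D.Qb := (QuotientGroup.mk' D.Qb).comp D.P2.subtype
  have hr : f.range = D.P2.map (QuotientGroup.mk' D.Qb) := by
    rw [MonoidHom.range_comp, Subgroup.range_subtype]
  have hk : f.ker = D.pr.ker := by
    rw [D.pr_ker]
    ext x
    simp [f, MonoidHom.mem_ker, Subgroup.mem_subgroupOf]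
  refine ⟨f.range, ?_, ⟨?_⟩⟩
  · rw [hr]; exact D.P2_normal.map _ (QuotientGroup.mk'_surjective _)
  · exact ((QuotientGroup.quotientKerEquivRange f).symm.trans (QuotientGroup.quotientMulEquivOfEq hk)).trans
      ((QuotientGroup.quotientKerEquivOfSurjective D.pr D.pr_surj).trans
        (quatEquiv.prodCongr quatEquiv).symm)

theorem zb_wc : Cfsg.IsWeaklyClosed (Subgroup.zpowers D.zb) (D.Qb.map D.CZ.subtype) := by
  refine ⟨Subgroup.zpowers_le.mpr ⟨⟨D.zb, D.mk_CZ (h := D.zT) (Commute.refl _)⟩,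
    D.mem_Qb.mpr ⟨D.zT, D.mem_Qt.mpr ⟨D.z_mem, D.tt_z.symm⟩, rfl⟩, rfl⟩, fun g hg => ?_⟩
  obtain ⟨g', rfl⟩ := D.mk_surj g
  obtain ⟨y, hy, ey⟩ := hg ⟨D.zb, Subgroup.mem_zpowers _, rfl⟩
  obtain ⟨a, ha, ea⟩ := D.mem_Qb.mp hy
  have e : D.mkT a = D.mkT (g' * D.zT * g'⁻¹) := by
    rw [ea, map_mul, map_mul, map_inv]
    exact ey
  obtain ⟨k, v, hv, eav⟩ := ha
  have h3 : ((g' : G) * D.z * (g' : G)⁻¹) ^ 3 = 1 := by rw [conj_pow, D.z_cube]; group
  have r : (g' : G) * D.z * (g' : G)⁻¹ = D.zz k * D.q v := by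
    rcases D.mk_eq e with r | r
    · rw [← eav]; exact r
    · exfalso
      rw [show (g' : G) * D.z * (g' : G)⁻¹ = (a : G) * D.tt from r, ((D.mem_TC.mp a.2)).mul_pow,
        show (a : G) ^ 3 = 1 from D.qt_cube ⟨k, v, hv, eav⟩, one_mul, pow_succ, pow_two, D.tt_sq, one_mul] at h3
      exact D.tt_ne h3
  have hv0 : v = 0 := by
    by_contra hne
    exact D.full r hne 0 hv
  rw [hv0, D.q_zero, mul_one] at r
  have hm : MulAut.conj (D.mkT g') D.zb ∈ Subgroup.zpowers D.zb :=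
    Subgroup.mem_zpowers_iff.mpr ⟨k.val, by
      rw [zpow_natCast, zb, MulAut.conj_apply, ← map_inv, ← map_mul, ← map_mul, ← map_pow]
      exact congrArg D.mkT (Subtype.ext r.symm)⟩
  apply Subgroup.eq_of_le_of_card_ge
  · rw [MonoidHom.map_zpowers, Subgroup.zpowers_le]; exact hm
  · rw [Subgroup.card_map_of_injective (MulEquiv.injective _)]

theorem zb_nwc : ¬ Cfsg.IsWeaklyClosed (Subgroup.zpowers D.zb) D.CZ := by
  intro hwc
  obtain ⟨g, hg, hc, hnQ⟩ := D.exists_cent_pt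
  let g' : D.TC := ⟨g, D.mem_TC.mpr hg⟩
  have hle : (Subgroup.zpowers D.zb).map (MulAut.conj (D.mkT g')).toMonoidHom ≤ D.CZ := by
    rw [MonoidHom.map_zpowers, Subgroup.zpowers_le, MulEquiv.coe_toMonoidHom, MulAut.conj_apply, zb, ← map_inv,
      ← map_mul, ← map_mul]
    exact D.mk_CZ hc
  have e := hwc.2 _ hle
  have hm : D.mkT (g' * D.zT * g'⁻¹) ∈ Subgroup.zpowers D.zb := by
    rw [← e]
    exact ⟨D.zb, Subgroup.mem_zpowers _, by simp [zb]⟩
  obtain ⟨n, hn⟩ := Subgroup.mem_zpowers_iff.mp hm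
  rw [zb, ← map_zpow] at hn
  have hz : D.z ^ n ∈ D.Q := zpow_mem D.z_mem n
  have h3 : (g * D.z * g⁻¹) ^ 3 = 1 := by rw [conj_pow, D.z_cube]; group
  rcases D.mk_eq hn with r | r
  · exact hnQ (show g * D.z * g⁻¹ ∈ D.Q from (show g * D.z * g⁻¹ = D.z ^ n from r) ▸ hz)
  · rw [show g * D.z * g⁻¹ = D.z ^ n * D.tt from r, ((D.tt_z.symm).zpow_left n).mul_pow, D.Q_cube hz, one_mul,
      pow_succ, pow_two, D.tt_sq, one_mul] at h3
    exact D.tt_ne h3

/-- The image of the centraliser of the involution has a unitary generalised Fitting subgroup. -/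
theorem unitary : (∃ (F : Type) (_ : Field F) (_ : Fintype F), Fintype.card F = 4 ∧
      Nonempty (↥(Cfsg.generalizedFittingSubgroup (D.TC ⧸ D.NT)) ≃* Cfsg.PSU 6 F 2)) ∧
    Subgroup.centralizer ((Cfsg.generalizedFittingSubgroup (D.TC ⧸ D.NT) : Subgroup (D.TC ⧸ D.NT)) :
      Set (D.TC ⧸ D.NT)) = ⊥ := by
  refine Cfsg.Agent.S2994.result (Subgroup.zpowers D.zb) D.card_zb D.CZ rfl ?_ ?_ ?_ ?_ ?_ D.zb_nwc
  · rw [D.gfit]; exact D.qb_extraspecial
  · rw [D.gfit, D.card_Qb]; norm_num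
  · rw [D.gfit]; exact D.center_qb
  · rw [D.gfit]; exact ⟨inferInstance, D.exists_quat⟩
  · rw [D.gfit]; exact D.zb_wc

end Setting

end CfsgLib.Fi22Loc
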