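import Cfsg.Agent.Lib.Fi22Loc.Rigid

/-!
Conjugates of the central element in its centraliser and outside the core: orbits, kills, and the group of signs
moved to the partner.
-/

set_option autoImplicit false
set_option synthInstance.maxSize 1024

namespace CfsgLib.Fi22Loc

open CfsgLib.U6Three (V2 SL23 det2 app2)

universe u

/-- A vector on the axis of a matrix of order three. -/
def ax (g : SL23) : V2 :=
  if (1, 0) - app2 g (1, 0) = 0 then (0, 1) - app2 g (0, 1) else (1, 0) - app2 g (1, 0)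

theorem ax_spec : ∀ g : SL23, g * g * g = 1 → g ≠ 1 → ax g ≠ 0 ∧ app2 g (ax g) = ax g ∧
    (∀ c, app2 g c = c → ∃ n : ZMod 3, c = n • ax g) ∧ ∀ n : ZMod 3, ∃ c, c - app2 g c = n • ax g := by
  decide +kernel

theorem app2_smul : ∀ (g : SL23) (n : ZMod 3) (a : V2), app2 g (n • a) = n • app2 g a := by decide +kernel

theorem move_exists : ∀ g : SL23, g * g * g = 1 → g ≠ 1 → ∃ a, app2 g (a - app2 g a) = a - app2 g a ∧
    a - app2 g a ≠ 0 ∧ det2 a (app2 g a) ≠ 0 := by decide +kernel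

theorem zmod_three_nz : ∀ a b c : ZMod 3, a ≠ 0 → b ≠ 0 → c ≠ 0 →
    a + b + c = 0 ∨ a + b = 0 ∨ a + c = 0 ∨ b + c = 0 := by decide +kernel

theorem perm_inv_cycle : ∀ π ρ : Equiv.Perm (Fin 3), ρ * ρ = 1 → π * π * π = 1 → π ≠ 1 → ρ * π = π * ρ → ρ = 1 := by
  decide +kernel

theorem perm_two_inv : ∀ π ρ : Equiv.Perm (Fin 3), ρ * ρ = 1 → π * π = 1 → ρ * π = π * ρ → π ≠ 1 → ρ = 1 ∨ ρ = π := by
  decide +kernel

theorem sl_sq_one : ∀ g : SL23, g * g = 1 → g = 1 ∨ g = -1 := by decide +kernel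

theorem symm_sign : ∀ π : Equiv.Perm (Fin 3), π * π = 1 → π ≠ 1 →
    Fintype.card {f : Fin 3 → Bool // ∀ i, f (π i) = f i} = 4 ∧
      ∃ k, (∀ i, decide (π i = k) = decide (i = k)) := by decide +kernel

/-- An involutory block matrix without permutation part is a sign. -/
theorem eq_sB {A : Bk} (h : A * A = 1) (hπ : A.π = 1) : A = Setting.sB fun i => decide (A.g i = -1) := by
  refine Bk.ext' hπ fun i => ?_
  have e : A.g i * A.g i = 1 := by
    have := congrArg (fun c : Bk => c.g i) h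
    have e1 : A.π.symm i = i := by rw [hπ]; rfl
    simpa only [mul_g, one_g, e1] using this
  rcases sl_sq_one _ e with e' | e' <;> simp [Setting.sB, dg_g, Setting.sgn, e'] <;> decide

namespace Setting

variable {G : Type u} [Group G] (D : Setting G)

theorem zz_q_mem_Q (k : ZMod 3) (v : V6) : D.zz k * D.q v ∈ D.Q := ⟨k, v, rfl⟩

theorem z_mem : D.z ∈ D.Q := by rw [← D.zz_one]; exact D.zz_mem 1

theorem img_cube {x : G} {X : Bk} (hx : D.Img x X) (x3 : x ^ 3 = 1) : X * X * X = 1 := by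
  have := hx.pow 3
  rw [x3, pow_succ, pow_two] at this
  exact this.unique (D.img_Q (one_mem _))

theorem img_sq {x : G} {X : Bk} (hx : D.Img x X) (x2 : x * x = 1) : X * X = 1 := by
  have := hx.mul hx
  rw [x2] at this
  exact this.unique (D.img_Q (one_mem _))

theorem img_commute {x y : G} {X Y : Bk} (hx : D.Img x X) (hy : D.Img y Y) (h : Commute x y) : X * Y = Y * X := by
  have := hx.mul hy
  rw [h.eq] at this
  exact this.unique (hy.mul hx)

theorem conj_back {g x : G} (h : Commute x (g * D.z * g⁻¹)) : Commute (g⁻¹ * x * g) D.z := by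
  have := h.map (MulAut.conj g⁻¹).toMonoidHom
  simpa [mul_assoc] using this

theorem cube_conj {g x : G} (h : x ^ 3 = 1) : (g⁻¹ * x * g) ^ 3 = 1 := by
  calc (g⁻¹ * x * g) ^ 3 = g⁻¹ * x ^ 3 * g := by simp only [pow_succ, pow_zero, one_mul]; group
    _ = 1 := by rw [h]; group

theorem pt_cube (g : G) : (g * D.z * g⁻¹) ^ 3 = 1 := by rw [conj_pow, D.z_cube]; group

/-- A conjugate outside the core comes with a block matrix and a translation. -/
theorem pt_shape {g : G} (hc : Commute (g * D.z * g⁻¹) D.z) (hQ : g * D.z * g⁻¹ ∉ D.Q) :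
    ∃ u s b, g * D.z * g⁻¹ = D.q u * s ∧ D.Acts s b ∧ b * b * b = 1 ∧ b ≠ 1 ∧
      u + appB b u + appB b (appB b u) = 0 := by
  obtain ⟨u, s, b, e, hb⟩ := D.cases_H hc
  have him := D.img_of (u := u) hb
  rw [← e] at him
  refine ⟨u, s, b, e, hb, D.img_cube him (D.pt_cube g), fun h1 => hQ (Img.mem_Q (h1 ▸ him)), ?_⟩
  have h3 : (D.q u * s) ^ 3 = 1 := e ▸ D.pt_cube g
  have hs3 : D.Acts (s * s * s) 1 := D.img_cube him (D.pt_cube g) ▸ (hb.mul hb).mul hb
  obtain ⟨k, hk⟩ := hs3.trivial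
  rw [show (D.q u * s) ^ 3 = D.q u * (s * D.q u * s⁻¹) * ((s * s) * D.q u * (s * s)⁻¹) * (s * s * s) by
    simp only [pow_succ, pow_zero, one_mul]; group, hb.2, (hb.mul hb).2, appB_mul, hk, D.q_mul', mul_assoc (D.zz _),
    D.q_mul', ← mul_assoc (D.zz _), ← D.zz_add, mul_assoc, ← (D.zz_q k _).eq, ← mul_assoc, ← D.zz_add] at h3
  exact (D.q_inj _ _ h3).2

/-- No point in the core outside the centre. -/
def WC : Prop := ∀ (g : G) (k : ZMod 3) (v : V6), g * D.z * g⁻¹ = D.zz k * D.q v → v = 0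

variable {D}

theorem WC.pt_Q (W : D.WC) {g : G} (h : g * D.z * g⁻¹ ∈ D.Q) : ∃ k, g * D.z * g⁻¹ = D.zz k := by
  obtain ⟨k, v, e⟩ := h
  rw [W g k v e, D.q_zero, mul_one] at e
  exact ⟨k, e⟩

/-- The partner of a conjugate outside the core is outside the core. -/
theorem WC.partner (W : D.WC) {g : G} (hQ : g * D.z * g⁻¹ ∉ D.Q) : g⁻¹ * D.z * g ∉ D.Q := fun h => by
  obtain ⟨k, e⟩ := W.pt_Q (g := g⁻¹) (by rwa [inv_inv])
  rw [inv_inv] at e
  refine hQ ?_
  have hk : k = 1 ∨ k = 2 := by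
    rcases (by decide : ∀ k : ZMod 3, k = 0 ∨ k = 1 ∨ k = 2) k with rfl | r
    · exact absurd (by
        have := congrArg (fun x => g * x * g⁻¹) e
        simpa [mul_assoc, D.zz_zero] using this) D.z_ne
    · exact r
  have e2 : g * D.zz k * g⁻¹ = D.z := by rw [← e]; group
  rcases hk with rfl | rfl
  · rw [D.zz_one] at e2; rw [e2]; exact D.z_mem
  · have : g * D.z * g⁻¹ = (g * D.zz 2 * g⁻¹) ^ 2 := by
      rw [conj_pow, pow_two (D.zz 2), ← D.zz_add, show (2 : ZMod 3) + 2 = 1 from by decide, D.zz_one]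
    rw [this, e2]
    exact pow_mem D.z_mem 2

/-- The fixed vectors orthogonal to the translation form an isotropic set. -/
theorem WC.isotropic (W : D.WC) {g s : G} {u : V6} {b : Bk} (hQ : g * D.z * g⁻¹ ∉ D.Q)
    (e : g * D.z * g⁻¹ = D.q u * s) (hb : D.Acts s b) {v w : V6} (hv : appB b v = v) (hw : appB b w = w)
    (uv : om u v = 0) (uw : om u w = 0) : om v w = 0 := by
  have cy : ∀ {v : V6}, appB b v = v → om u v = 0 → Commute (D.q v) (g * D.z * g⁻¹) := fun {v} h h' => by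
    rw [e]
    exact ((D.q_comm.mpr h').mul_left (hb.comm_q h)).symm
  by_contra hne
  have hc : g⁻¹ * D.q v * g * (g⁻¹ * D.q w * g) * (g⁻¹ * D.q v * g)⁻¹ * (g⁻¹ * D.q w * g)⁻¹ =
      g⁻¹ * D.zz (om v w) * g := by
    calc _ = g⁻¹ * (D.q v * D.q w * (D.q v)⁻¹ * (D.q w)⁻¹) * g := by group
      _ = _ := by rw [D.q_conj, mul_inv_cancel_right]
  have h := comm_mem_Q (D.conj_back (cy hv uv)) (D.conj_back (cy hw uw)) (cube_conj (D.q_cube v))
    (cube_conj (D.q_cube w)) (by rw [hc]; exact cube_conj (D.Q_cube (D.zz_mem _)))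
  rw [hc] at h
  refine W.partner hQ ?_
  rcases (by decide : ∀ k : ZMod 3, k ≠ 0 → k = 1 ∨ k = 2) _ hne with r | r <;> rw [r] at h
  · rwa [D.zz_one] at h
  · have h2 := D.Q.pow_mem h 2
    have e1 : (g⁻¹ * D.zz 2 * g) ^ 2 = g⁻¹ * D.z * g := by
      rw [pow_two, show g⁻¹ * D.zz 2 * g * (g⁻¹ * D.zz 2 * g) = g⁻¹ * (D.zz 2 * D.zz 2) * g by group, ← D.zz_add,
        show (2 : ZMod 3) + 2 = 1 from by decide, D.zz_one]
    rwa [e1] at h2

/-- The exponent of the orbit element. -/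
def oexp (b : Bk) (u v : V6) : ZMod 3 := -om v u + om v (appB b v) + om u (appB b v)

/-- The orbit of a conjugate under the core. -/
theorem orbit {g s : G} {u : V6} {b : Bk} (e : g * D.z * g⁻¹ = D.q u * s) (hb : D.Acts s b) (v : V6)
    (h0 : om u (v - appB b v) = 0) :
    D.q v * (g * D.z * g⁻¹) * (D.q v)⁻¹ = D.zz (oexp b u v) * D.q (v - appB b v) * (g * D.z * g⁻¹) := by
  rw [e, show D.q v * (D.q u * s) * (D.q v)⁻¹ = D.q v * D.q u * (s * D.q (-v) * s⁻¹) * s by rw [← D.q_inv]; group,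
    hb.2, appB_neg, D.q_mul', mul_assoc (D.zz _), D.q_mul', ← mul_assoc (D.zz _), ← D.zz_add,
    show D.zz (oexp b u v) * D.q (v - appB b v) * (D.q u * s) = D.zz (oexp b u v) * (D.q (v - appB b v) * D.q u) * s
      by group,
    D.q_mul', ← mul_assoc (D.zz _), ← D.zz_add, om_swap u (v - appB b v), h0, om_neg_right, om_add_left]
  simp only [neg_neg, neg_zero, add_zero, oexp]
  congr 2
  · congr 1; ring
  · congr 1; abel

/-- A nontrivial orbit element leaves the core. -/
theorem WC.orbit_out (W : D.WC) {g s : G} {u : V6} {b : Bk} (hQ : g * D.z * g⁻¹ ∉ D.Q)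
    (e : g * D.z * g⁻¹ = D.q u * s) (hb : D.Acts s b) (v : V6) (hw : appB b (v - appB b v) = v - appB b v)
    (h0 : om u (v - appB b v) = 0) (h1 : ¬(oexp b u v = 0 ∧ v - appB b v = 0)) :
    Commute (D.zz (oexp b u v) * D.q (v - appB b v)) (g * D.z * g⁻¹) ∧
      g⁻¹ * (D.zz (oexp b u v) * D.q (v - appB b v)) * g ∉ D.Q := by
  set c := D.zz (oexp b u v) * D.q (v - appB b v) with hc
  have cy : Commute c (g * D.z * g⁻¹) := by
    rw [e]
    refine (Commute.mul_left ?_ ((D.q_comm.mpr h0).mul_left (hb.comm_q hw)).symm)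
    exact ((D.zz_q _ u).mul_right ((D.zz_comm hb.1.cz _).symm))
  refine ⟨cy, fun h => ?_⟩
  obtain ⟨k, ek⟩ := W.pt_Q (g := g⁻¹ * D.q v * g) (by
    rw [show g⁻¹ * D.q v * g * D.z * (g⁻¹ * D.q v * g)⁻¹ =
      g⁻¹ * (D.q v * (g * D.z * g⁻¹) * (D.q v)⁻¹) * g by group, D.orbit e hb v h0, ← hc,
      show g⁻¹ * (c * (g * D.z * g⁻¹)) * g = g⁻¹ * c * g * D.z by group]
    exact mul_mem h D.z_mem)
  have e2 : c = g * D.zz (k - 1) * g⁻¹ := by
    have e3 : c * (g * D.z * g⁻¹) = g * D.zz k * g⁻¹ := by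
      rw [hc, ← D.orbit e hb v h0, ← ek]; group
    rw [show c = c * (g * D.z * g⁻¹) * (g * D.z * g⁻¹)⁻¹ by group, e3, sub_eq_add_neg, D.zz_add, D.zz_neg, D.zz_one]
    group
  have cQ : c ∈ D.Q := D.zz_q_mem_Q _ _
  rcases (by decide : ∀ k : ZMod 3, k = 0 ∨ k = 1 ∨ k = 2) (k - 1) with r | r | r <;> rw [r] at e2
  · rw [D.zz_zero, mul_one, mul_inv_cancel] at e2
    exact h1 (D.el_inj (l := 0) (w := 0) (by rw [← hc, e2, D.zz_zero, D.q_zero, one_mul]))
  · rw [D.zz_one] at e2; exact hQ (e2 ▸ cQ)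
  · refine hQ ?_
    have : g * D.z * g⁻¹ = c ^ 2 := by
      rw [e2, conj_pow, pow_two (D.zz 2), ← D.zz_add, show (2 : ZMod 3) + 2 = 1 from by decide, D.zz_one]
    rw [this]; exact pow_mem cQ 2

/-- An element inverted by one acting on the partner without permutation stays in the core. -/
theorem kill {g f c : G} {F : Bk} (hF : D.Img (g⁻¹ * f * g) F) (hπ : F.π = 1) (hc : Commute c (g * D.z * g⁻¹))
    (c3 : c ^ 3 = 1) (hfc : f * c * f⁻¹ = c⁻¹) : g⁻¹ * c * g ∈ D.Q := by
  obtain ⟨C, hC⟩ := D.img_exists (D.conj_back hc)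
  have h := hC.conj hF
  rw [show g⁻¹ * f * g * (g⁻¹ * c * g) * (g⁻¹ * f * g)⁻¹ = (g⁻¹ * c * g)⁻¹ by
    rw [show (g⁻¹ * c * g)⁻¹ = g⁻¹ * c⁻¹ * g by group, ← hfc]; group] at h
  have e := h.unique hC.inv
  have c3' := D.img_cube hC (cube_conj c3)
  have hCπ : C.π = 1 := by
    have e1 := congrArg Bk.π e
    simp only [mul_π, inv_π, hπ, one_mul, inv_one, mul_one] at e1
    exact (by decide +kernel : ∀ p : Equiv.Perm (Fin 3), p * p * p = 1 → p = p⁻¹ → p = 1) _ (bk_cube_π c3') e1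
  have ecv : cv C = 0 := funext fun i => by
    have e2 := congrArg (fun B : Bk => ψ (B.g i)) e
    have hs : ∀ k, F.π.symm k = k := fun k => by rw [hπ]; rfl
    have hs' : ∀ k, C.π.symm k = k := fun k => by rw [hCπ]; rfl
    have hp : F.π i = i := by rw [hπ]; rfl
    have hp' : C.π i = i := by rw [hCπ]; rfl
    have hm : (F * C).π.symm i = i := by rw [mul_π, hπ, hCπ]; rfl
    simp only [mul_g, hm, inv_g, hs, hp, hp', ψ_mul, ψ_inv] at e2
    refine (by decide : ∀ a b : ZMod 3, b + a + -b = -a → a = 0) _ (ψ (F.g i)) e2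
  exact Img.mem_Q (eq_one_of_tr c3' ⟨hCπ, ecv⟩ ▸ hC)

/-- A conjugate in the Levi part whose partner takes the inverting involution without permutation moves no vector to a
fixed one with trivial form value. -/
theorem WC.no_levi (W : D.WC) {g s : G} {b : Bk} (hQ : g * D.z * g⁻¹ ∉ D.Q) (e : g * D.z * g⁻¹ = s) (hb : D.Acts s b)
    {F : Bk} (hF : D.Img (g⁻¹ * D.j * g) F) (hπ : F.π = 1) {v : V6} (hw : appB b (v - appB b v) = v - appB b v)
    (h0 : om v (appB b v) = 0) (hne : v - appB b v ≠ 0) : False := by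
  have e' : g * D.z * g⁻¹ = D.q 0 * s := by rw [D.q_zero, one_mul, e]
  have ho : oexp b 0 v = 0 := by simp [oexp, om_zero_left, om_zero_right, h0]
  obtain ⟨hc, hn⟩ := W.orbit_out hQ e' hb v hw (om_zero_left _) (fun h => hne h.2)
  rw [ho, D.zz_zero, one_mul] at hc hn
  exact hn (kill hF hπ hc (D.q_cube _) (by rw [inv_eq_of_mul_eq_one_right D.j_sq, D.j_q, D.q_inv]))

/-- The signs moved to the partner: they contain the scalar and a single one, and no cycle centralises them. -/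
theorem sign_image {g : G} (hg : ∀ e, Commute (D.sg e) (g * D.z * g⁻¹)) :
    (∃ e, D.Img (g⁻¹ * D.sg e * g) negB) ∧ (∃ e k, D.Img (g⁻¹ * D.sg e * g) (sB fun i => decide (i = k))) ∧
      ∀ {y : G} {B : Bk}, D.Img y B → (∀ e, Commute (g⁻¹ * D.sg e * g) y) → B.π * B.π * B.π = 1 → B.π = 1 := by
  classical
  set A : (Fin 3 → Bool) → Bk := fun e => D.im (g⁻¹ * D.sg e * g) with hA
  have hi : ∀ e, D.Img (g⁻¹ * D.sg e * g) (A e) := fun e => D.im_spec (D.conj_back (hg e))
  have hmul : ∀ e e', A e * A e' = A fun i => xor (e i) (e' i) := fun e e' => by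
    refine ((hi e).mul (hi e')).unique ?_
    rw [show g⁻¹ * D.sg e * g * (g⁻¹ * D.sg e' * g) = g⁻¹ * (D.sg e * D.sg e') * g by group, D.sg_mul]
    exact hi _
  have hsq : ∀ e, A e * A e = 1 := fun e => D.img_sq (hi e) (by
    rw [show g⁻¹ * D.sg e * g * (g⁻¹ * D.sg e * g) = g⁻¹ * (D.sg e * D.sg e) * g by group, D.sg_sq]; group)
  have hinj : Function.Injective A := fun e e' h => by
    have h1 : A (fun i => xor (e i) (e' i)) = 1 := by rw [← hmul, h, hsq]
    have hQ : g⁻¹ * D.sg (fun i => xor (e i) (e' i)) * g ∈ D.Q := Img.mem_Q (h1 ▸ hi _)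
    have h2 : (g⁻¹ * D.sg (fun i => xor (e i) (e' i)) * g) ^ 2 = 1 := by
      rw [pow_two, show g⁻¹ * D.sg (fun i => xor (e i) (e' i)) * g * (g⁻¹ * D.sg (fun i => xor (e i) (e' i)) * g) =
        g⁻¹ * (D.sg (fun i => xor (e i) (e' i)) * D.sg (fun i => xor (e i) (e' i))) * g by group, D.sg_sq]; group
    have h3 := D.Q_cube hQ
    rw [pow_succ, h2, one_mul] at h3
    have h4 : D.sg (fun i => xor (e i) (e' i)) = 1 := by
      have := congrArg (fun x => g * x * g⁻¹) h3
      simpa [mul_assoc] using this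
    funext i
    have h5 := congrFun (sB_inj (((D.sg_acts _).unique (h4 ▸ D.acts_one)).trans
      (show (1 : Bk) = sB fun _ => false from rfl))) i
    simpa using h5
  have hcomm : ∀ e e', (A e).π * (A e').π = (A e').π * (A e).π := fun e e' => by
    rw [← mul_π, ← mul_π, hmul, hmul]; simp only [Bool.xor_comm]
  have hπsq : ∀ e, (A e).π * (A e).π = 1 := fun e => by rw [← mul_π, hsq, one_π]
  let f : (Fin 3 → Bool) → Fin 3 → Bool := fun e i => decide ((A e).g i = -1)
  have hf : ∀ e, (A e).π = 1 → A e = sB (f e) := fun e h => eq_sB (hsq e) h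
  by_cases hall : ∀ e, (A e).π = 1
  · have hs : Function.Surjective f :=
      (Finite.injective_iff_surjective).mp fun e e' h => hinj (by rw [hf e (hall e), hf e' (hall e'), h])
    have surj : ∀ F, ∃ e, D.Img (g⁻¹ * D.sg e * g) (sB F) := fun F => by
      obtain ⟨e, he⟩ := hs F
      exact ⟨e, he ▸ hf e (hall e) ▸ hi e⟩
    refine ⟨surj fun _ => true, ?_, fun {y B} hy hc h3 => ?_⟩
    · obtain ⟨e, he⟩ := surj fun i => decide (i = 0)
      exact ⟨e, 0, he⟩
    · by_contra hne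
      obtain ⟨e, he⟩ := surj fun i => decide (i = 0)
      have := congrArg (fun C : Bk => C.g (B.π 0)) (D.img_commute he hy (hc e))
      have hs' : ∀ k, (sB fun i => decide (i = (0 : Fin 3))).π.symm k = k := fun k => rfl
      simp only [mul_g, hs', sB, dg_g, Equiv.symm_apply_apply] at this
      have hB : B.π 0 ≠ 0 := (by decide +kernel : ∀ p : Equiv.Perm (Fin 3), p * p * p = 1 → p ≠ 1 → p 0 ≠ 0) _ h3 hne
      simp only [hB, decide_false, decide_true, sgn] at this
      revert this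
      exact (by decide +kernel : ∀ a : SL23, ¬ ((if false = true then -1 else 1) * a = a * if true = true then -1 else 1)) _
  · push Not at hall
    obtain ⟨e1, he1⟩ := hall
    set τ := (A e1).π
    have hor : ∀ e, (A e).π = 1 ∨ (A e).π = τ := fun e =>
      perm_two_inv τ (A e).π (hπsq e) (hπsq e1) (hcomm e e1) he1
    obtain ⟨h4, k, hk⟩ := symm_sign τ (hπsq e1) he1
    have hfix : ∀ e, (A e).π = 1 → ∀ i, f e (τ i) = f e i := fun e he i => by
      have h : sB (f e) * A e1 = A e1 * sB (f e) := by rw [← hf e he, hmul, hmul]; simp only [Bool.xor_comm]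
      have h' := congrArg (fun C : Bk => C.g (τ i)) h
      have hs' : ∀ k, (sB (f e)).π.symm k = k := fun k => rfl
      simp only [mul_g, hs', sB, dg_g, show (A e1).π.symm (τ i) = i from Equiv.symm_apply_apply _ _] at h'
      exact (by decide +kernel : ∀ (p q : Bool) (a : SL23), sgn p * a = a * sgn q → p = q) _ _ _ h'
    let K := {e : Fin 3 → Bool // (A e).π = 1}
    let φ : K → {F : Fin 3 → Bool // ∀ i, F (τ i) = F i} := fun e => ⟨f e.1, hfix e.1 e.2⟩
    have φi : Function.Injective φ := fun e e' h => Subtype.ext (hinj (by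
      rw [hf e.1 e.2, hf e'.1 e'.2, show f e.1 = f e'.1 from congrArg Subtype.val h]))
    have ht : ∀ e, (A e).π ≠ 1 → (A fun i => xor (e i) (e1 i)).π = 1 := fun e he => by
      rw [← hmul, mul_π, (hor e).resolve_left he]; exact hπsq e1
    have h8 : Fintype.card (Fin 3 → Bool) ≤ Fintype.card (Bool × K) := by
      refine Fintype.card_le_of_injective (fun e => if h : (A e).π = 1 then (false, ⟨e, h⟩) else (true, ⟨_, ht e h⟩))
        fun e e' h => ?_
      by_cases a : (A e).π = 1 <;> by_cases b : (A e').π = 1 <;> simp [a, b] at h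
      · exact congrArg Subtype.val h
      · exact funext fun i => by simpa using congrFun (congrArg Subtype.val h) i
    simp only [Fintype.card_prod, Fintype.card_bool, Fintype.card_fun, Fintype.card_fin] at h8
    have hs : Function.Surjective φ :=
      ((Fintype.bijective_iff_injective_and_card φ).mpr
        ⟨φi, le_antisymm (Fintype.card_le_of_injective φ φi) (by omega)⟩).2
    have surj : ∀ F, (∀ i, F (τ i) = F i) → ∃ e, D.Img (g⁻¹ * D.sg e * g) (sB F) := fun F hF => by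
      obtain ⟨e, he⟩ := hs ⟨F, hF⟩
      have e1 : f e.1 = F := congrArg Subtype.val he
      exact ⟨e.1, by rw [← e1, ← hf e.1 e.2]; exact hi _⟩
    refine ⟨by rw [← sB_all]; exact surj (fun _ => true) (fun _ => rfl), ?_, fun {y B} hy hc h3 => ?_⟩
    · obtain ⟨e, he⟩ := surj (fun i => decide (i = k)) hk
      exact ⟨e, k, he⟩
    · by_contra hne
      have := congrArg Bk.π (D.img_commute (hi e1) hy (hc e1))
      rw [mul_π, mul_π] at this
      exact he1 (perm_inv_cycle _ _ (hπsq e1) h3 hne this)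

end Setting

end CfsgLib.Fi22Loc
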