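import Cfsg.Agent.Lib.Fi22Loc.Vec
import Cfsg.Agent.Lib.Fi22Loc.Points

/-!
Conjugates of the central element in the core: they have full support, and the realised classes contain a cycle and
a constant diagonal element.
-/

set_option autoImplicit false
set_option synthInstance.maxSize 1024

namespace CfsgLib.Fi22Loc

open CfsgLib.U6Three (V2 SL23 det2 app2)

universe u

theorem det2_two' : ∀ x y : V2, x ≠ 0 → y ≠ 0 → ∃ b b', det2 x b + det2 y b' = 0 ∧ det2 x b ≠ 0 := by decide +kernel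

theorem fix_perp : ∀ (g : SL23) (a c : V2), a ≠ 0 → app2 g a = a → det2 a c = 0 → app2 g c = c := by decide +kernel

theorem card_A3 : Fintype.card {π : Equiv.Perm (Fin 3) // π * π * π = 1} = 3 := by decide +kernel

/-- Two vectors orthogonal to a given one and not to each other. -/
theorem perp_pair {v : V6} (hv : v ≠ 0) : ∃ a c, om v a = 0 ∧ om v c = 0 ∧ om a c ≠ 0 := by
  obtain ⟨i, hi⟩ := Function.ne_iff.mp hv
  obtain ⟨k, hk⟩ : ∃ k : Fin 3, k ≠ i := ⟨i + 1, (by decide : ∀ i : Fin 3, i + 1 ≠ i) i⟩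
  by_cases h : v k = 0
  · refine ⟨emb k (1, 0), emb k (0, 1), ?_, ?_, ?_⟩ <;> rw [om_emb] <;> simp [h, det2, emb_self]
  · obtain ⟨b, b', e, ne⟩ := det2_two' _ _ h hi
    refine ⟨emb k (v k), emb k b + emb i b', by rw [om_emb]; simp [det2]; ring,
      by rw [om_add_right, om_emb, om_emb, e], ?_⟩
    rw [om_add_right, om_emb, om_emb, emb_self, emb_ne hk.symm]
    simpa [det2] using ne

namespace Setting

variable {G : Type u} [Group G] {D : Setting G}

theorem zz_smul_q (D : Setting G) (n k : ZMod 3) (v : V6) :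
    (D.zz k * D.q v) ^ n.val = D.zz (n * k) * D.q (n • v) := by
  have e : ∀ m : ℕ, D.q v ^ m = D.q ((m : ZMod 3) • v) := fun m => by
    induction m with
    | zero => simp [D.q_zero]
    | succ m ih =>
      rw [pow_succ, ih, D.q_mul', om_smul_left, om_self, mul_zero, neg_zero, D.zz_zero, one_mul, Nat.cast_succ,
        add_smul, one_smul]
  rw [(D.zz_q k v).mul_pow, e, ZMod.natCast_val, ZMod.cast_id', id, zz, ← pow_mul, D.zz_nat, Nat.cast_mul,
    ZMod.natCast_val, ZMod.natCast_val, ZMod.cast_id', id, id, mul_comm k n]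

/-- A conjugate in the core outside the centre. -/
def CPt (D : Setting G) (g : G) (k : ZMod 3) (v : V6) : Prop := g * D.z * g⁻¹ = D.zz k * D.q v ∧ v ≠ 0

variable {g : G} {k : ZMod 3} {v : V6}

theorem CPt.commute (P : D.CPt g k v) {w : V6} (hw : om v w = 0) : Commute (D.q w) (g * D.z * g⁻¹) := by
  rw [P.1]
  exact ((D.zz_q k w).symm).mul_right ((D.q_comm.mpr hw).symm)

theorem CPt.back (P : D.CPt g k v) {w : V6} (hw : om v w = 0) : Commute (g⁻¹ * D.q w * g) D.z :=
  D.conj_back (P.commute hw)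

theorem CPt.zcomm (P : D.CPt g k v) : Commute (g * D.z * g⁻¹) D.z := P.1 ▸ D.Q_z (D.zz_q_mem_Q k v)

/-- The partner of a conjugate in the core lies in the core. -/
theorem CPt.partner (P : D.CPt g k v) : ∃ k' v', D.CPt g⁻¹ k' v' := by
  obtain ⟨a, c, ha, hc, hne⟩ := perp_pair P.2
  have hz : g⁻¹ * D.q a * g * (g⁻¹ * D.q c * g) * (g⁻¹ * D.q a * g)⁻¹ * (g⁻¹ * D.q c * g)⁻¹ =
      g⁻¹ * D.zz (om a c) * g := by
    calc _ = g⁻¹ * (D.q a * D.q c * (D.q a)⁻¹ * (D.q c)⁻¹) * g := by group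
      _ = _ := by rw [D.q_conj, mul_inv_cancel_right]
  have h := comm_mem_Q (P.back ha) (P.back hc) (cube_conj (D.q_cube a)) (cube_conj (D.q_cube c))
    (by rw [hz]; exact cube_conj (D.Q_cube (D.zz_mem _)))
  rw [hz] at h
  have h1 : g⁻¹ * D.z * g ∈ D.Q := by
    rcases (by decide : ∀ k : ZMod 3, k ≠ 0 → k = 1 ∨ k = 2) _ hne with r | r <;> rw [r] at h
    · rwa [D.zz_one] at h
    · have h2 := D.Q.pow_mem h 2
      have e1 : (g⁻¹ * D.zz 2 * g) ^ 2 = g⁻¹ * D.z * g := by
        rw [pow_two, show g⁻¹ * D.zz 2 * g * (g⁻¹ * D.zz 2 * g) = g⁻¹ * (D.zz 2 * D.zz 2) * g by group, ← D.zz_add,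
          show (2 : ZMod 3) + 2 = 1 from by decide, D.zz_one]
      rwa [e1] at h2
  obtain ⟨k', v', e⟩ := h1
  refine ⟨k', v', by rw [inv_inv]; exact e, fun h0 => P.2 ?_⟩
  rw [h0, D.q_zero, mul_one] at e
  have e2 : g * D.zz k' * g⁻¹ = D.z := by rw [← e]; group
  rcases (by decide : ∀ k : ZMod 3, k = 0 ∨ k = 1 ∨ k = 2) k' with r | r | r <;> rw [r] at e2
  · rw [D.zz_zero, mul_one, mul_inv_cancel] at e2; exact absurd e2.symm D.z_ne
  · rw [D.zz_one] at e2
    have := P.1.symm.trans e2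
    rw [← D.zz_one, ← mul_one (D.zz 1), ← D.q_zero] at this
    exact (D.el_inj this).2
  · have e3 : g * D.z * g⁻¹ = (g * D.zz 2 * g⁻¹) ^ 2 := by
      rw [conj_pow, pow_two (D.zz 2), ← D.zz_add, show (2 : ZMod 3) + 2 = 1 from by decide, D.zz_one]
    rw [e2, pow_two, ← D.zz_one, ← D.zz_add] at e3
    have := P.1.symm.trans (D.zz_one ▸ e3)
    rw [← mul_one (D.zz (1 + 1)), ← D.q_zero] at this
    exact (D.el_inj this).2

/-- A conjugate in the core with its partner. -/
structure Duo (D : Setting G) (g : G) (k : ZMod 3) (v : V6) (k' : ZMod 3) (v' : V6) : Prop where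
  pt : D.CPt g k v
  pt' : D.CPt g⁻¹ k' v'

variable {k' : ZMod 3} {v' : V6} (P : D.Duo g k v k' v')

theorem Duo.eq' (_P : D.Duo g k v k' v') : g⁻¹ * D.z * g = D.zz k' * D.q v' := by simpa using _P.pt'.1

include P

theorem Duo.symm : D.Duo g⁻¹ k' v' k v := ⟨P.pt', by rw [inv_inv]; exact P.pt⟩

theorem Duo.zz_back (n : ZMod 3) : g⁻¹ * D.zz n * g = D.zz (n * k') * D.q (n • v') := by
  rw [← D.zz_smul_q, ← P.eq', zz,
    show g⁻¹ * D.z * g = g⁻¹ * D.z * g⁻¹⁻¹ by rw [inv_inv], conj_pow, inv_inv]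

theorem Duo.zz_back_mem (n : ZMod 3) : g⁻¹ * D.zz n * g ∈ D.Q := P.zz_back n ▸ D.zz_q_mem_Q _ _

/-- The block matrix of a vector orthogonal to the conjugate, moved to the partner. -/
theorem Duo.img {w : V6} (hw : om v w = 0) : D.Img (g⁻¹ * D.q w * g) (D.im (g⁻¹ * D.q w * g)) :=
  D.im_spec (P.pt.back hw)

theorem Duo.im_cube {w : V6} (hw : om v w = 0) :
    D.im (g⁻¹ * D.q w * g) * D.im (g⁻¹ * D.q w * g) * D.im (g⁻¹ * D.q w * g) = 1 :=
  D.img_cube (P.img hw) (cube_conj (D.q_cube w))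

theorem Duo.im_add {w w' : V6} (hw : om v w = 0) (hw' : om v w' = 0) :
    D.im (g⁻¹ * D.q (w + w') * g) = D.im (g⁻¹ * D.q w * g) * D.im (g⁻¹ * D.q w' * g) := by
  refine D.im_eq ?_
  have h := (D.img_Q (P.zz_back_mem (om w w'))).mul ((P.img hw).mul (P.img hw'))
  rw [one_mul, show g⁻¹ * D.zz (om w w') * g * (g⁻¹ * D.q w * g * (g⁻¹ * D.q w' * g)) =
    g⁻¹ * (D.zz (om w w') * (D.q w * D.q w')) * g by group, D.q_mul', ← mul_assoc (D.zz _), ← D.zz_add,
    add_neg_cancel, D.zz_zero, one_mul] at h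
  exact h

theorem Duo.fix {w : V6} (hw : om v w = 0) : appB (D.im (g⁻¹ * D.q w * g)) v' = v' := by
  set h := g⁻¹ * D.q w * g
  obtain ⟨a, ha⟩ := (P.img hw).2 v'
  have hc : Commute h (D.zz k' * D.q v') := by
    rw [← P.eq']
    have := (D.q_z w).map (MulAut.conj g⁻¹).toMonoidHom
    simpa [h, mul_assoc] using this
  have e : h * (D.zz k' * D.q v') * h⁻¹ = D.zz k' * D.q v' := by rw [hc.eq, mul_inv_cancel_right]
  rw [show h * (D.zz k' * D.q v') * h⁻¹ = h * D.zz k' * h⁻¹ * (h * D.q v' * h⁻¹) by group,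
    D.conj_zz (P.pt.back hw), ha, ← mul_assoc, ← D.zz_add] at e
  exact (D.el_inj e).2

/-- The commutator with an element landing in the core. -/
theorem Duo.move {w w' : V6} (hw : om v w = 0) {a : ZMod 3} {β : V6}
    (h' : g⁻¹ * D.q w' * g = D.zz a * D.q β) :
    appB (D.im (g⁻¹ * D.q w * g)) β = β + om w w' • v' := by
  set h := g⁻¹ * D.q w * g with hh
  obtain ⟨c, hc⟩ := (P.img hw).2 β
  have e : h * (D.zz a * D.q β) * h⁻¹ = g⁻¹ * D.zz (om w w') * g * (D.zz a * D.q β) := by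
    rw [← h', hh, show g⁻¹ * D.q w * g * (g⁻¹ * D.q w' * g) * (g⁻¹ * D.q w * g)⁻¹ =
      g⁻¹ * (D.q w * D.q w' * (D.q w)⁻¹) * g by group, D.q_conj]; group
  rw [show h * (D.zz a * D.q β) * h⁻¹ = h * D.zz a * h⁻¹ * (h * D.q β * h⁻¹) by group,
    D.conj_zz (P.pt.back hw), hc, P.zz_back, ← mul_assoc, ← D.zz_add,
    mul_assoc (D.zz (om w w' * k')), ← mul_assoc (D.q _) (D.zz a), ← (D.zz_q a _).eq, mul_assoc (D.zz a), D.q_mul',
    ← mul_assoc (D.zz a), ← D.zz_add, ← mul_assoc, ← D.zz_add] at e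
  rw [(D.el_inj e).2, add_comm]

theorem Duo.image_perp {w' : V6} {a : ZMod 3} {β : V6} (h' : g⁻¹ * D.q w' * g = D.zz a * D.q β) :
    om v' β = 0 := by
  have hc : Commute (D.zz k' * D.q v') (D.zz a * D.q β) := by
    rw [← h', ← P.eq']
    have := ((D.q_z w').symm).map (MulAut.conj g⁻¹).toMonoidHom
    simpa [mul_assoc] using this
  refine D.q_comm.mp ?_
  have e : ∀ n (x : V6) (y : G), Commute (D.zz n * D.q x) y → Commute (D.zz n) y → Commute (D.q x) y :=
    fun n x y h1 h2 => by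
      have := h2.inv_left.mul_left h1
      rwa [inv_mul_cancel_left] at this
  have hh := e k' v' _ hc (((Commute.refl D.z).pow_pow _ _).mul_right (D.zz_q k' β))
  exact (e a β _ hh.symm ((D.zz_q a v'))).symm

/-- The vectors sent into the core. -/
def Duo.ker : AddSubgroup V6 where
  carrier := {w | om v w = 0 ∧ D.im (g⁻¹ * D.q w * g) = 1}
  zero_mem' := ⟨om_zero_right v, D.im_eq (by rw [D.q_zero, mul_one, inv_mul_cancel]; exact D.img_Q (one_mem _))⟩
  add_mem' := fun {a c} ha hc => ⟨by rw [om_add_right, ha.1, hc.1, add_zero],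
    by rw [P.im_add ha.1 hc.1, ha.2, hc.2, mul_one]⟩
  neg_mem' := fun {a} ha => by
    have h : om v (-a) = 0 := by rw [om_neg_right, ha.1, neg_zero]
    refine ⟨h, ?_⟩
    have e := P.im_add h ha.1
    rw [neg_add_cancel, ha.2, mul_one] at e
    rw [← e]
    exact D.im_eq (by rw [D.q_zero, mul_one, inv_mul_cancel]; exact D.img_Q (one_mem _))

theorem Duo.mem_ker {w : V6} : w ∈ P.ker ↔ om v w = 0 ∧ D.im (g⁻¹ * D.q w * g) = 1 := Iff.rfl

theorem Duo.ker_elt {w : V6} (hw : w ∈ P.ker) : ∃ a β, g⁻¹ * D.q w * g = D.zz a * D.q β := by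
  have h := P.img hw.1
  rw [hw.2] at h
  exact h.mem_Q

theorem Duo.v_ker : v ∈ P.ker := by
  refine ⟨om_self v, D.im_eq (D.img_Q ?_)⟩
  rw [show g⁻¹ * D.q v * g = (g⁻¹ * D.zz k * g)⁻¹ * (g⁻¹ * (D.zz k * D.q v) * g) by group, ← P.pt.1,
    show g⁻¹ * (g * D.z * g⁻¹) * g = D.z by group]
  exact mul_mem (inv_mem (P.zz_back_mem k)) D.z_mem

theorem Duo.ker_iso : ∀ a ∈ P.ker, ∀ c ∈ P.ker, om a c = 0 := by
  intro a ha c hc
  obtain ⟨x, β, e⟩ := P.ker_elt ha
  obtain ⟨y, γ, e'⟩ := P.ker_elt hc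
  have h := P.move ha.1 e'
  rw [ha.2, appB_one] at h
  have h1 : om a c • v' = 0 := left_eq_add.mp h
  by_contra hne
  exact P.pt'.2 (by
    have := congrArg (om a c • ·) h1
    simp only [smul_smul, smul_zero, (by decide : ∀ t : ZMod 3, t ≠ 0 → t * t = 1) _ hne, one_smul] at this
    exact this)

/-- The images as a homomorphism. -/
noncomputable def Duo.hom : Multiplicative ↥(perpG v) →* Bk where
  toFun w := D.im (g⁻¹ * D.q w.toAdd.1 * g)
  map_one' := D.im_eq (by
    show D.Img (g⁻¹ * D.q (0 : V6) * g) 1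
    rw [D.q_zero, mul_one, inv_mul_cancel]; exact D.img_Q (one_mem _))
  map_mul' a c := P.im_add a.toAdd.2 c.toAdd.2

theorem Duo.counts : Nat.card P.ker * Nat.card P.hom.range = 243 ∧ Nat.card P.ker ≤ 27 := by
  refine ⟨?_, iso_bound _ P.ker_iso⟩
  have h := P.hom.ker.card_mul_index
  rw [Subgroup.index_ker, Nat.card_congr (Multiplicative.toAdd : Multiplicative ↥(perpG v) ≃ _), card_perpG P.pt.2] at h
  rw [← h]
  congr 1
  exact Nat.card_congr
    { toFun := fun w => ⟨Multiplicative.ofAdd ⟨w.1, w.2.1⟩, w.2.2⟩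
      invFun := fun w => ⟨w.1.toAdd.1, w.1.toAdd.2, w.2⟩
      left_inv := fun w => rfl
      right_inv := fun w => rfl }

theorem Duo.range_elt {x : Bk} (hx : x ∈ P.hom.range) :
    ∃ w, om v w = 0 ∧ D.im (g⁻¹ * D.q w * g) = x := by
  obtain ⟨w, rfl⟩ := hx
  exact ⟨w.toAdd.1, w.toAdd.2, rfl⟩

theorem Duo.range_cube {x : Bk} (hx : x ∈ P.hom.range) : x * x * x = 1 := by
  obtain ⟨w, hw, rfl⟩ := P.range_elt hx
  exact P.im_cube hw

theorem Duo.range_real {x : Bk} (hx : x ∈ P.hom.range) : D.Real x := by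
  obtain ⟨w, hw, rfl⟩ := P.range_elt hx
  exact D.img_real (P.img hw)

/-- Outside the kernel some vector of the kernel is moved. -/
theorem Duo.moved (h27 : Nat.card P.ker = 27) {w : V6} (hw : w ∉ P.ker) : ∃ w' ∈ P.ker, om w w' ≠ 0 := by
  by_contra hno
  push Not at hno
  set B : AddSubgroup V6 := P.ker ⊔ AddSubgroup.zmultiples w
  have hiso : ∀ a ∈ B, ∀ c ∈ B, om a c = 0 := by
    intro a ha c hc
    obtain ⟨a1, ha1, a2, ha2, rfl⟩ := AddSubgroup.mem_sup.mp ha
    obtain ⟨c1, hc1, c2, hc2, rfl⟩ := AddSubgroup.mem_sup.mp hc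
    obtain ⟨m, rfl⟩ := AddSubgroup.mem_zmultiples_iff.mp ha2
    obtain ⟨n, rfl⟩ := AddSubgroup.mem_zmultiples_iff.mp hc2
    simp only [← Int.cast_smul_eq_zsmul (ZMod 3), om_add_left, om_add_right, om_smul_left, om_smul_right,
      P.ker_iso _ ha1 _ hc1, hno _ hc1, om_swap w a1, hno _ ha1, om_self]
    ring
  have hle : Nat.card B ≤ Nat.card P.ker := h27.symm ▸ iso_bound B hiso
  exact hw ((AddSubgroup.eq_of_le_of_card_ge le_sup_left hle).symm ▸
    AddSubgroup.mem_sup_right (AddSubgroup.mem_zmultiples w))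

/-- A conjugate in the core: a cycle and a constant diagonal among the images, and full support of the partner. -/
theorem Duo.shape : (∀ i, v' i ≠ 0) ∧ Nat.card P.ker = 27 ∧
    (∃ w, om v w = 0 ∧ (D.im (g⁻¹ * D.q w * g)).π ≠ 1) ∧
      ∃ w c, om v w = 0 ∧ (D.im (g⁻¹ * D.q w * g)).π = 1 ∧ c ≠ 0 ∧ cv (D.im (g⁻¹ * D.q w * g)) = fun _ => c := by
  classical
  obtain ⟨hprod, hle⟩ := P.counts
  haveI : Fintype P.hom.range := Fintype.ofFinite _
  have h9 : 9 ≤ Nat.card P.hom.range := by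
    by_contra h
    have := Nat.mul_le_mul hle (show Nat.card P.hom.range ≤ 8 by omega)
    omega
  have fx : ∀ x ∈ P.hom.range, appB x v' = v' := fun x hx => by
    obtain ⟨w, hw, rfl⟩ := P.range_elt hx
    exact P.fix hw
  by_cases hσ : ∃ x ∈ P.hom.range, x.π ≠ 1
  · obtain ⟨σ, hσm, hσ⟩ := hσ
    have hc := bk_cube_π (P.range_cube hσm)
    have hconst : ∀ {x : Bk}, x ∈ P.hom.range → x.π = 1 → cv x = fun _ => cv x 0 := fun {x} hx hπ => by
      obtain ⟨e1, e2⟩ := D.diag_const (P.range_real hσm) hc hσ (P.range_real hx) hπ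
      funext i; fin_cases i
      exacts [rfl, e1.symm, (e1.trans e2).symm]
    have hinj : Function.Injective (fun x : P.hom.range =>
        ((⟨x.1.π, bk_cube_π (P.range_cube x.2)⟩ : {π : Equiv.Perm (Fin 3) // π * π * π = 1}), cv x.1 0)) := by
      intro x y h
      simp only [Prod.mk.injEq, Subtype.mk.injEq] at h
      have hπd : (x.1 * y.1⁻¹).π = 1 := by rw [mul_π, inv_π, h.1, mul_inv_cancel]
      have k0 : cv (x.1 * y.1⁻¹) 0 = 0 := by
        rw [cv_mul, show cv y.1⁻¹ (x.1.π.symm 0) = -cv y.1 (y.1.π (x.1.π.symm 0)) by rw [cv, inv_g, ψ_inv]; rfl,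
          h.1, Equiv.apply_symm_apply, h.2, add_neg_cancel]
      have hm := mul_mem x.2 (inv_mem y.2)
      exact Subtype.ext (mul_inv_eq_one.mp (eq_one_of_tr (P.range_cube hm) ⟨hπd, by rw [hconst hm hπd, k0]; rfl⟩))
    have hr := Nat.card_le_card_of_injective _ hinj
    rw [Nat.card_prod, Nat.card_zmod, Nat.card_eq_fintype_card (α := {π : Equiv.Perm (Fin 3) // π * π * π = 1}),
      card_A3] at hr
    have h27 : Nat.card P.ker = 27 := by
      have : Nat.card P.hom.range = 9 := le_antisymm hr h9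
      rw [this] at hprod; omega
    obtain ⟨i0, hi0⟩ := Function.ne_iff.mp P.pt'.2
    have hstep : ∀ i, v' i ≠ 0 → v' (σ.π i) ≠ 0 := fun i hi h => hi (by
      have := congrFun (fx σ hσm) (σ.π i)
      rw [appB, Equiv.symm_apply_apply, h] at this
      exact (by decide +kernel : ∀ (a : SL23) (x : V2), app2 a x = 0 → x = 0) _ _ this)
    refine ⟨fun i => ?_, h27, ?_, ?_⟩
    · rcases (by decide +kernel : ∀ (π : Equiv.Perm (Fin 3)), π * π * π = 1 → π ≠ 1 → ∀ m i : Fin 3,
        i = m ∨ π m = i ∨ π (π m) = i) σ.π hc hσ i0 i with e | e | e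
      exacts [e ▸ hi0, e ▸ hstep _ hi0, e ▸ hstep _ (hstep _ hi0)]
    · obtain ⟨w, hw, e⟩ := P.range_elt hσm
      exact ⟨w, hw, e ▸ hσ⟩
    · obtain ⟨x, hx1, hxπ⟩ : ∃ x : P.hom.range, x.1 ≠ 1 ∧ x.1.π = 1 := by
        by_contra hno
        push Not at hno
        have hi : Function.Injective (fun x : P.hom.range =>
            (⟨x.1.π, bk_cube_π (P.range_cube x.2)⟩ : {π : Equiv.Perm (Fin 3) // π * π * π = 1})) := fun x y h => by
          simp only [Subtype.mk.injEq] at h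
          by_contra hne
          exact hno ⟨_, mul_mem x.2 (inv_mem y.2)⟩ (fun e => hne (Subtype.ext (mul_inv_eq_one.mp e)))
            (by show (x.1 * y.1⁻¹).π = 1; rw [mul_π, inv_π, h, mul_inv_cancel])
        have := Nat.card_le_card_of_injective _ hi
        rw [Nat.card_eq_fintype_card (α := {π : Equiv.Perm (Fin 3) // π * π * π = 1}), card_A3] at this
        omega
      obtain ⟨w, hw, e⟩ := P.range_elt x.2
      refine ⟨w, cv x.1 0, hw, by rw [e]; exact hxπ, fun h => hx1 ?_, by rw [e]; exact hconst x.2 hxπ⟩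
      exact eq_one_of_tr (P.range_cube x.2) ⟨hxπ, by rw [hconst x.2 hxπ, h]; rfl⟩
  exfalso
  push Not at hσ
  have cinj : Function.Injective (fun x : P.hom.range => cv x.1) := fun x y h => Subtype.ext
    (diag_inj' (hσ _ x.2) (hσ _ y.2) h (P.range_cube (mul_mem x.2 (inv_mem y.2))))
  have g1 : ∀ {x : Bk}, x ∈ P.hom.range → ∀ i, cv x i = 0 → x.g i = 1 := fun {x} hx i h =>
    ψ_three _ (bk_cube_g (P.range_cube hx) (hσ _ hx) i) h
  have hd : ∀ {x : Bk}, x ∈ P.hom.range → ∀ (u : V6) i, appB x u i = app2 (x.g i) (u i) := fun {x} hx u i => by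
    show app2 _ (u (x.π.symm i)) = _
    rw [hσ _ hx]; rfl
  by_cases h27 : Nat.card P.ker = 27
  · -- an element trivial on a plane seen by the partner
    obtain ⟨i, hi⟩ := Function.ne_iff.mp P.pt'.2
    obtain ⟨x, y, hxy, he⟩ := Fintype.exists_ne_map_eq_of_card_lt (fun x : P.hom.range => cv x.1 i)
      (by rw [ZMod.card, ← Nat.card_eq_fintype_card]; omega)
    have hm := mul_mem x.2 (inv_mem y.2)
    obtain ⟨w, hw, e⟩ := P.range_elt hm
    have hwk : w ∉ P.ker := fun h => hxy (Subtype.ext (mul_inv_eq_one.mp (e ▸ h.2)))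
    have hgi : (x.1 * y.1⁻¹).g i = 1 := g1 hm i (by
      rw [cv_mul, show cv y.1⁻¹ (x.1.π.symm i) = -cv y.1 (y.1.π (x.1.π.symm i)) by rw [cv, inv_g, ψ_inv]; rfl,
        hσ _ x.2, hσ _ y.2]
      show cv x.1 i + -cv y.1 i = 0
      rw [he, add_neg_cancel])
    obtain ⟨w', hw', hne⟩ := P.moved h27 hwk
    obtain ⟨a, β, eβ⟩ := P.ker_elt hw'
    have := congrFun (P.move hw eβ) i
    rw [e, hd hm, hgi, CfsgLib.U6Three.app2_one, Pi.add_apply, left_eq_add, Pi.smul_apply] at this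
    exact hi ((by decide +kernel : ∀ (c : ZMod 3) (a : V2), c ≠ 0 → c • a = 0 → a = 0) _ _ hne this)
  · -- all images commute with what is sent into the core
    have hk9 : Nat.card P.ker ≤ 9 := by
      obtain ⟨i, hi, ei⟩ := (Nat.dvd_prime_pow Nat.prime_three (m := 5)).mp (Dvd.intro _ hprod : Nat.card P.ker ∣ 243)
      interval_cases i <;> omega
    have h3 : Nat.card (Fin 3 → ZMod 3) = 27 := by rw [Nat.card_pi, Fin.prod_const, Nat.card_zmod]; norm_num
    have hge : 27 ≤ Nat.card P.hom.range := by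
      by_contra h
      have := Nat.mul_le_mul hk9 (show Nat.card P.hom.range ≤ 26 by omega)
      omega
    have hr := h3 ▸ Nat.card_le_card_of_injective _ cinj
    have csurj := ((Nat.bijective_iff_injective_and_card _).mpr ⟨cinj, by rw [h3]; omega⟩).2
    have zero : ∀ (i : Fin 3) (w : V6), om v w = 0 → (∀ l, l ≠ i → cv (D.im (g⁻¹ * D.q w * g)) l = 0) →
        ∀ w' ∈ P.ker, om w w' = 0 := fun i w hw hl w' hw' => by
      obtain ⟨a, β, eβ⟩ := P.ker_elt hw'
      by_contra hne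
      set x := D.im (g⁻¹ * D.q w * g)
      have hx : x ∈ P.hom.range := ⟨Multiplicative.ofAdd ⟨w, hw⟩, rfl⟩
      have e : ∀ l, app2 (x.g l) (β l) = β l + om w w' • v' l := fun l => by
        rw [← hd hx, P.move hw eβ]; rfl
      have hv0 : ∀ l, l ≠ i → v' l = 0 := fun l hli => by
        have := e l
        rw [g1 hx l (hl l hli), CfsgLib.U6Three.app2_one, left_eq_add] at this
        exact (by decide +kernel : ∀ (c : ZMod 3) (a : V2), c ≠ 0 → c • a = 0 → a = 0) _ _ hne this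
      have hvi : v' i ≠ 0 := fun h => P.pt'.2 (funext fun l => by
        by_cases hli : l = i
        exacts [hli ▸ h, hv0 l hli])
      have hdet : det2 (v' i) (β i) = 0 := by
        have := P.image_perp eβ
        have d0 : ∀ x : V2, det2 0 x = 0 := fun x => by simp [det2]
        fin_cases i <;> simpa [om, hv0, d0] using this
      have hfix := fix_perp (x.g i) _ _ hvi (by rw [← hd hx, fx x hx]) hdet
      rw [e i, add_eq_left] at hfix
      exact hvi ((by decide +kernel : ∀ (c : ZMod 3) (a : V2), c ≠ 0 → c • a = 0 → a = 0) _ _ hne hfix)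
    have orth : ∀ w, om v w = 0 → ∀ w' ∈ P.ker, om w w' = 0 := by
      intro w hw w' hw'
      choose e he using fun i : Fin 3 => csurj (Pi.single i (cv (D.im (g⁻¹ * D.q w * g)) i))
      choose u hu hue using fun i => P.range_elt (e i).2
      have hz : ∀ i, om (u i) w' = 0 := fun i => zero i (u i) (hu i) (fun l hl => by
        rw [hue i, show cv (e i).1 = _ from he i, Pi.single_eq_of_ne hl]) w' hw'
      have s01 : om v (u 0 + u 1) = 0 := by rw [om_add_right, hu, hu, add_zero]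
      have s : om v (u 0 + u 1 + u 2) = 0 := by rw [om_add_right, s01, hu, add_zero]
      have hd' : w - (u 0 + u 1 + u 2) ∈ P.ker := by
        refine ⟨by rw [om_sub_right, hw, s, sub_zero], ?_⟩
        have h1 : om v (w - (u 0 + u 1 + u 2)) = 0 := by rw [om_sub_right, hw, s, sub_zero]
        have hh := P.im_add h1 s
        rw [sub_add_cancel, P.im_add s01 (hu 2), P.im_add (hu 0) (hu 1), hue, hue, hue] at hh
        set W := D.im (g⁻¹ * D.q w * g)
        have hW : W ∈ P.hom.range := ⟨Multiplicative.ofAdd ⟨w, hw⟩, rfl⟩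
        have hE := mul_mem (mul_mem (e 0).2 (e 1).2) (e 2).2
        have : (⟨W, hW⟩ : P.hom.range) = ⟨_, hE⟩ := cinj (by
          funext l
          simp only [cv_mul, mul_π, hσ _ (e 0).2, hσ _ (e 1).2, mul_one]
          show cv W l = cv (e 0).1 l + cv (e 1).1 l + cv (e 2).1 l
          rw [show cv (e 0).1 = _ from he 0, show cv (e 1).1 = _ from he 1, show cv (e 2).1 = _ from he 2]
          fin_cases l <;> simp)
        rw [show W = _ from congrArg Subtype.val this] at hh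
        exact mul_eq_right.mp hh.symm
      have := P.ker_iso _ hd' _ hw'
      rw [om_sub_left, om_add_left, om_add_left, hz, hz, hz, add_zero, add_zero, sub_zero] at this
      exact this
    have hk3 : Nat.card P.ker ≤ 3 := by
      refine (Nat.card_le_card_of_injective (fun w : P.ker =>
        (perp_line (x := w.1) P.pt.2 fun u hu => by rw [om_swap, orth u hu _ w.2, neg_zero]).choose) ?_).trans
        (Nat.card_zmod 3).le
      intro a c h
      refine Subtype.ext ?_
      rw [(perp_line (x := a.1) P.pt.2 fun u hu => by rw [om_swap, orth u hu _ a.2, neg_zero]).choose_spec,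
        (perp_line (x := c.1) P.pt.2 fun u hu => by rw [om_swap, orth u hu _ c.2, neg_zero]).choose_spec]
      exact congrArg (· • v) h
    have := Nat.mul_le_mul hk3 hr
    omega
where
  diag_inj' {A B : Bk} (hA : A.π = 1) (hB : B.π = 1) (h : cv A = cv B)
      (h3 : A * B⁻¹ * (A * B⁻¹) * (A * B⁻¹) = 1) : A = B := by
    refine mul_inv_eq_one.mp (eq_one_of_tr h3 ⟨by rw [mul_π, inv_π, hA, hB, inv_one, one_mul], funext fun i => ?_⟩)
    rw [cv_mul, show cv B⁻¹ (A.π.symm i) = -cv B (B.π (A.π.symm i)) by rw [cv, inv_g, ψ_inv]; rfl, hA, hB, h]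
    exact add_neg_cancel _

end Setting

end CfsgLib.Fi22Loc
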