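import Cfsg.Agent.Lib.Fi22Loc.Cent2
import Cfsg.Agent.Lib.ThreeTrans.M22.Quasi
import Cfsg.Agent.Lib.Components
import Cfsg.Agent.S0815
import Cfsg.Agent.S0283

/-!
The centraliser of the involution of one plane: its Sylow three-subgroups have order 3^6, its derived subgroup is a
perfect double cover of the unitary group and has index at most two.
-/

set_option autoImplicit false
set_option linter.unusedSectionVars false
set_option synthInstance.maxSize 1024

namespace CfsgLib.Fi22Loc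

open CfsgLib.U6Three (V2 SL23 det2 app2)

universe u

theorem comm_pre : ∀ d a : SL23, ψ d ≠ 0 → ψ a = 0 →
    ∃ a' : SL23, ψ a' = 0 ∧ (d * a' * d⁻¹ * a'⁻¹ = a ∨ d * a' * d⁻¹ * a'⁻¹ = -a) := by decide +kernel

theorem comm_one : ∀ d : SL23, d * 1 * d⁻¹ * 1⁻¹ = 1 := by decide +kernel

theorem neg_comm : ∀ a c : SL23, a * c * a⁻¹ * c⁻¹ = -1 → -a * c * (-a)⁻¹ * c⁻¹ = -1 ∧
    a * -c * a⁻¹ * (-c)⁻¹ = -1 ∧ -a * -c * (-a)⁻¹ * (-c)⁻¹ = -1 := by decide +kernel

theorem perm_fix_two : ∀ p : Equiv.Perm (Fin 3), p 0 = 0 → p = 1 ∨ p = Equiv.swap 1 2 := by decide +kernel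

theorem dg_pow (d : Fin 3 → SL23) (n : ℕ) : dg d ^ n = dg (d ^ n) := by
  induction n with
  | zero => rfl
  | succ m ih => rw [pow_succ, ih, dg_mul, pow_succ]

theorem dg_inv (g : Fin 3 → SL23) : (dg g)⁻¹ = dg g⁻¹ :=
  inv_eq_of_mul_eq_one_right (by rw [dg_mul, mul_inv_cancel, dg_one])

theorem ψ_pow_eight : ∀ d : SL23, ψ d ≠ 0 → ψ (d ^ 8) ≠ 0 := by decide +kernel

theorem index_le_two {n k : ℕ} (hk : k ∣ 6) (h : ¬ 3 ^ 7 ∣ n) (e : n = 9196830720 * k) : k = 1 ∨ k = 2 := by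
  have hk6 : k ≤ 6 := Nat.le_of_dvd (by norm_num) hk
  subst e
  interval_cases k <;> first | omega | exact absurd hk (by decide) | exact absurd (by norm_num : 3 ^ 7 ∣ 9196830720 * 3) h |
    exact absurd (by norm_num : 3 ^ 7 ∣ 9196830720 * 6) h

namespace Setting

variable {G : Type u} [Group G] (D : Setting G)

theorem tt_of_dg {s : G} {w : Fin 3 → SL23} (hs : D.Acts s (dg w)) : s ∈ D.TC := by
  have := D.sg_comm hs (one1 0)
  rw [show (fun i => one1 0 ((dg w).π.symm i)) = one1 0 from rfl, mul_inv_eq_iff_eq_mul] at this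
  exact D.mem_TC.mpr this

variable [Finite G]

/-- The permutation of the planes. -/
noncomputable def permH : D.CZ →* Equiv.Perm (Fin 3) where
  toFun x := (D.bx x).π
  map_one' := ((D.bx_spec (x := 1) (h := 1) (map_one _) (D.img_Q (one_mem _))).1).symm
  map_mul' x y := ((D.bx_spec (x := x * y) (h := D.rep x * D.rep y)
    (by rw [map_mul, (D.rep_spec x).1, (D.rep_spec y).1]; rfl) ((D.bx_img x).mul (D.bx_img y))).1).symm

/-- The class modulo the quaternion groups. -/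
noncomputable def cvH : D.permH.ker →* Multiplicative (ZMod 3) where
  toFun x := Multiplicative.ofAdd (ψ ((D.bx x).g 1))
  map_one' := by
    obtain ⟨-, -, e3⟩ := D.bx_spec (x := ((1 : D.permH.ker) : D.CZ)) (h := 1) (map_one _) (D.img_Q (one_mem _))
    rw [← e3, one_g, ψ_one]; rfl
  map_mul' x y := by
    obtain ⟨-, -, e3⟩ := D.bx_spec (x := ((x * y : D.permH.ker) : D.CZ)) (h := D.rep x * D.rep y)
      (by rw [map_mul, (D.rep_spec _).1, (D.rep_spec _).1]; rfl) ((D.bx_img _).mul (D.bx_img _))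
    rw [← ofAdd_add, ← e3, mul_g, ψ_mul, show (D.bx x).π = 1 from x.2]
    rfl

theorem cvH_ker : D.cvH.ker = D.P2.subgroupOf D.permH.ker := by
  ext x
  rw [MonoidHom.mem_ker, Subgroup.mem_subgroupOf]
  constructor
  · intro h
    have h1 : ψ ((D.bx x).g 1) = 0 := Multiplicative.ofAdd.injective h
    have hr := D.img_real (D.bx_img x)
    have hc := D.const hr x.2
    refine ⟨x.2, fun i => ?_⟩
    have a := congrFun hc i
    have b := congrFun hc 1
    simp only [cv] at a b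
    rw [a, ← h1, b]
  · intro h
    show Multiplicative.ofAdd (ψ ((D.bx x).g 1)) = 1
    rw [h.2 1]; rfl

theorem card_P2 : Nat.card D.P2 = 243 * 64 := by
  have h := D.pr.ker.card_mul_index
  rw [Subgroup.index_ker, MonoidHom.range_eq_top.mpr D.pr_surj, Subgroup.card_top, D.pr_ker,
    Nat.card_congr (Subgroup.subgroupOfEquivOfLe (show D.Qb ≤ D.P2 from fun x hx => by
      obtain ⟨g, hg, e⟩ := D.mem_Qb.mp hx
      obtain ⟨e1, -, e3⟩ := D.bx_spec (x := x) (h := g) e (D.img_Q (D.mem_Qt.mp hg).1)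
      exact ⟨e1.symm, fun i => by rw [← e3, one_g, ψ_one]⟩)).toEquiv, D.card_Qb, Nat.card_prod, card_K8] at h
  omega

/-- The centraliser of the image of the central element is small. -/
theorem card_CZ : ¬ 3 ^ 7 ∣ Nat.card D.CZ := by
  have h1 := D.permH.ker.card_mul_index
  rw [Subgroup.index_ker] at h1
  have hr : Nat.card D.permH.range ≤ 2 := by
    let f : D.permH.range → {p : Equiv.Perm (Fin 3) // p 0 = 0} := fun p => ⟨p.1, by
      obtain ⟨x, hx⟩ := p.2
      rw [← hx]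
      exact D.img_fix (D.bx_img x) (D.mem_TC.mp (D.rep x).2)⟩
    have hf : Function.Injective f := fun p q e =>
      Subtype.ext (congrArg (fun r : {p : Equiv.Perm (Fin 3) // p 0 = 0} => r.1) e)
    refine (Nat.card_le_card_of_injective f hf).trans ?_
    rw [Nat.card_eq_fintype_card]; decide +kernel
  have h2 := D.cvH.ker.card_mul_index
  rw [Subgroup.index_ker, D.cvH_ker] at h2
  have hle : D.P2 ≤ D.permH.ker := fun x hx => hx.1
  rw [Nat.card_congr (Subgroup.subgroupOfEquivOfLe hle).toEquiv, D.card_P2] at h2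
  have hc : Nat.card D.cvH.range ≤ 3 := by
    refine D.cvH.range.card_le_card_group.trans ?_
    rw [Nat.card_congr (Multiplicative.toAdd), Nat.card_zmod]
  have p1 := Nat.card_pos (α := D.permH.range)
  have p2 := Nat.card_pos (α := D.cvH.range)
  intro hd
  rw [← h1, ← h2] at hd
  interval_cases (Nat.card D.permH.range) <;> interval_cases (Nat.card D.cvH.range) <;> norm_num at hd

/-- The Sylow three-subgroups of the quotient are small. -/
theorem card_bar : ¬ 3 ^ 7 ∣ Nat.card (D.TC ⧸ D.NT) := by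
  intro hd
  haveI : Fact (Nat.Prime 3) := ⟨Nat.prime_three⟩
  have hpg : IsPGroup 3 (D.Qb.map D.CZ.subtype) := D.qb_pgroup.map _
  obtain ⟨R, hR⟩ := hpg.exists_le_sylow
  haveI : Nontrivial (R : Subgroup (D.TC ⧸ D.NT)) := by
    have h3 := R.dvd_card_of_dvd_card (dvd_trans (dvd_pow_self 3 (by norm_num : (7 : ℕ) ≠ 0)) hd)
    refine Finite.one_lt_card_iff_nontrivial.mp ?_
    have := Nat.card_pos (α := (R : Subgroup (D.TC ⧸ D.NT)))
    have : (R : Subgroup (D.TC ⧸ D.NT)) ≠ ⊥ := fun e => by rw [e, Subgroup.card_bot] at h3; omega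
    have : Nat.card (R : Subgroup (D.TC ⧸ D.NT)) ≠ 1 := fun e => this (Subgroup.eq_bot_of_card_eq _ e)
    omega
  haveI := R.isPGroup'.center_nontrivial
  obtain ⟨⟨c, hc⟩, hc1⟩ := exists_ne (1 : Subgroup.center (R : Subgroup (D.TC ⧸ D.NT)))
  have hzQ : D.zb ∈ (R : Subgroup (D.TC ⧸ D.NT)) :=
    hR ⟨⟨D.zb, D.mk_CZ (h := D.zT) (Commute.refl _)⟩, D.mem_Qb.mpr ⟨D.zT, D.mem_Qt.mpr ⟨D.z_mem, D.tt_z.symm⟩, rfl⟩, rfl⟩
  have hcz : (c : D.TC ⧸ D.NT) ∈ D.CZ :=
    D.mem_CZ.mpr (congrArg Subtype.val (Subgroup.mem_center_iff.mp hc ⟨D.zb, hzQ⟩)).symm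
  have hcQ : (⟨c, hcz⟩ : D.CZ) ∈ D.Qb := D.cent_Qb (Subgroup.mem_centralizer_iff.mpr fun y hy =>
    Subtype.ext ((congrArg Subtype.val (Subgroup.mem_center_iff.mp hc ⟨(y : D.TC ⧸ D.NT), hR ⟨y, hy, rfl⟩⟩) :)))
  have hcc : (⟨_, hcQ⟩ : D.Qb) ∈ Subgroup.center D.Qb := Subgroup.mem_center_iff.mpr fun y =>
    Subtype.ext (Subtype.ext ((congrArg Subtype.val (Subgroup.mem_center_iff.mp hc
      ⟨((y : D.CZ) : D.TC ⧸ D.NT), hR ⟨y, y.2, rfl⟩⟩) :)))
  have hex := D.qb_extraspecial.2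
  let zq : D.Qb := ⟨⟨D.zb, D.mk_CZ (h := D.zT) (Commute.refl _)⟩,
    D.mem_Qb.mpr ⟨D.zT, D.mem_Qt.mpr ⟨D.z_mem, D.tt_z.symm⟩, rfl⟩⟩
  have hzqc : zq ∈ Subgroup.center D.Qb := Subgroup.mem_center_iff.mpr fun y =>
    Subtype.ext (Subtype.ext (D.mem_CZ.mp y.1.2).eq)
  have hgen : Subgroup.center D.Qb ≤ Subgroup.zpowers zq := by
    refine (Subgroup.eq_of_le_of_card_ge (Subgroup.zpowers_le.mpr hzqc) ?_).ge
    rw [hex, Nat.card_zpowers, orderOf_eq_prime (p := 3) (Subtype.ext (Subtype.ext D.zb_cube))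
      fun e => D.zb_ne (congrArg (fun w : D.Qb => ((w : D.CZ) : D.TC ⧸ D.NT)) e)]
  obtain ⟨n, hn⟩ := Subgroup.mem_zpowers_iff.mp (hgen hcc)
  have hn' : D.zb ^ n = (c : D.TC ⧸ D.NT) := by
    rw [← show ((((zq ^ n : D.Qb) : D.CZ)) : D.TC ⧸ D.NT) = D.zb ^ n by simp [zq]]
    rw [hn]
  have hz : ∀ x ∈ (R : Subgroup (D.TC ⧸ D.NT)), Commute x D.zb := fun x hx => by
    have hxc : Commute x (c : D.TC ⧸ D.NT) := congrArg Subtype.val (Subgroup.mem_center_iff.mp hc ⟨x, hx⟩)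
    have hn1 : ¬ (3 : ℤ) ∣ n := fun ⟨m, hm⟩ => hc1 (Subtype.ext (Subtype.ext (by
      rw [← hn', hm, zpow_mul, show D.zb ^ (3 : ℤ) = D.zb ^ 3 from zpow_natCast _ 3, D.zb_cube, one_zpow]
      rfl)))
    rcases (show n % 3 = 1 ∨ n % 3 = 2 by omega) with r | r
    · have e : D.zb ^ n = D.zb := by
        rw [show n = 3 * (n / 3) + 1 by omega, zpow_add, zpow_mul,
          show D.zb ^ (3 : ℤ) = D.zb ^ 3 from zpow_natCast _ 3, D.zb_cube, one_zpow, one_mul, zpow_one]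
      rw [← hn', e] at hxc
      exact hxc
    · have e : (D.zb ^ n) ^ 2 = D.zb := by
        rw [show n = 3 * (n / 3) + 2 by omega, zpow_add, zpow_mul,
          show D.zb ^ (3 : ℤ) = D.zb ^ 3 from zpow_natCast _ 3, D.zb_cube, one_zpow, one_mul, zpow_two, pow_two,
          show D.zb * D.zb * (D.zb * D.zb) = D.zb ^ 3 * D.zb by simp only [pow_succ, pow_zero, one_mul, mul_assoc],
          D.zb_cube, one_mul]
      rw [← hn'] at hxc
      exact e ▸ hxc.pow_right 2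
  have hle : (R : Subgroup (D.TC ⧸ D.NT)) ≤ D.CZ := fun x hx => D.mem_CZ.mpr (hz x hx)
  refine D.card_CZ (dvd_trans ?_ (Subgroup.card_dvd_of_le hle))
  rw [R.card_eq_multiplicity]
  exact pow_dvd_pow _ ((Nat.prime_three.pow_dvd_iff_le_factorization Nat.card_pos.ne').mp hd)

/-- The data of the unitary normal subgroup. -/
structure UData where
  /-- the field -/
  F : Type
  [fld : Field F]
  [fin : Fintype F]
  [dec : DecidableEq F]
  /-- four elements -/
  hF : Fintype.card F = 2 ^ 2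
  /-- the isomorphism -/
  e : ↥(Cfsg.generalizedFittingSubgroup (D.TC ⧸ D.NT)) ≃* Cfsg.PSU 6 F 2

attribute [instance] UData.fld UData.fin UData.dec

theorem exists_udata : Nonempty (UData D) := by
  classical
  obtain ⟨⟨F, i1, i2, hF, ⟨e⟩⟩, -⟩ := D.unitary
  exact ⟨{ F := F, hF := hF.trans (by norm_num), e := e }⟩

/-- The unitary normal subgroup. -/
noncomputable def UU : Subgroup (D.TC ⧸ D.NT) := Cfsg.generalizedFittingSubgroup (D.TC ⧸ D.NT)

theorem UU_cent : Subgroup.centralizer (D.UU : Set (D.TC ⧸ D.NT)) = ⊥ := D.unitary.2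

theorem UU_normal : D.UU.Normal := by unfold UU; infer_instance

theorem card_UU : Nat.card D.UU = 9196830720 := by
  obtain ⟨U⟩ := D.exists_udata
  rw [show Nat.card D.UU = Nat.card (Cfsg.PSU 6 U.F 2) from Nat.card_congr U.e.toEquiv,
    CfsgThreeTrans.M22.card_psu_eq U.hF]

theorem UU_index : D.UU.index = 1 ∨ D.UU.index = 2 := by
  obtain ⟨U⟩ := D.exists_udata
  haveI := D.UU_normal
  let ρ : (D.TC ⧸ D.NT) →* MulAut D.UU := MulAut.conjNormal
  have hinj : Function.Injective ρ := (injective_iff_map_eq_one _).mpr fun g hg => by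
    have : g ∈ Subgroup.centralizer (D.UU : Set (D.TC ⧸ D.NT)) := Subgroup.mem_centralizer_iff.mpr fun x hx => by
      have e := congrArg Subtype.val (DFunLike.congr_fun hg ⟨x, hx⟩)
      rw [MulAut.conjNormal_apply] at e
      exact (mul_inv_eq_iff_eq_mul.mp e).symm
    rwa [D.UU_cent, Subgroup.mem_bot] at this
  have hA : Nat.card (MulAut D.UU) = 6 * 9196830720 := by
    haveI : Fact (Nat.Prime 2) := ⟨Nat.prime_two⟩
    rw [show Nat.card (MulAut D.UU) = Nat.card (MulAut (Cfsg.PSU 6 U.F 2)) from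
      Nat.card_congr (MulAut.congr U.e).toEquiv,
      Cfsg.Agent.S0815.result (F := U.F) 2 1 le_rfl (q := 2) (by norm_num) U.hF 6 (by norm_num) (by norm_num),
      CfsgThreeTrans.M22.card_psu_eq U.hF]
    norm_num
  have hd : Nat.card (D.TC ⧸ D.NT) ∣ 6 * 9196830720 := by
    rw [← hA, Nat.card_congr (MonoidHom.ofInjective hinj).toEquiv]
    exact Subgroup.card_subgroup_dvd_card _
  have hm := D.UU.card_mul_index
  rw [D.card_UU] at hm
  refine index_le_two ?_ D.card_bar hm.symm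
  rw [← hm, mul_comm 6] at hd
  exact Nat.dvd_of_mul_dvd_mul_left (by norm_num) hd

/-- Its preimage. -/
noncomputable def LL : Subgroup D.TC := D.UU.comap D.mkT

instance LL_normal : D.LL.Normal := D.UU_normal.comap _

theorem LL_index : D.LL.index = 1 ∨ D.LL.index = 2 := by
  rw [LL, Subgroup.index_comap_of_surjective _ D.mk_surj]
  exact D.UU_index

theorem comm_mem_LL (a b : D.TC) : a * b * a⁻¹ * b⁻¹ ∈ D.LL := by
  rcases D.LL_index with h | h
  · rw [Subgroup.index_eq_one.mp h]; trivial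
  · rw [Subgroup.mul_mem_iff_of_index_two h, Subgroup.mul_mem_iff_of_index_two h, Subgroup.mul_mem_iff_of_index_two h,
      inv_mem_iff, inv_mem_iff]
    tauto

theorem sq_mem_LL (a : D.TC) : a * a ∈ D.LL := by
  rcases D.LL_index with h | h
  · rw [Subgroup.index_eq_one.mp h]; trivial
  · rw [Subgroup.mul_mem_iff_of_index_two h]

/-- The derived subgroup of the preimage. -/
noncomputable def L1 : Subgroup D.TC := ⁅D.LL, D.LL⁆

instance L1_normal : D.L1.Normal := Subgroup.commutator_normal _ _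

theorem map_L1 : D.L1.map D.mkT = D.UU := by
  obtain ⟨U⟩ := D.exists_udata
  rw [L1, Subgroup.map_commutator, LL, Subgroup.map_comap_eq_self_of_surjective D.mk_surj]
  haveI : IsSimpleGroup (Cfsg.PSU 6 U.F 2) := Cfsg.Agent.S0283.result (F := U.F) (q := 2) U.hF 6 (by norm_num) (by norm_num)
  have hp : commutator (Cfsg.PSU 6 U.F 2) = ⊤ := by
    let q : Cfsg.SU 6 U.F 2 →* Cfsg.PSU 6 U.F 2 := QuotientGroup.mk' _
    have hq : Function.Surjective q := QuotientGroup.mk'_surjective _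
    rw [commutator_def, ← Subgroup.map_top_of_surjective q hq, ← Subgroup.map_commutator, ← commutator_def,
      CfsgLib.UnitarySimple.perfect U.hF (by norm_num) (by omega)]
  have e : ⁅(⊤ : Subgroup D.UU), (⊤ : Subgroup D.UU)⁆ = (⊤ : Subgroup D.UU) := by
    refine Subgroup.map_injective (f := U.e.toMonoidHom) U.e.injective ?_
    refine (Subgroup.map_commutator _ _ _).trans ?_
    have hm : (⊤ : Subgroup D.UU).map U.e.toMonoidHom = ⊤ :=
      Subgroup.map_top_of_surjective U.e.toMonoidHom U.e.surjective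
    exact ((congrArg₂ (fun a b => ⁅a, b⁆) hm hm).trans (hp.trans hm.symm))
  conv_rhs => rw [← Subgroup.range_subtype D.UU, MonoidHom.range_eq_map, ← e, Subgroup.map_commutator,
    ← MonoidHom.range_eq_map, Subgroup.range_subtype]

theorem LL_cases {a : D.TC} (ha : a ∈ D.LL) : a ∈ D.L1 ∨ a * ⟨D.tt, D.mem_TC.mpr (Commute.refl _)⟩ ∈ D.L1 := by
  obtain ⟨b, hb, e⟩ : D.mkT a ∈ D.L1.map D.mkT := by rw [D.map_L1]; exact ha
  rcases D.mk_eq e with r | r
  · exact Or.inl (by rwa [show a = b from Subtype.ext r])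
  · refine Or.inr ?_
    have : a * ⟨D.tt, D.mem_TC.mpr (Commute.refl _)⟩ = b := Subtype.ext (by
      rw [Subgroup.coe_mul, r, mul_assoc, D.tt_sq, mul_one])
    rwa [this]

theorem fourth_mem_L1 (a : D.TC) : a ^ 4 ∈ D.L1 := by
  set T : D.TC := ⟨D.tt, D.mem_TC.mpr (Commute.refl _)⟩
  have hcomm : ∀ x : D.TC, Commute x T := fun x => Subtype.ext (D.mem_TC.mp x.2).eq
  have e4 : a ^ 4 = (a * a) * (a * a) := by simp [pow_succ, mul_assoc]
  rw [e4]
  rcases D.LL_cases (D.sq_mem_LL a) with h | h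
  · exact mul_mem h h
  · have : (a * a) * (a * a) = (a * a * T) * (a * a * T) := by
      rw [mul_assoc (a * a) T, ← mul_assoc T (a * a) T, ← (hcomm (a * a)).eq, mul_assoc (a * a) T T,
        show T * T = 1 from Subtype.ext D.tt_sq, mul_one]
    rw [this]
    exact mul_mem h h

set_option maxHeartbeats 1000000 in
/-- A product of diagonal quaternion blocks inside. -/
theorem exists_inner (i j : Fin 3) (hij : i ≠ j) (a : SL23) (ha : ψ a = 0) :
    ∃ (s : G) (hs : s ∈ D.TC) (w : Fin 3 → SL23), D.Acts s (dg w) ∧ (w i = a ∨ w i = -a) ∧ w j = 1 ∧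
      (⟨s, hs⟩ : D.TC) ∈ D.L1 := by
  obtain ⟨d, hd, hne⟩ := D.exists_diag
  obtain ⟨sd, hsd⟩ := hd
  have h8 : D.Acts (sd ^ 8) (dg (d ^ 8)) := by
    have := (((hsd.mul hsd).mul (hsd.mul hsd)).mul ((hsd.mul hsd).mul (hsd.mul hsd)))
    rwa [show sd * sd * (sd * sd) * (sd * sd * (sd * sd)) = sd ^ 8 by simp [pow_succ, mul_assoc],
      show dg d * dg d * (dg d * dg d) * (dg d * dg d * (dg d * dg d)) = dg d ^ 8 by simp [pow_succ, mul_assoc],
      dg_pow] at this
  obtain ⟨a', ha', hc⟩ := comm_pre (d i ^ 8) a (ψ_pow_eight _ (hne i)) ha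
  obtain ⟨w, hw, wi, wj⟩ := D.pq_pair a' 1 ha' ψ_one hij
  obtain ⟨sw, hsw⟩ := hw.2
  have hAct := ((h8.mul hsw).mul h8.inv).mul hsw.inv
  have hb : dg (d ^ 8) * dg w * (dg (d ^ 8))⁻¹ * (dg w)⁻¹ = dg (d ^ 8 * w * (d ^ 8)⁻¹ * w⁻¹) := by
    simp only [dg_inv, dg_mul]
  rw [hb] at hAct
  refine ⟨_, mul_mem (mul_mem (mul_mem (D.tt_of_dg h8) (D.tt_of_dg hsw)) (inv_mem (D.tt_of_dg h8)))
    (inv_mem (D.tt_of_dg hsw)), _, hAct, ?_, ?_, ?_⟩
  · simp only [Pi.mul_apply, Pi.inv_apply, Pi.pow_apply, wi]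
    exact hc
  · simp only [Pi.mul_apply, Pi.inv_apply, Pi.pow_apply, wj]
    exact comm_one _
  · have h8L : (⟨sd ^ 8, D.tt_of_dg h8⟩ : D.TC) ∈ D.L1 := by
      have := mul_mem (D.fourth_mem_L1 ⟨sd, D.tt_of_dg hsd⟩) (D.fourth_mem_L1 ⟨sd, D.tt_of_dg hsd⟩)
      rw [← pow_add] at this
      rwa [show (⟨sd ^ 8, D.tt_of_dg h8⟩ : D.TC) = (⟨sd, D.tt_of_dg hsd⟩ : D.TC) ^ (4 + 4) from
        Subtype.ext (Subgroup.coe_pow D.TC ⟨sd, D.tt_of_dg hsd⟩ (4 + 4)).symm]
    set x : D.TC := ⟨sd ^ 8, D.tt_of_dg h8⟩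
    set y : D.TC := ⟨sw, D.tt_of_dg hsw⟩
    show x * y * x⁻¹ * y⁻¹ ∈ D.L1
    rw [mul_assoc x y, mul_assoc x]
    exact mul_mem h8L (D.L1_normal.conj_mem _ (inv_mem h8L) y)

set_option maxHeartbeats 1000000 in
/-- The plane involutions are inside. -/
theorem sign_mem (k : Fin 3) : ∃ h : D.sg (one1 k) ∈ D.TC, (⟨D.sg (one1 k), h⟩ : D.TC) ∈ D.L1 := by
  obtain ⟨c, hc, hac⟩ := quartic_comm qA ψ_qA (by decide +kernel) (by decide +kernel)
  obtain ⟨i, m, hki, hkm, him, hall⟩ :=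
    (by decide +kernel : ∀ k : Fin 3, ∃ i m, k ≠ i ∧ k ≠ m ∧ i ≠ m ∧ ∀ l, l = k ∨ l = i ∨ l = m) k
  obtain ⟨s, hs, w, hw, wk, wi, hL⟩ := D.exists_inner k i hki qA ψ_qA
  obtain ⟨s', hs', w', hw', wk', wm', hL'⟩ := D.exists_inner k m hkm c hc
  have h := ((hw.mul hw').mul hw.inv).mul hw'.inv
  have e : dg w * dg w' * (dg w)⁻¹ * (dg w')⁻¹ = sB (one1 k) := by
    simp only [dg_inv, dg_mul, sB]
    refine congrArg dg (funext fun l => ?_)
    simp only [Pi.mul_apply, Pi.inv_apply]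
    rcases hall l with r | r | r <;> subst r
    · simp only [one1, decide_true, sgn, if_true]
      obtain ⟨n1, n2, n3⟩ := neg_comm _ _ hac
      rcases wk with q | q <;> rcases wk' with q' | q' <;> rw [q, q'] <;> assumption
    · simp [wi, one1, hki.symm, sgn]
    · simp [wm', one1, hkm.symm, sgn]
  rw [e] at h
  have h2 := h.mul (D.sg_acts (one1 k))
  rw [sB_sq] at h2
  obtain ⟨l, hl⟩ := h2.trivial
  have hsk : D.sg (one1 k) ∈ D.TC := D.tt_of_dg (D.sg_acts _)
  refine ⟨hsk, ?_⟩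
  have hcube : (⟨D.sg (one1 k), hsk⟩ : D.TC) = ((⟨s, hs⟩ : D.TC) * ⟨s', hs'⟩ * (⟨s, hs⟩ : D.TC)⁻¹ * (⟨s', hs'⟩ : D.TC)⁻¹) ^ 3 :=
    Subtype.ext (by
      show D.sg (one1 k) = (s * s' * s⁻¹ * s'⁻¹) ^ 3
      rw [show s * s' * s⁻¹ * s'⁻¹ = D.zz l * D.sg (one1 k) by
          rw [← hl, mul_assoc (s * s' * s⁻¹ * s'⁻¹), D.sg_sq, mul_one],
        ((D.zz_comm (D.sg_acts _).1.cz l).symm).mul_pow, D.Q_cube (D.zz_mem l), one_mul, pow_succ, pow_two, D.sg_sq,
        one_mul])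
  rw [hcube]
  exact pow_mem (mul_mem (mul_mem (mul_mem hL hL') (inv_mem hL)) (inv_mem hL')) 3

/-- The involution is inside. -/
theorem tt_mem : (⟨D.tt, D.mem_TC.mpr (Commute.refl _)⟩ : D.TC) ∈ D.L1 := (D.sign_mem 0).2

theorem L1_eq : D.L1 = D.LL := by
  refine le_antisymm (Subgroup.commutator_le.mpr fun a _ b _ => ?_) fun a ha => ?_
  · exact D.comm_mem_LL a b
  · rcases D.LL_cases ha with h | h
    · exact h
    · have := mul_mem h D.tt_mem
      rwa [mul_assoc, show (⟨D.tt, D.mem_TC.mpr (Commute.refl _)⟩ : D.TC) * ⟨D.tt, _⟩ = 1 from Subtype.ext D.tt_sq,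
        mul_one] at this

theorem derived_eq : commutator D.TC = D.LL := by
  refine le_antisymm ?_ ?_
  · rw [commutator_def]; exact Subgroup.commutator_le.mpr fun a _ b _ => D.comm_mem_LL a b
  · rw [← D.L1_eq, commutator_def]; exact Subgroup.commutator_mono le_top le_top

theorem LL_perfect : ⁅D.LL, D.LL⁆ = D.LL := D.L1_eq

theorem index_or : commutator D.TC = ⊤ ∨ (commutator D.TC).index = 2 := by
  rw [D.derived_eq]
  exact D.LL_index.imp Subgroup.index_eq_one.mp id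

theorem card_TC : Nat.card D.TC = 2 * (9196830720 * D.LL.index) := by
  rw [D.NT.card_eq_card_quotient_mul_card_subgroup, ← D.UU.card_mul_index, D.card_UU, LL,
    Subgroup.index_comap_of_surjective _ D.mk_surj,
    show Nat.card D.NT = Nat.card (Subgroup.zpowers D.tt) from
      Nat.card_congr (Subgroup.subgroupOfEquivOfLe (Subgroup.zpowers_le.mpr (D.mem_TC.mpr (Commute.refl _)))).toEquiv,
    Nat.card_zpowers, show orderOf D.tt = 2 from orderOf_eq_prime (by rw [pow_two]; exact D.tt_sq) D.tt_ne]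
  ring

end Setting

end CfsgLib.Fi22Loc
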