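import Cfsg.Agent.Lib.U6Three.Model
import Mathlib.GroupTheory.Perm.Cycle.Basic

/-!
The model of the quotient of an extraspecial group of order 3^7 by its centre as three planes over three elements,
with the monomial block actions and their images modulo the quaternion groups.
-/

set_option autoImplicit false

namespace CfsgLib.Fi22Loc

open CfsgLib.U6Three (V2 SL23 det2 app2 app2_one app2_mul app2_add app2_det app2_inj mU)

/-- Three planes. -/
abbrev V6 := Fin 3 → V2

/-- The form. -/
def om (v w : V6) : ZMod 3 := det2 (v 0) (w 0) + det2 (v 1) (w 1) + det2 (v 2) (w 2)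

/-- A monomial block matrix: the blocks are moved by the permutation and then multiplied. -/
structure Bk where
  /-- the permutation of the planes -/
  π : Equiv.Perm (Fin 3)
  /-- the matrix landing on each plane -/
  g : Fin 3 → SL23
  deriving DecidableEq

/-- A block matrix applied to a vector. -/
def appB (b : Bk) (v : V6) : V6 := fun i => app2 (b.g i) (v (b.π.symm i))

instance : One Bk := ⟨⟨1, fun _ => 1⟩⟩

instance : Mul Bk := ⟨fun a b => ⟨a.π * b.π, fun i => a.g i * b.g (a.π.symm i)⟩⟩

theorem one_π : (1 : Bk).π = 1 := rfl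

theorem one_g (i : Fin 3) : (1 : Bk).g i = 1 := rfl

theorem mul_π (a b : Bk) : (a * b).π = a.π * b.π := rfl

theorem mul_g (a b : Bk) (i : Fin 3) : (a * b).g i = a.g i * b.g (a.π.symm i) := rfl

theorem Bk.ext' {a b : Bk} (h : a.π = b.π) (h' : ∀ i, a.g i = b.g i) : a = b := by
  cases a; cases b; simp only [Bk.mk.injEq]; exact ⟨h, funext h'⟩

instance : Monoid Bk where
  mul_assoc a b c := Bk.ext' (mul_assoc _ _ _) fun i => by
    simp only [mul_g, mul_π, mul_assoc, Equiv.Perm.mul_def, Equiv.symm_trans_apply]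
  one_mul a := Bk.ext' (one_mul _) fun i => by simp [mul_g, one_g, one_π, Equiv.Perm.one_def]
  mul_one a := Bk.ext' (mul_one _) fun i => by simp [mul_g, one_g]

instance : Inv Bk := ⟨fun a => ⟨a.π⁻¹, fun i => (a.g (a.π i))⁻¹⟩⟩

instance : Group Bk where
  inv_mul_cancel a := Bk.ext' (inv_mul_cancel _) fun i => by
    show (a.g (a.π i))⁻¹ * a.g ((a.π⁻¹).symm i) = 1
    rw [Equiv.Perm.inv_def, Equiv.symm_symm, inv_mul_cancel]

theorem inv_π (a : Bk) : a⁻¹.π = a.π⁻¹ := rfl

theorem inv_g (a : Bk) (i : Fin 3) : a⁻¹.g i = (a.g (a.π i))⁻¹ := rfl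

/-- A block diagonal matrix. -/
def dg (g : Fin 3 → SL23) : Bk := ⟨1, g⟩

theorem dg_π (g : Fin 3 → SL23) : (dg g).π = 1 := rfl

theorem dg_g (g : Fin 3 → SL23) : (dg g).g = g := rfl

theorem dg_mul (g h : Fin 3 → SL23) : dg g * dg h = dg (g * h) := Bk.ext' (one_mul _) fun _ => rfl

theorem dg_one : dg 1 = 1 := rfl

theorem dg_inj {g h : Fin 3 → SL23} (e : dg g = dg h) : g = h := congrArg Bk.g e

theorem eq_dg {b : Bk} (h : b.π = 1) : b = dg b.g := Bk.ext' h fun _ => rfl

theorem app2_zero (g : SL23) : app2 g 0 = 0 := by simp [app2]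

theorem appB_dg (g : Fin 3 → SL23) (v : V6) (i : Fin 3) : appB (dg g) v i = app2 (g i) (v i) := rfl

theorem appB_one (v : V6) : appB 1 v = v := funext fun i => app2_one (v i)

theorem appB_mul (a b : Bk) (v : V6) : appB (a * b) v = appB a (appB b v) := funext fun i => by
  simp only [appB, mul_g, mul_π, app2_mul, Equiv.Perm.mul_def, Equiv.symm_trans_apply]

theorem appB_add (a : Bk) (v w : V6) : appB a (v + w) = appB a v + appB a w := funext fun i =>
  app2_add (a.g i) (v (a.π.symm i)) (w (a.π.symm i))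

theorem appB_zero (a : Bk) : appB a 0 = 0 := funext fun i => app2_zero (a.g i)

theorem appB_neg (a : Bk) (v : V6) : appB a (-v) = -appB a v := by
  rw [eq_neg_iff_add_eq_zero, ← appB_add, neg_add_cancel, appB_zero]

theorem appB_sub (a : Bk) (v w : V6) : appB a (v - w) = appB a v - appB a w := by
  rw [sub_eq_add_neg, appB_add, appB_neg, ← sub_eq_add_neg]

theorem sum_perm (f : Fin 3 → ZMod 3) (π : Equiv.Perm (Fin 3)) : f (π 0) + f (π 1) + f (π 2) = f 0 + f 1 + f 2 := by
  have h := Equiv.sum_comp π f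
  rwa [Fin.sum_univ_three, Fin.sum_univ_three] at h

theorem appB_om (a : Bk) (v w : V6) : om (appB a v) (appB a w) = om v w := by
  simp only [om, appB, app2_det]
  exact sum_perm (fun i => det2 (v i) (w i)) a.π.symm

/-- A vector on one plane. -/
def emb (i : Fin 3) (a : V2) : V6 := fun k => if k = i then a else 0

theorem emb_self (i : Fin 3) (a : V2) : emb i a i = a := if_pos rfl

theorem emb_ne {i k : Fin 3} (h : k ≠ i) (a : V2) : emb i a k = 0 := if_neg h

theorem appB_emb (b : Bk) (i : Fin 3) (a : V2) : appB b (emb i a) = emb (b.π i) (app2 (b.g (b.π i)) a) := by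
  funext k
  by_cases hk : k = b.π i
  · subst hk; simp [appB, emb]
  · have : b.π.symm k ≠ i := fun e => hk (by rw [← e, Equiv.apply_symm_apply])
    simp [appB, emb, this, hk, app2_zero]

theorem appB_inj {a b : Bk} (e : ∀ v, appB a v = appB b v) : a = b := by
  have h0 : ∀ x : SL23, app2 x (1, 0) ≠ 0 := by decide +kernel
  have hπ : a.π = b.π := Equiv.ext fun i => by
    by_contra hne
    have h := congrFun (e (emb i (1, 0))) (a.π i)
    rw [appB_emb, appB_emb, emb_self, emb_ne hne] at h
    exact h0 _ h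
  refine Bk.ext' hπ fun i => ?_
  have key : ∀ c : V2, app2 (a.g i) c = app2 (b.g i) c := fun c => by
    have h := congrFun (e (emb (a.π.symm i) c)) i
    rwa [appB_emb, appB_emb, Equiv.apply_symm_apply, emb_self, hπ, Equiv.apply_symm_apply, emb_self] at h
  exact app2_inj _ _ (key _) (key _)

theorem om_add_left (u v w : V6) : om (u + v) w = om u w + om v w := by
  simp only [om, det2, Pi.add_apply, Prod.fst_add, Prod.snd_add]; ring

theorem om_add_right (u v w : V6) : om u (v + w) = om u v + om u w := by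
  simp only [om, det2, Pi.add_apply, Prod.fst_add, Prod.snd_add]; ring

theorem om_neg_left (u w : V6) : om (-u) w = -om u w := by
  simp only [om, det2, Pi.neg_apply, Prod.fst_neg, Prod.snd_neg]; ring

theorem om_neg_right (u w : V6) : om u (-w) = -om u w := by
  simp only [om, det2, Pi.neg_apply, Prod.fst_neg, Prod.snd_neg]; ring

theorem om_sub_left (u v w : V6) : om (u - v) w = om u w - om v w := by
  rw [sub_eq_add_neg, om_add_left, om_neg_left, sub_eq_add_neg]

theorem om_sub_right (u v w : V6) : om u (v - w) = om u v - om u w := by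
  rw [sub_eq_add_neg, om_add_right, om_neg_right, sub_eq_add_neg]

theorem om_self (u : V6) : om u u = 0 := by simp only [om, det2]; ring

theorem om_swap (u v : V6) : om v u = -om u v := by simp only [om, det2]; ring

theorem om_zero_left (v : V6) : om 0 v = 0 := by simp [om, det2]

theorem om_zero_right (v : V6) : om v 0 = 0 := by simp [om, det2]

theorem om_emb (v : V6) (i : Fin 3) (a : V2) : om v (emb i a) = det2 (v i) a := by
  fin_cases i <;> simp [om, emb, det2]

theorem om_nondeg {v : V6} (hv : v ≠ 0) : ∃ w, om v w ≠ 0 := by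
  obtain ⟨i, hi⟩ := Function.ne_iff.mp hv
  obtain ⟨a, ha⟩ := (by decide +kernel : ∀ a : V2, a ≠ 0 → ∃ b, det2 a b ≠ 0) (v i) hi
  exact ⟨emb i a, by rwa [om_emb]⟩

theorem V6_three (v : V6) : v + v + v = 0 := funext fun i =>
  (by decide +kernel : ∀ a : V2, a + a + a = 0) (v i)

theorem V6_half (v : V6) : -v + -v = v := funext fun i =>
  (by decide +kernel : ∀ a : V2, -a + -a = a) (v i)

/-- The scalar minus one. -/
def negB : Bk := dg fun _ => -1

theorem appB_negB (v : V6) : appB negB v = -v := funext fun i =>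
  (by decide +kernel : ∀ a : V2, app2 (-1) a = -a) (v i)

/-- The class of a matrix modulo the quaternion group. -/
def ψ (g : SL23) : ZMod 3 :=
  if g * g * (g * g) = 1 then 0 else if g * (mU * mU) * (g * (mU * mU)) * (g * (mU * mU) * (g * (mU * mU))) = 1 then 1
  else 2

theorem ψ_mul : ∀ g h : SL23, ψ (g * h) = ψ g + ψ h := by decide +kernel

theorem ψ_zero : ∀ g : SL23, ψ g = 0 ↔ g * g * (g * g) = 1 := by decide +kernel

theorem ψ_three : ∀ g : SL23, g * g * g = 1 → ψ g = 0 → g = 1 := by decide +kernel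

theorem ψ_one : ψ 1 = 0 := by decide +kernel

/-- The class of a block matrix. -/
def cv (b : Bk) : Fin 3 → ZMod 3 := fun i => ψ (b.g i)

theorem cv_mul (a b : Bk) (i : Fin 3) : cv (a * b) i = cv a i + cv b (a.π.symm i) := ψ_mul _ _

theorem cv_one : cv 1 = 0 := funext fun _ => ψ_one

theorem cv_dg (g : Fin 3 → SL23) (i : Fin 3) : cv (dg g) i = ψ (g i) := rfl

/-- In the image modulo the quaternion groups. -/
def Sm (a b : Bk) : Prop := a.π = b.π ∧ cv a = cv b

theorem Sm.mul {a a' b b' : Bk} (h : Sm a a') (h' : Sm b b') : Sm (a * b) (a' * b') :=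
  ⟨by rw [mul_π, mul_π, h.1, h'.1], funext fun i => by rw [cv_mul, cv_mul, h.1, h.2, h'.2]⟩

/-- Trivial modulo the quaternion groups. -/
def Tr (b : Bk) : Prop := b.π = 1 ∧ cv b = 0

end CfsgLib.Fi22Loc
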