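import Cfsg.Agent.Lib.Fi22Loc.Points

/-!
The central element is not weakly closed in the core: some conjugate lies in the core outside the centre.
-/

set_option autoImplicit false
set_option synthInstance.maxSize 1024

namespace CfsgLib.Fi22Loc

open CfsgLib.U6Three (V2 SL23 det2 app2)

universe u

theorem det2_two : ∀ x y : V2, x ≠ 0 → y ≠ 0 → ∃ b b', det2 x b + det2 y b' = 0 ∧ det2 x b ≠ 0 := by decide +kernel

theorem det2_line : ∀ x a : V2, a ≠ 0 → det2 x a = 0 → ∃ n : ZMod 3, x = n • a := by decide +kernel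

theorem det2_smul : ∀ (n : ZMod 3) (x a : V2), det2 x (n • a) = n * det2 x a := by decide +kernel

theorem det2_par : ∀ (n m : ZMod 3) (a : V2), det2 (n • a) (m • a) = 0 := by decide +kernel

theorem det2_ne : ∀ x : V2, x ≠ 0 → ∃ a, det2 x a ≠ 0 := by decide +kernel

theorem orth_count : ∀ l : Fin 3 → ZMod 3, 9 ≤ Fintype.card {n : Fin 3 → ZMod 3 // l 0 * n 0 + l 1 * n 1 + l 2 * n 2 = 0} := by
  decide +kernel

theorem orth_two : ∀ (l : Fin 3 → ZMod 3) (k : Fin 3), ∃ n : Fin 3 → ZMod 3, n ≠ 0 ∧ n k = 0 ∧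
    l 0 * n 0 + l 1 * n 1 + l 2 * n 2 = 0 := by decide +kernel

theorem plane_weight : ∀ A B : Fin 3 → ZMod 3, (∀ a t : ZMod 3, a • A + t • B = 0 → a = 0 ∧ t = 0) →
    ∃ a t : ZMod 3, (a ≠ 0 ∨ t ≠ 0) ∧ ((∃ i, ∀ k, k ≠ i → (a • A + t • B) k = 0) ∨
      ∀ k, (a • A + t • B) k ≠ 0) := by decide +kernel

theorem fin3_others : ∀ i : Fin 3, ∃ k l : Fin 3, k ≠ i ∧ l ≠ i ∧ k ≠ l := by decide

namespace Setting

variable {G : Type u} [Group G] {D : Setting G}

/-- A conjugate of the central element outside the core, in coordinates. -/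
structure Pt (D : Setting G) (g : G) (u : V6) (s : G) (b : Bk) : Prop where
  eq : g * D.z * g⁻¹ = D.q u * s
  acts : D.Acts s b
  ne : b ≠ 1
  cube : b * b * b = 1

theorem Pt.img {g s : G} {u : V6} {b : Bk} (P : D.Pt g u s b) : D.Img (g * D.z * g⁻¹) b :=
  P.eq ▸ D.img_of P.acts

theorem Pt.comm {g s : G} {u : V6} {b : Bk} (P : D.Pt g u s b) : Commute (g * D.z * g⁻¹) D.z := P.img.1

theorem Pt.notQ {g s : G} {u : V6} {b : Bk} (P : D.Pt g u s b) : g * D.z * g⁻¹ ∉ D.Q :=
  fun h => P.ne ((D.mem_Q_iff P.img).mp h)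

theorem pt_of_img {g : G} {X : Bk} (h : D.Img (g * D.z * g⁻¹) X) (h1 : X ≠ 1) :
    ∃ u s, D.Pt g u s X := by
  obtain ⟨u, s, b, e, hb, b3, b1, -⟩ := D.pt_shape h.1 fun hh => h1 ((D.mem_Q_iff h).mp hh)
  obtain rfl : b = X := ((e ▸ D.img_of hb : D.Img _ b)).unique h
  exact ⟨u, s, e, hb, b1, b3⟩

theorem appB_emb_diag {b : Bk} (h : b.π = 1) (i : Fin 3) (a : V2) : appB b (emb i a) = emb i (app2 (b.g i) a) := by
  rw [appB_emb, h]; rfl

theorem appB_diag {b : Bk} (h : b.π = 1) (v : V6) (i : Fin 3) : appB b v i = app2 (b.g i) (v i) := by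
  show app2 (b.g i) (v (b.π.symm i)) = _
  rw [h]; rfl

/-- A plane fixed by a point is not orthogonal to its translation. -/
theorem WC.fixed_plane (W : D.WC) {g s : G} {u : V6} {b : Bk} (P : D.Pt g u s b) (hπ : b.π = 1) {k : Fin 3}
    (hk : b.g k = 1) : u k ≠ 0 := fun h => by
  have fx : ∀ a, appB b (emb k a) = emb k a := fun a => by rw [appB_emb_diag hπ, hk, CfsgLib.U6Three.app2_one]
  have o : ∀ a, om u (emb k a) = 0 := fun a => by rw [om_emb, h]; simp [det2]
  have := W.isotropic P.notQ P.eq P.acts (fx (1, 0)) (fx (0, 1)) (o _) (o _)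
  rw [om_emb, emb_self] at this
  revert this
  decide

/-- No point has a block matrix moving one plane only. -/
theorem WC.not_one (W : D.WC) {g s : G} {u : V6} {b : Bk} (P : D.Pt g u s b) (hπ : b.π = 1) {i : Fin 3}
    (h : ∀ k, k ≠ i → b.g k = 1) : False := by
  obtain ⟨k, l, hk, hl, hkl⟩ := fin3_others i
  have fx : ∀ k, k ≠ i → ∀ a, appB b (emb k a) = emb k a := fun k hk a => by
    rw [appB_emb_diag hπ, h k hk, CfsgLib.U6Three.app2_one]
  obtain ⟨c, c', e, ne⟩ := det2_two _ _ (W.fixed_plane P hπ (h k hk)) (W.fixed_plane P hπ (h l hl))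
  have := W.isotropic P.notQ P.eq P.acts (fx k hk (u k)) (w := emb k c + emb l c')
    (by rw [appB_add, fx k hk, fx l hl]) (by rw [om_emb]; simp [det2]; ring)
    (by rw [om_add_right, om_emb, om_emb, e])
  rw [om_add_right, om_emb, om_emb, emb_self, emb_ne hkl.symm] at this
  exact ne (by simpa [det2] using this)

/-- Adding a fixed vector shifts the exponent. -/
theorem oexp_add {b : Bk} (u v f : V6) (hf : appB b f = f) : oexp b u (v + f) = oexp b u v - om u f := by
  have h1 : om f (appB b v) = om f v := by conv_lhs => rw [← hf, appB_om]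
  simp only [oexp, appB_add, hf, om_add_left, om_add_right, om_self, h1, om_swap u f, om_swap f v]
  generalize om u f = x
  generalize om f v = y
  generalize om v (appB b v) = z
  generalize om v u = a
  generalize om u (appB b v) = c
  revert x y z a c
  decide

/-- A family of orbit elements gives block matrices of partners. -/
theorem WC.family (W : D.WC) {P : Type} [AddCommGroup P] {g s : G} {u : V6} {b : Bk} (hP : D.Pt g u s b)
    (Wf : P → V6) (hadd : ∀ p p', Wf (p + p') = Wf p + Wf p') (hinj : Function.Injective Wf)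
    (hfix : ∀ p, appB b (Wf p) = Wf p) (hiso : ∀ p p', om (Wf p) (Wf p') = 0) (hu : ∀ p, om u (Wf p) = 0)
    (himg : ∀ p, ∃ v, v - appB b v = Wf p) {f0 : V6} (hf0 : appB b f0 = f0) (hu0 : om u f0 ≠ 0) :
    ∃ f : ZMod 3 × P → Bk, (∀ x y, f (x + y) = f x * f y) ∧ (∀ x, D.Real (f x)) ∧
      ∀ x, x ≠ 0 → ∃ g' u' s', D.Pt g' u' s' (f x) := by
  set c : ZMod 3 × P → G := fun x => D.zz x.1 * D.q (Wf x.2) with hc
  have cy : ∀ x, Commute (c x) (g * D.z * g⁻¹) := fun x => by
    rw [hP.eq]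
    refine (Commute.mul_left ?_ ((D.q_comm.mpr (hu x.2)).mul_left (hP.acts.comm_q (hfix x.2))).symm)
    exact ((D.zz_q _ u).mul_right ((D.zz_comm hP.acts.1.cz _).symm))
  have cmul : ∀ x y, c (x + y) = c x * c y := fun x y => by
    rw [hc]
    show D.zz (x.1 + y.1) * D.q (Wf (x.2 + y.2)) = _
    rw [hadd, mul_assoc, ← mul_assoc (D.q _), ← (D.zz_q y.1 (Wf x.2)).eq, mul_assoc, D.q_mul', hiso, neg_zero,
      D.zz_zero, one_mul, ← mul_assoc, ← D.zz_add]
  refine ⟨fun x => D.im (g⁻¹ * c x * g), fun x y => ?_, fun x => ?_, fun x hx => ?_⟩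
  · refine D.im_eq ?_
    rw [cmul, show g⁻¹ * (c x * c y) * g = g⁻¹ * c x * g * (g⁻¹ * c y * g) by group]
    exact (D.im_spec (D.conj_back (cy x))).mul (D.im_spec (D.conj_back (cy y)))
  · exact D.img_real (D.im_spec (D.conj_back (cy x)))
  obtain ⟨v0, hv0⟩ := himg x.2
  obtain ⟨t, ht⟩ := (by decide : ∀ a l o : ZMod 3, l ≠ 0 → ∃ t : ZMod 3, o - t * l = a) x.1 (om u f0) (oexp b u v0) hu0
  have hf : appB b (t • f0) = t • f0 := funext fun i => by
    show app2 _ ((t • f0) _) = _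
    simp only [Pi.smul_apply, app2_smul]
    exact congrArg (t • ·) (congrFun hf0 i)
  set v := v0 + t • f0
  have hvw : v - appB b v = Wf x.2 := by simp only [v, appB_add, hf, ← hv0]; abel
  have hto : om u (t • f0) = t * om u f0 := by
    simp only [om, Pi.smul_apply, det2_smul]; ring
  have ho : oexp b u v = x.1 := by rw [oexp_add u v0 _ hf, hto, ht]
  obtain ⟨-, hn⟩ := W.orbit_out hP.notQ hP.eq hP.acts v (by rw [hvw, hfix]) (by rw [hvw, hu]) fun h => by
    rw [ho, hvw] at h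
    refine hx (Prod.ext h.1 (hinj (h.2.trans ?_)))
    have := hadd 0 0
    rw [add_zero] at this
    exact (left_eq_add.mp this).symm
  rw [ho, hvw] at hn
  have him := D.im_spec (D.conj_back (cy x))
  have hpt : D.Img (g⁻¹ * D.q v * g * D.z * (g⁻¹ * D.q v * g)⁻¹) (D.im (g⁻¹ * c x * g) * 1) := by
    rw [show g⁻¹ * D.q v * g * D.z * (g⁻¹ * D.q v * g)⁻¹ =
      g⁻¹ * (D.q v * (g * D.z * g⁻¹) * (D.q v)⁻¹) * g by group,
      D.orbit hP.eq hP.acts v (by rw [hvw, hu]), ho, hvw,
      show g⁻¹ * (D.zz x.1 * D.q (Wf x.2) * (g * D.z * g⁻¹)) * g = g⁻¹ * c x * g * D.z by simp only [hc]; group]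
    exact him.mul (D.img_Q D.z_mem)
  rw [mul_one] at hpt
  obtain ⟨u', s', h'⟩ := pt_of_img hpt fun h1 => hn ((D.mem_Q_iff him).mpr h1)
  exact ⟨_, u', s', h'⟩

theorem cv_inv (B : Bk) (i : Fin 3) : cv B⁻¹ i = -cv B (B.π i) := by rw [cv, inv_g, ψ_inv]; rfl

/-- An order-three element of the realised classes without permutation and without quaternion class is trivial. -/
theorem diag_inj {A B : Bk} (hA : A.π = 1) (hB : B.π = 1) (h : cv A = cv B) (h3 : A * B⁻¹ * (A * B⁻¹) * (A * B⁻¹) = 1) :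
    A = B := by
  refine mul_inv_eq_one.mp (eq_one_of_tr h3 ⟨by rw [mul_π, inv_π, hA, hB, inv_one, one_mul], funext fun i => ?_⟩)
  rw [cv_mul, cv_inv, hA, hB, h]
  exact add_neg_cancel _

/-- A point in the Levi part normalising to zero translation. -/
theorem levi_of {g s : G} {u w : V6} {b : Bk} (P : D.Pt g u s b) (h : u = w - appB b w) :
    ∃ s', D.Pt ((D.q w)⁻¹ * g) 0 s' b := by
  have e : (D.q w)⁻¹ * (D.q u * s) * D.q w = D.zz (-om (-w) u + -om (-w + u) (appB b w)) * s := by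
    rw [show (D.q w)⁻¹ * (D.q u * s) * D.q w = (D.q w)⁻¹ * D.q u * (s * D.q w * s⁻¹) * s by group, P.acts.2, D.q_inv,
      D.q_mul', mul_assoc (D.zz _), D.q_mul', ← mul_assoc (D.zz _), ← D.zz_add,
      show -w + u + appB b w = 0 by rw [h]; abel, D.q_zero, mul_one]
  refine ⟨D.zz (-om (-w) u + -om (-w + u) (appB b w)) * s, ?_, ?_, P.ne, P.cube⟩
  · rw [D.q_zero, one_mul, ← e, ← P.eq]; group
  · have := (D.acts_zz (-om (-w) u + -om (-w + u) (appB b w))).mul P.acts
    rwa [one_mul] at this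

/-- An involution acting as the scalar is the inverting one moved by the core. -/
theorem neg_invol (D : Setting G) {f : G} (h : D.Img f negB) (f2 : f * f = 1) :
    ∃ w, f = D.q w * D.j * (D.q w)⁻¹ := by
  obtain ⟨a, s, b, rfl, hs⟩ := D.cases_H h.1
  obtain rfl : b = negB := (D.img_of hs).unique h
  have h1 := hs.mul D.j_acts.inv
  rw [mul_inv_cancel] at h1
  obtain ⟨k, hk⟩ := h1.trivial
  rw [mul_inv_eq_iff_eq_mul] at hk
  subst hk
  have k0 : k = 0 := by
    rw [show D.q a * (D.zz k * D.j) * (D.q a * (D.zz k * D.j)) =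
      D.q a * D.zz k * (D.j * (D.q a * D.zz k) * D.j⁻¹) * (D.j * D.j) by group, D.j_sq, mul_one,
      show D.j * (D.q a * D.zz k) * D.j⁻¹ = D.j * D.q a * D.j⁻¹ * (D.j * D.zz k * D.j⁻¹) by group,
      D.conj_zz D.j_z, inv_eq_of_mul_eq_one_right D.j_sq, D.j_q,
      show D.q a * D.zz k * (D.q (-a) * D.zz k) = D.q a * (D.zz k * D.q (-a)) * D.zz k by group, (D.zz_q k (-a)).eq,
      ← mul_assoc, D.q_mul', om_neg_right, om_self, neg_zero, neg_zero, D.zz_zero, one_mul, add_neg_cancel, D.q_zero,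
      one_mul, ← D.zz_add] at f2
    exact (by decide : ∀ k : ZMod 3, k + k = 0 → k = 0) k (D.zz_inj (f2.trans D.zz_zero.symm))
  refine ⟨-a, ?_⟩
  have e1 : D.j * D.q a = D.q (-a) * D.j := by rw [← D.j_q, mul_assoc (D.j * D.q a), D.j_sq, mul_one]
  rw [k0, D.zz_zero, one_mul, D.q_inv, neg_neg, mul_assoc (D.q (-a)) D.j, e1, ← mul_assoc, D.q_mul', om_self, neg_zero,
    D.zz_zero, one_mul, V6_half]

/-- Three planes moved with aligned translation give no point. -/
theorem WC.levi_full (W : D.WC) {g s : G} {b : Bk} (P : D.Pt g 0 s b) (hπ : b.π = 1) : False := by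
  -- the signs commute with it
  have e0 : g * D.z * g⁻¹ = s := by rw [P.eq, D.q_zero, one_mul]
  have hg : ∀ e, Commute (D.sg e) (g * D.z * g⁻¹) := fun e => by
    have := D.sg_comm P.acts e
    rw [hπ, mul_inv_eq_iff_eq_mul] at this
    rw [e0]
    exact this.symm
  obtain ⟨⟨e, he⟩, -, hno⟩ := D.sign_image hg
  set f := g⁻¹ * D.sg e * g with hf
  obtain ⟨w, hw⟩ := D.neg_invol he (by
    rw [show g⁻¹ * D.sg e * g * (g⁻¹ * D.sg e * g) = g⁻¹ * (D.sg e * D.sg e) * g by group, D.sg_sq]; group)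
  have hfy : ∀ e, Commute (g⁻¹ * D.sg e * g) (g⁻¹ * D.z * g) := fun e => by
    have := ((D.sg_acts e).1.cz).map (MulAut.conj g⁻¹).toMonoidHom
    simpa [mul_assoc] using this
  -- the partner moved into the Levi part
  set g1 := (D.q w)⁻¹ * g⁻¹
  have hy1 : Commute (g1 * D.z * g1⁻¹) D.j := by
    have h := (hfy e).map (MulAut.conj (D.q w)⁻¹).toMonoidHom
    simp only [MulEquiv.coe_toMonoidHom, MulAut.conj_apply, inv_inv] at h
    rw [← hf, show f = D.q w * D.j * (D.q w)⁻¹ from hw] at h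
    simpa [g1, mul_assoc] using h.symm
  have hp : Commute (g⁻¹ * D.z * g) D.z := D.conj_back (P.comm.symm)
  have hy2 : Commute (g1 * D.z * g1⁻¹) D.z := by
    have h := hp.map (MulAut.conj (D.q w)⁻¹).toMonoidHom
    simp only [MulEquiv.coe_toMonoidHom, MulAut.conj_apply, inv_inv,
      show (D.q w)⁻¹ * D.z * D.q w = D.z by rw [mul_assoc, ← (D.q_z w).eq, inv_mul_cancel_left]] at h
    simpa [g1, mul_assoc] using h
  obtain ⟨B, hB⟩ := D.levi_acts ⟨hy2, hy1⟩
  have hout : g1 * D.z * g1⁻¹ ∉ D.Q := fun h => W.partner P.notQ (by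
    have := D.conj_Q (D.q_z w) h
    simpa [g1, mul_assoc] using this)
  have hB' := D.img_acts hB
  obtain ⟨u1, s1, P1⟩ := pt_of_img hB' fun h1 => hout ((D.mem_Q_iff hB').mpr h1)
  obtain ⟨C, hC⟩ := D.img_exists hp
  have hBC : B.π = C.π := by
    have := hB'.unique (b' := 1 * C * 1) (by
      have := ((D.img_Q (D.q_mem w)).inv.mul hC).mul (D.img_Q (D.q_mem w))
      simpa [g1, mul_assoc] using this)
    rw [this, one_mul, mul_one]
  have hBπ : B.π = 1 := by
    rw [hBC]
    exact hno hC hfy (by rw [← hBC]; exact bk_cube_π P1.cube)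
  -- all three planes are moved
  have P0 : D.Pt g1 0 (g1 * D.z * g1⁻¹) B := ⟨by rw [D.q_zero, one_mul], hB, P1.ne, P1.cube⟩
  have hfull : ∀ i, B.g i ≠ 1 := fun i hi => W.fixed_plane P0 hBπ hi rfl
  choose a ha1 ha2 ha3 using fun i => move_exists _ (bk_cube_g P0.cube hBπ i) (hfull i)
  have hF : D.Img (g1⁻¹ * D.j * g1) (sB e) := by
    have e1 : g1⁻¹ * D.j * g1 = D.sg e := by
      rw [show g1⁻¹ * D.j * g1 = g * (D.q w * D.j * (D.q w)⁻¹) * g⁻¹ by simp only [g1]; group, ← hw, hf]; group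
    rw [e1]
    exact D.img_acts (D.sg_acts e)
  obtain ⟨S, hS, hS0⟩ : ∃ S : Fin 3 → Bool, (∃ i, S i = true) ∧
      ((if S 0 then det2 (a 0) (app2 (B.g 0) (a 0)) else 0) + (if S 1 then det2 (a 1) (app2 (B.g 1) (a 1)) else 0) +
        (if S 2 then det2 (a 2) (app2 (B.g 2) (a 2)) else 0)) = 0 := by
    rcases zmod_three_nz _ _ _ (ha3 0) (ha3 1) (ha3 2) with h | h | h | h
    · exact ⟨![true, true, true], ⟨0, rfl⟩, by simpa using h⟩
    · exact ⟨![true, true, false], ⟨0, rfl⟩, by simpa using h⟩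
    · exact ⟨![true, false, true], ⟨0, rfl⟩, by simpa using h⟩
    · exact ⟨![false, true, true], ⟨1, rfl⟩, by simpa using h⟩
  set v : V6 := fun i => if S i then a i else 0 with hv
  refine W.no_levi P0.notQ rfl hB hF rfl (v := v) ?_ ?_ ?_
  · funext i
    simp only [appB_diag hBπ, Pi.sub_apply, hv]
    split_ifs
    · exact ha1 i
    · simp [app2_zero]
  · have : ∀ i, det2 (v i) (app2 (B.g i) (v i)) = if S i then det2 (a i) (app2 (B.g i) (a i)) else 0 := fun i => by
      simp only [hv]; split_ifs <;> simp [det2]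
    simp only [om, appB_diag hBπ, this]
    exact hS0
  · obtain ⟨i, hi⟩ := hS
    intro h
    have := congrFun h i
    simp only [appB_diag hBπ, Pi.sub_apply, hv, hi, if_true] at this
    exact ha2 i this

/-- No point moves all three planes. -/
theorem WC.not_full (W : D.WC) {g s : G} {u : V6} {b : Bk} (P : D.Pt g u s b) (hπ : b.π = 1)
    (hf : ∀ i, b.g i ≠ 1) : False := by
  have g3 := bk_cube_g P.cube hπ
  choose hax hfx hline hpre using fun i => ax_spec _ (g3 i) (hf i)
  set A : Fin 3 → V2 := fun i => ax (b.g i) with hA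
  by_cases h0 : ∀ i, det2 (u i) (A i) = 0
  · choose n hn using fun i => det2_line _ _ (hax i) (h0 i)
    choose c hc using fun i => hpre i (n i)
    obtain ⟨s', P'⟩ := levi_of P (w := c) (funext fun i => by
      rw [Pi.sub_apply, appB_diag hπ, hc i, hn i])
    exact W.levi_full P' hπ
  push Not at h0
  obtain ⟨i0, hi0⟩ := h0
  set l : Fin 3 → ZMod 3 := fun i => det2 (u i) (A i)
  let L : AddSubgroup (Fin 3 → ZMod 3) :=
    { carrier := {n | l 0 * n 0 + l 1 * n 1 + l 2 * n 2 = 0}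
      zero_mem' := by simp
      add_mem' := fun {a c} ha hc => by
        simp only [Set.mem_setOf_eq, Pi.add_apply] at ha hc ⊢; linear_combination ha + hc
      neg_mem' := fun {a} ha => by
        simp only [Set.mem_setOf_eq, Pi.neg_apply] at ha ⊢; linear_combination -ha }
  have hom : ∀ n : Fin 3 → ZMod 3, om u (fun i => n i • A i) = l 0 * n 0 + l 1 * n 1 + l 2 * n 2 := fun n => by
    simp only [om, det2_smul, l]; ring
  obtain ⟨f, fadd, freal, fpt⟩ := W.family P (P := ↥L) (fun n i => n.1 i • A i)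
    (fun p p' => funext fun i => by simp [add_smul])
    (fun p p' h => Subtype.ext (funext fun i =>
      (by decide +kernel : ∀ (n m : ZMod 3) (a : V2), a ≠ 0 → n • a = m • a → n = m) _ _ _ (hax i) (congrFun h i)))
    (fun p => funext fun i => by rw [appB_diag hπ, app2_smul, hfx i])
    (fun p p' => by simp only [om, det2_par, add_zero])
    (fun p => (hom p.1).trans p.2)
    (fun p => by
      choose c hc using fun i => hpre i (p.1 i)
      exact ⟨c, funext fun i => by rw [Pi.sub_apply, appB_diag hπ, hc i]⟩)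
    (f0 := emb i0 (A i0)) (by rw [appB_emb_diag hπ, hfx i0]) (by rw [om_emb]; exact hi0)
  have f0 : f 0 = 1 := by
    have := fadd 0 0
    rw [add_zero] at this
    exact left_eq_mul.mp this
  have f3 : ∀ x, f x * f x * f x = 1 := fun x => by
    rw [← fadd, ← fadd, show x + x + x = 0 from Prod.ext ((by decide : ∀ k : ZMod 3, k + k + k = 0) _)
      (Subtype.ext (funext fun i => (by decide : ∀ k : ZMod 3, k + k + k = 0) _)), f0]
  have finj : Function.Injective f := fun x y h => by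
    by_contra hne
    obtain ⟨_, _, _, h'⟩ := fpt (x - y) (sub_ne_zero.mpr hne)
    refine h'.ne (mul_right_cancel (b := f y) ?_)
    rw [← fadd, sub_add_cancel, one_mul, h]
  classical
  haveI := Fintype.ofFinite ↥L
  have hL : 27 ≤ Fintype.card (ZMod 3 × ↥L) := by
    have := orth_count l
    rw [← Nat.card_eq_fintype_card] at this
    rw [Fintype.card_prod, ZMod.card, ← Nat.card_eq_fintype_card (α := ↥L),
      show Nat.card ↥L = Nat.card {n : Fin 3 → ZMod 3 // l 0 * n 0 + l 1 * n 1 + l 2 * n 2 = 0} from rfl]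
    omega
  by_cases hσ : ∃ x, (f x).π ≠ 1
  · obtain ⟨x0, hx0⟩ := hσ
    have hinj : Function.Injective fun x => ((f x).π, cv (f x) 0) := fun x y h => by
      simp only [Prod.mk.injEq] at h
      have hπd : (f x * (f y)⁻¹).π = 1 := by rw [mul_π, inv_π, h.1, mul_inv_cancel]
      obtain ⟨k1, k2⟩ := D.diag_const (freal x0) (bk_cube_π (f3 x0)) hx0 (D.real_mul (freal x) (D.real_inv (freal y))) hπd
      have k0 : cv (f x * (f y)⁻¹) 0 = 0 := by
        rw [cv_mul, cv_inv, h.1, Equiv.apply_symm_apply, h.2, add_neg_cancel]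
      have hd3 : f x * (f y)⁻¹ = f (x - y) := mul_inv_eq_iff_eq_mul.mpr (by rw [← fadd, sub_add_cancel])
      refine finj (mul_inv_eq_one.mp (eq_one_of_tr (hd3 ▸ f3 (x - y)) ⟨hπd, funext fun i => ?_⟩))
      fin_cases i
      exacts [k0, k1.symm.trans k0, (k1.trans k2).symm.trans k0]
    have := Fintype.card_le_of_injective _ hinj
    simp [Fintype.card_perm, Nat.factorial] at this
    simp at hL
    omega
  push Not at hσ
  have cinj : Function.Injective fun x => cv (f x) := fun x y h => by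
    have hd3 : f x * (f y)⁻¹ = f (x - y) := mul_inv_eq_iff_eq_mul.mpr (by rw [← fadd, sub_add_cancel])
    exact finj (diag_inj (hσ x) (hσ y) h (by rw [hd3]; exact f3 _))
  have csurj := ((Fintype.bijective_iff_injective_and_card _).mpr ⟨cinj, le_antisymm
    (Fintype.card_le_of_injective _ cinj) (by simpa using hL)⟩).2
  obtain ⟨x, hx⟩ := csurj ![1, 0, 0]
  simp only at hx
  have x0 : x ≠ 0 := fun h => by
    rw [h, f0, cv_one] at hx
    exact absurd (congrFun hx 0) (by decide)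
  obtain ⟨g', u', s', P'⟩ := fpt x x0
  refine W.not_one P' (hσ x) (i := 0) fun k hk => ψ_three _ (bk_cube_g P'.cube (hσ x) k) ?_
  have := congrFun hx k
  fin_cases k
  exacts [absurd rfl hk, this, this]

/-- No point moves exactly two planes. -/
theorem WC.not_diag (W : D.WC) {g s : G} {u : V6} {b : Bk} (P : D.Pt g u s b) (hπ : b.π = 1) : False := by
  classical
  by_cases hf : ∀ i, b.g i ≠ 1
  · exact W.not_full P hπ hf
  push Not at hf
  obtain ⟨k, hk⟩ := hf
  by_cases h1 : ∃ i, i ≠ k ∧ b.g i = 1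
  · obtain ⟨i, hik, hi⟩ := h1
    obtain ⟨m, hm⟩ := (by decide +kernel : ∀ i k : Fin 3, i ≠ k → ∃ m, ∀ l, l ≠ m → l = i ∨ l = k) i k hik
    exact W.not_one P hπ (i := m) fun l hl => by rcases hm l hl with rfl | rfl <;> assumption
  push Not at h1
  have g3 := bk_cube_g P.cube hπ
  choose hax hfx hline hpre using fun i (hi : i ≠ k) => ax_spec _ (g3 i) (h1 i hi)
  obtain ⟨n, n0, nk, no⟩ := orth_two (fun i => det2 (u i) (ax (b.g i))) k
  obtain ⟨c0, hc0⟩ := det2_ne _ (W.fixed_plane P hπ hk)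
  obtain ⟨i0, hi0⟩ := Function.ne_iff.mp n0
  have hi0k : i0 ≠ k := fun h => hi0 (h ▸ nk)
  set Wf : ZMod 3 → V6 := fun t i => (t * n i) • ax (b.g i)
  obtain ⟨f, fadd, freal, fpt⟩ := W.family P (P := ZMod 3) Wf (fun p p' => funext fun i => by simp [Wf, add_mul, add_smul])
    (fun p p' h => (by decide +kernel : ∀ (p q m : ZMod 3) (a : V2), m ≠ 0 → a ≠ 0 → (p * m) • a = (q * m) • a → p = q)
      _ _ _ _ hi0 (hax i0 hi0k) (congrFun h i0))
    (fun p => funext fun i => by
      rw [appB_diag hπ]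
      by_cases hi : i = k
      · subst hi; rw [hk, CfsgLib.U6Three.app2_one]
      · simp only [Wf]; rw [app2_smul, hfx i hi])
    (fun p p' => by simp only [om, Wf, det2_par, add_zero])
    (fun p => by simp only [om, Wf, det2_smul]; linear_combination p * no)
    (fun p => by
      have : ∀ i, ∃ c, c - app2 (b.g i) c = (p * n i) • ax (b.g i) := fun i => by
        by_cases hi : i = k
        · subst hi; exact ⟨0, by simp [app2_zero, nk]⟩
        · exact hpre i hi _
      choose c hc using this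
      exact ⟨c, funext fun i => by rw [Pi.sub_apply, appB_diag hπ, hc i]⟩)
    (f0 := emb k c0) (by rw [appB_emb_diag hπ, hk, CfsgLib.U6Three.app2_one]) (by rw [om_emb]; exact hc0)
  have f0 : f 0 = 1 := by
    have := fadd 0 0
    rw [add_zero] at this
    exact left_eq_mul.mp this
  have f3 : ∀ x, f x * f x * f x = 1 := fun x => by
    rw [← fadd, ← fadd, show x + x + x = 0 from Prod.ext ((by decide : ∀ k : ZMod 3, k + k + k = 0) _)
      ((by decide : ∀ k : ZMod 3, k + k + k = 0) _), f0]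
  have fπ : ∀ x, (f x).π = 1 := fun x => by
    by_contra hne
    obtain ⟨k1, k2⟩ := D.diag_const (freal x) (bk_cube_π (f3 x)) hne ⟨s, P.acts⟩ hπ
    have kk : cv b k = 0 := by rw [cv, hk, ψ_one]
    have all : ∀ i, cv b i = 0 := fun i => by fin_cases i <;> fin_cases k <;> simp_all
    exact h1 i0 hi0k (ψ_three _ (g3 i0) (all i0))
  let C : ZMod 3 × ZMod 3 →+ (Fin 3 → ZMod 3) := AddMonoidHom.mk' (fun x => cv (f x)) fun x y => funext fun i => by
    rw [fadd, cv_mul, fπ]; rfl
  set A := C (1, 0)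
  set B := C (0, 1)
  have hC : ∀ a t : ZMod 3, C (a, t) = a • A + t • B := fun a t => by
    rw [show ((a, t) : ZMod 3 × ZMod 3) = a • ((1 : ZMod 3), (0 : ZMod 3)) + t • ((0 : ZMod 3), (1 : ZMod 3)) by
      simp, map_add, ZMod.map_smul, ZMod.map_smul]
  obtain ⟨a, t, hne, hw⟩ := plane_weight A B fun a t h => by
    by_contra hh
    obtain ⟨_, _, _, P'⟩ := fpt (a, t) fun e => hh ⟨(Prod.ext_iff.mp e).1, (Prod.ext_iff.mp e).2⟩
    exact P'.ne (eq_one_of_tr P'.cube ⟨fπ _, (hC a t).trans h⟩)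
  obtain ⟨g', u', s', P'⟩ := fpt (a, t) fun e => by
    rcases hne with h | h
    exacts [h (Prod.ext_iff.mp e).1, h (Prod.ext_iff.mp e).2]
  have hcv : ∀ i, cv (f (a, t)) i = (a • A + t • B) i := fun i => congrFun (hC a t) i
  rcases hw with ⟨i, hi⟩ | hw
  · exact W.not_one P' (fπ _) (i := i) fun l hl =>
      ψ_three _ (bk_cube_g P'.cube (fπ _) l) ((hcv l).trans (hi l hl))
  · exact W.not_full P' (fπ _) fun i h => hw i (by rw [← hcv, cv, h, ψ_one])

/-- The central element is not weakly closed in the core. -/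
theorem exists_pt (D : Setting G) : ∃ g k v, g * D.z * g⁻¹ = D.zz k * D.q v ∧ v ≠ 0 := by
  by_contra hno
  push Not at hno
  have W : D.WC := hno
  obtain ⟨g0, hc0, hk0⟩ := D.nwc
  have hQ0 : g0 * D.z * g0⁻¹ ∉ D.Q := fun h => by
    obtain ⟨k, e⟩ := W.pt_Q h
    exact hk0 k e
  obtain ⟨u0, s0, b, e0, hb0, b3, b1, hu⟩ := D.pt_shape hc0 hQ0
  have P0 : D.Pt g0 u0 s0 b := ⟨e0, hb0, b1, b3⟩
  have hπ : b.π ≠ 1 := fun h => W.not_diag P0 h
  -- normalise
  set i1 := b.π 0
  set i2 := b.π i1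
  have hc := (by decide +kernel : ∀ p : Equiv.Perm (Fin 3), p * p * p = 1 → p ≠ 1 → p 0 ≠ 0 ∧ p (p 0) ≠ 0 ∧
    p (p 0) ≠ p 0 ∧ p (p (p 0)) = 0 ∧ ∀ i, i = 0 ∨ i = p 0 ∨ i = p (p 0)) b.π (bk_cube_π b3) hπ
  obtain ⟨h10, h20, h21, h30, hcases⟩ := hc
  have hcases : ∀ i, i = 0 ∨ i = i1 ∨ i = i2 := hcases
  have h10 : i1 ≠ 0 := h10
  have h20 : i2 ≠ 0 := h20
  have h21 : i2 ≠ i1 := h21
  have s1 : b.π.symm i1 = 0 := b.π.symm_apply_apply 0
  have s2 : b.π.symm i2 = i1 := b.π.symm_apply_apply i1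
  have s3 : b.π.symm 0 = i2 := by rw [Equiv.symm_apply_eq]; exact h30.symm
  set w : V6 := emb i1 (u0 i1) + emb i2 (u0 i2 + app2 (b.g i2) (u0 i1))
  have hw : u0 = w - appB b w := by
    funext i
    have h := congrFun hu 0
    simp only [Pi.add_apply, appB, s3, s2, Pi.zero_apply] at h
    rcases hcases i with rfl | rfl | rfl
    · simp only [Pi.sub_apply, appB, s3, w, Pi.add_apply, emb_ne h10.symm, emb_ne h20.symm, emb_ne h21, emb_self,
        zero_add, CfsgLib.U6Three.app2_add, zero_sub]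
      rw [← sub_eq_zero, sub_neg_eq_add, ← add_assoc]; exact h
    · simp [Pi.sub_apply, appB, s1, w, emb_self, emb_ne h10.symm, emb_ne h20.symm, emb_ne h21.symm, app2_zero, i1, i2]
    · simp [Pi.sub_apply, appB, s2, w, emb_self, emb_ne h21, emb_ne h21.symm, i1, i2]
  obtain ⟨s, P⟩ := levi_of P0 hw
  set g := (D.q w)⁻¹ * g0
  have e1 : g * D.z * g⁻¹ = s := by rw [P.eq, D.q_zero, one_mul]
  have hcj : Commute D.j (g * D.z * g⁻¹) := e1 ▸ P.acts.1.ct.symm
  obtain ⟨F, hF⟩ := D.img_exists (D.conj_back hcj)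
  -- the partner is a cycle too
  have hp : Commute (g⁻¹ * D.z * g) D.z := D.conj_back P.comm.symm
  have hpQ := W.partner P.notQ
  obtain ⟨C, hC⟩ := D.img_exists hp
  have hC' : D.Img (g⁻¹ * D.z * g⁻¹⁻¹) C := by rwa [inv_inv]
  obtain ⟨u', s', P'⟩ := pt_of_img hC' fun h1 => hpQ ((D.mem_Q_iff hC).mpr h1)
  have hcomm : Commute (g⁻¹ * D.j * g) (g⁻¹ * D.z * g) := by
    have := D.j_z.map (MulAut.conj g⁻¹).toMonoidHom
    simpa [mul_assoc] using this
  have hFπ : F.π = 1 := by
    have h1 := congrArg Bk.π (D.img_commute hF hC hcomm)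
    rw [mul_π, mul_π] at h1
    refine perm_inv_cycle C.π F.π ?_ (bk_cube_π P'.cube) (fun h => W.not_diag P' h) h1
    rw [← mul_π, D.img_sq hF (by rw [show g⁻¹ * D.j * g * (g⁻¹ * D.j * g) = g⁻¹ * (D.j * D.j) * g by group, D.j_sq]; group),
      one_π]
  -- a vector moved to a fixed one
  set δ : V2 := (1, 0)
  set δ1 := app2 (b.g i1) δ
  set δ2 := app2 (b.g i2) δ1
  have hδ : app2 (b.g 0) δ2 = δ := by
    have := congrArg (fun c : Bk => c.g 0) b3
    simp only [mul_g, mul_π, one_g, Equiv.Perm.mul_def, Equiv.symm_trans_apply, s3, s2] at this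
    simp only [δ2, δ1, ← CfsgLib.U6Three.app2_mul]
    rw [← mul_assoc] at *
    rw [this, CfsgLib.U6Three.app2_one]
  set v : V6 := emb i1 δ1 - emb i2 δ2
  have hbv : appB b v = emb i2 δ2 - emb 0 δ := by
    rw [appB_sub, appB_emb, appB_emb, show b.π i1 = i2 from rfl, show b.π i2 = 0 from h30, hδ]
  have hd : v - appB b v = emb i1 δ1 + emb i2 δ2 + emb 0 δ := by
    rw [hbv]
    funext k
    simp only [v, Pi.sub_apply, Pi.add_apply]
    exact (by decide +kernel : ∀ x y z : V2, x - y - (y - z) = x + y + z) _ _ _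
  refine W.no_levi P.notQ e1 P.acts hF hFπ (v := v) ?_ ?_ ?_
  · rw [hd, appB_add, appB_add, appB_emb, appB_emb, appB_emb, show b.π i1 = i2 from rfl, show b.π i2 = 0 from h30, hδ]
    abel
  · rw [hbv, om_sub_right, om_emb, om_emb]
    have a2 : v i2 = -δ2 := by simp [v, emb_self, emb_ne h21]
    have a0 : v 0 = 0 := by simp [v, emb_ne h10.symm, emb_ne h20.symm]
    rw [a2, a0]; simp [det2]; ring
  · intro h
    have := congrFun (hd.symm.trans h) 0
    simp [emb_self, emb_ne h10.symm, emb_ne h20.symm, δ] at this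

end Setting

end CfsgLib.Fi22Loc
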