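import Cfsg.Agent.Lib.Fi22Loc.Transv
import Mathlib.GroupTheory.SpecificGroups.Quaternion

/-!
The quaternion part seen on two planes, and the involution of one plane as a commutator.
-/

set_option autoImplicit false
set_option synthInstance.maxSize 1024

namespace CfsgLib.Fi22Loc

open CfsgLib.U6Three (V2 SL23 det2 app2)

universe u

theorem ψ_inv_zero {a : SL23} (h : ψ a = 0) : ψ a⁻¹ = 0 := by rw [ψ_inv, h, neg_zero]

/-- The quartic elements. -/
def K8 : Subgroup SL23 where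
  carrier := {a | ψ a = 0}
  one_mem' := ψ_one
  mul_mem' := fun {a b} (ha : ψ a = 0) (hb : ψ b = 0) => show ψ (a * b) = 0 by rw [ψ_mul, ha, hb, add_zero]
  inv_mem' := fun {a} (ha : ψ a = 0) => ψ_inv_zero ha

theorem mem_K8 {a : SL23} : a ∈ K8 ↔ ψ a = 0 := Iff.rfl

instance : DecidablePred (· ∈ K8) := fun a => decidable_of_iff _ mem_K8.symm

theorem card_K8 : Nat.card K8 = 8 := by
  have e : Nat.card K8 = Nat.card {a : SL23 // ψ a = 0} := Nat.card_congr (Equiv.subtypeEquivRight fun _ => mem_K8)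
  rw [e, Nat.card_eq_fintype_card]
  decide +kernel

/-- The first generator. -/
def qA : SL23 := ⟨!![0, 1; 2, 0], by decide⟩

/-- The second generator. -/
def qX : SL23 := ⟨!![1, 1; 1, 2], by decide⟩

/-- The quaternion group in the matrix group. -/
def qmap : QuaternionGroup 2 → SL23
  | .a i => qA ^ i.val
  | .xa i => qX * qA ^ i.val

theorem qmap_mul : ∀ x y : QuaternionGroup 2, qmap (x * y) = qmap x * qmap y := by decide +kernel

theorem qmap_facts : (∀ x : QuaternionGroup 2, ψ (qmap x) = 0) ∧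
    ∀ x : QuaternionGroup 2, qmap x = 1 → x = 1 := by decide +kernel

/-- The quartic elements form a quaternion group. -/
noncomputable def quatEquiv : QuaternionGroup 2 ≃* K8 :=
  MulEquiv.ofBijective ((MonoidHom.mk' qmap qmap_mul).codRestrict K8 qmap_facts.1)
    ((Nat.bijective_iff_injective_and_card _).mpr ⟨(injective_iff_map_eq_one _).mpr fun x h =>
      qmap_facts.2 x (congrArg Subtype.val h), by rw [card_K8, Nat.card_eq_fintype_card, QuaternionGroup.card]⟩)

theorem ψ_qA : ψ qA = 0 := by decide +kernel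

theorem quartic_comm : ∀ a : SL23, ψ a = 0 → a ≠ 1 → a ≠ -1 → ∃ c, ψ c = 0 ∧ a * c * a⁻¹ * c⁻¹ = -1 := by
  decide +kernel

namespace Setting

variable {G : Type u} [Group G] (D : Setting G)

/-- A diagonal class moving every plane. -/
theorem exists_diag : ∃ d : Fin 3 → SL23, D.Real (dg d) ∧ ∀ i, ψ (d i) ≠ 0 := by
  obtain ⟨g, k, v, h, hv⟩ := D.exists_pt
  obtain ⟨k', v', P'⟩ := CPt.partner (D := D) ⟨h, hv⟩
  have P : D.Duo g k v k' v' := ⟨⟨h, hv⟩, P'⟩
  obtain ⟨-, -, -, ⟨w, c, hw, hd, hc, hcv⟩⟩ := P.shape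
  refine ⟨(D.im (g⁻¹ * D.q w * g)).g, by rw [← eq_dg hd]; exact D.img_real (P.img hw), fun i hi => hc ?_⟩
  rw [← congrFun hcv i]; exact hi

/-- The quaternion tuples as a subgroup. -/
def PQ : Subgroup (Fin 3 → SL23) where
  carrier := {g | D.Pq g}
  one_mem' := ⟨fun _ => ψ_one, dg_one ▸ ⟨_, D.acts_one⟩⟩
  mul_mem' := fun ha hb => ha.mul hb
  inv_mem' := fun {a} ha => ⟨fun i => ψ_inv_zero (ha.1 i), by
    have h := D.real_inv ha.2
    rwa [inv_eq_of_mul_eq_one_right (show dg a * dg a⁻¹ = 1 by rw [dg_mul, mul_inv_cancel, dg_one])] at h⟩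

theorem card_PQ : Nat.card D.PQ = 128 := D.card_Pq

/-- A quaternion tuple trivial on two planes is a sign on the third. -/
theorem single_sign {g : Fin 3 → SL23} (hg : D.Pq g) {m : Fin 3} (h : ∀ i, i ≠ m → g i = 1 ∨ g i = -1) :
    g m = 1 ∨ g m = -1 := by
  obtain ⟨σ, hσ, hc, hne⟩ := D.exists_sigma
  obtain ⟨d, hd, hm⟩ := D.exists_diag
  by_contra hno
  push Not at hno
  exact D.no_single hσ hc hne hd (hm m) hg hno h

/-- A quaternion tuple with prescribed values on two planes. -/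
theorem pq_pair (a b : SL23) (ha : ψ a = 0) (hb : ψ b = 0) {i j : Fin 3} (hij : i ≠ j) :
    ∃ g, D.Pq g ∧ g i = a ∧ g j = b := by
  let f : D.PQ →* K8 × K8 :=
    { toFun := fun g => (⟨g.1 i, g.2.1 i⟩, ⟨g.1 j, g.2.1 j⟩)
      map_one' := rfl
      map_mul' := fun _ _ => rfl }
  obtain ⟨m, hm, hl⟩ := (by decide +kernel : ∀ i j : Fin 3, i ≠ j → ∃ m, m ≠ i ∧ ∀ l, l = i ∨ l = j ∨ l = m) i j hij
  have hker : Nat.card f.ker ≤ 2 := by
    refine (Nat.card_le_card_of_injective (β := {x : SL23 // x = 1 ∨ x = -1}) (fun g => ⟨g.1.1 m,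
      D.single_sign g.1.2 fun l hlm => ?_⟩) fun g g' e => ?_).trans ?_
    · have h := MonoidHom.mem_ker.mp g.2
      rcases hl l with r | r | r
      exacts [Or.inl (r ▸ congrArg (fun x : K8 × K8 => (x.1 : SL23)) h),
        Or.inl (r ▸ congrArg (fun x : K8 × K8 => (x.2 : SL23)) h), absurd r hlm]
    · refine Subtype.ext (Subtype.ext (funext fun l => ?_))
      have h := MonoidHom.mem_ker.mp g.2
      have h' := MonoidHom.mem_ker.mp g'.2
      rcases hl l with r | r | r <;> rw [r]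
      exacts [(congrArg (fun x : K8 × K8 => (x.1 : SL23)) h).trans (congrArg (fun x : K8 × K8 => (x.1 : SL23)) h').symm,
        (congrArg (fun x : K8 × K8 => (x.2 : SL23)) h).trans (congrArg (fun x : K8 × K8 => (x.2 : SL23)) h').symm,
        congrArg Subtype.val e]
    · rw [Nat.card_eq_fintype_card]
      exact (by decide +kernel : Fintype.card {x : SL23 // x = 1 ∨ x = -1} ≤ 2)
  have hm' := f.ker.card_mul_index
  rw [Subgroup.index_ker, D.card_PQ] at hm'
  have htop : f.range = ⊤ := Subgroup.eq_top_of_le_card _ (by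
    rw [Nat.card_prod, card_K8]
    have := Nat.mul_le_mul_right (Nat.card f.range) hker
    omega)
  obtain ⟨g, hg⟩ := (htop.symm ▸ Subgroup.mem_top _ : ((⟨a, ha⟩, ⟨b, hb⟩) : K8 × K8) ∈ f.range)
  exact ⟨g.1, g.2, congrArg (fun x : K8 × K8 => (x.1 : SL23)) hg, congrArg (fun x : K8 × K8 => (x.2 : SL23)) hg⟩

theorem sB_comm_dg (e : Fin 3 → Bool) (g : Fin 3 → SL23) : dg g * sB e = sB e * dg g := by
  rw [sB, dg_mul, dg_mul]
  exact congrArg dg (funext fun i =>
    (by decide +kernel : ∀ (a : SL23) (t : Bool), a * sgn t = sgn t * a) _ _)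

/-- The involution of the first plane is a commutator in its centraliser. -/
theorem t_comm : ∃ a b : G, Commute a (D.sg (one1 0)) ∧ Commute b (D.sg (one1 0)) ∧
    (a * b * a⁻¹ * b⁻¹) ^ 3 = D.sg (one1 0) := by
  obtain ⟨c, hc, hac⟩ := quartic_comm qA ψ_qA (by decide +kernel) (by decide +kernel)
  obtain ⟨w, hw, w0, w1⟩ := D.pq_pair qA 1 ψ_qA ψ_one (show (0 : Fin 3) ≠ 1 by decide)
  obtain ⟨w', hw', w0', w2'⟩ := D.pq_pair c 1 hc ψ_one (show (0 : Fin 3) ≠ 2 by decide)
  obtain ⟨s, hs⟩ := hw.2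
  obtain ⟨s', hs'⟩ := hw'.2
  have hcm : ∀ {s : G} {g : Fin 3 → SL23}, D.Acts s (dg g) → Commute s (D.sg (one1 0)) := fun {s g} h => by
    have := D.sg_comm h (one1 0)
    rw [show (fun i => one1 0 ((dg g).π.symm i)) = one1 0 from rfl, mul_inv_eq_iff_eq_mul] at this
    exact this
  refine ⟨s, s', hcm hs, hcm hs', ?_⟩
  have h := ((hs.mul hs').mul hs.inv).mul hs'.inv
  have e : dg w * dg w' * (dg w)⁻¹ * (dg w')⁻¹ = sB (one1 0) := by
    refine mul_inv_eq_iff_eq_mul.mpr (mul_inv_eq_iff_eq_mul.mpr ?_)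
    rw [sB, dg_mul, dg_mul, dg_mul]
    refine congrArg dg (funext fun i => ?_)
    simp only [Pi.mul_apply]
    fin_cases i
    · simp only [Fin.zero_eta, w0, w0', one1, decide_true, sgn, if_true]
      rw [← hac]; group
    · simp [w1, one1, sgn]
    · simp [w2', one1, sgn]
  rw [e] at h
  have h2 := h.mul (D.sg_acts (one1 0))
  rw [sB_sq] at h2
  obtain ⟨k, hk⟩ := h2.trivial
  rw [show s * s' * s⁻¹ * s'⁻¹ = D.zz k * D.sg (one1 0) by
      rw [← hk, mul_assoc (s * s' * s⁻¹ * s'⁻¹), D.sg_sq, mul_one],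
    ((D.zz_comm (D.sg_acts _).1.cz k).symm).mul_pow, D.Q_cube (D.zz_mem k), one_mul, pow_succ, pow_two, D.sg_sq, one_mul]

end Setting

end CfsgLib.Fi22Loc
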