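import Cfsg.Agent.Lib.Fi22Loc.Setting

/-!
The quaternion part allows, next to a cycle of the planes, only the constant diagonal classes; so the commutator of
two elements of order three is in the core as soon as it has order dividing three.
-/

set_option autoImplicit false
set_option synthInstance.maxSize 1024

namespace CfsgLib.Fi22Loc

open CfsgLib.U6Three (V2 SL23 det2 app2)

universe u

theorem sl_fill : ∀ d a : SL23, ψ d ≠ 0 → ψ a = 0 → a ≠ 1 → a ≠ -1 → ∀ c : SL23, ψ c = 0 →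
    c = 1 ∨ c = -1 ∨ c = a ∨ c = -1 * a ∨ c = d * a * d⁻¹ ∨ c = -1 * (d * a * d⁻¹) ∨ c = a * (d * a * d⁻¹) ∨
      c = -1 * (a * (d * a * d⁻¹)) := by decide +kernel

theorem sl_comm_scalar : ∀ d w : SL23, ψ d = 0 → ψ w = 0 → d * w * d⁻¹ * w⁻¹ = 1 ∨ d * w * d⁻¹ * w⁻¹ = -1 := by
  decide +kernel

theorem sl_scalar_comm : ∀ d w : SL23, (w = 1 ∨ w = -1) → d * w * d⁻¹ * w⁻¹ = 1 := by decide +kernel

theorem sl_comm_moved : ∀ d w : SL23, ψ d ≠ 0 → ψ w = 0 → w ≠ 1 → w ≠ -1 →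
    ψ (d * w * d⁻¹ * w⁻¹) = 0 ∧ d * w * d⁻¹ * w⁻¹ ≠ 1 ∧ d * w * d⁻¹ * w⁻¹ ≠ -1 := by decide +kernel

theorem ψ_inv : ∀ g : SL23, ψ g⁻¹ = -ψ g := by decide +kernel

theorem ψ_comm (d w : SL23) : ψ (d * w * d⁻¹ * w⁻¹) = 0 := by rw [ψ_mul, ψ_mul, ψ_mul, ψ_inv, ψ_inv]; ring

theorem ψ_conj (d w : SL23) : ψ (d * w * d⁻¹) = ψ w := by rw [ψ_mul, ψ_mul, ψ_inv]; ring

theorem cv_shape : ∀ (c : Fin 3 → ZMod 3) (π : Equiv.Perm (Fin 3)), π * π * π = 1 → π ≠ 1 →
    (∀ i, c i ≠ 0) → ((∀ i, c i = c (π.symm i)) ∨ ∀ i, c i = -c (π.symm i)) → c 0 = c 1 ∧ c 1 = c 2 := by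
  decide +kernel

theorem perm_cases : ∀ (π ρ : Equiv.Perm (Fin 3)), π * π * π = 1 → π ≠ 1 → ρ * ρ * ρ = 1 →
    ρ = 1 ∨ ρ = π ∨ ρ = π * π := by decide +kernel

theorem perm_third : ∀ (π : Equiv.Perm (Fin 3)), π * π * π = 1 → π ≠ 1 → ∀ l, ∃ m, m ≠ l ∧ π.symm m ≠ l ∧
    ∀ i, i = m ∨ i = l ∨ π.symm i = l := by decide +kernel

theorem bk_cube_π {b : Bk} (h : b * b * b = 1) : b.π * b.π * b.π = 1 := by rw [← mul_π, ← mul_π, h, one_π]

theorem bk_cube_g {b : Bk} (h : b * b * b = 1) (hπ : b.π = 1) (i : Fin 3) : b.g i * b.g i * b.g i = 1 := by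
  have e1 : ∀ k, b.π.symm k = k := fun k => by rw [hπ]; rfl
  have e2 : (b.π * b.π).symm i = i := by rw [hπ]; rfl
  have := congrArg (fun c : Bk => c.g i) h
  simpa only [mul_g, mul_π, one_g, e1, e2] using this

/-- A block matrix of order three which is trivial modulo the quaternion groups is trivial. -/
theorem eq_one_of_tr {b : Bk} (h : b * b * b = 1) (ht : Tr b) : b = 1 :=
  Bk.ext' ht.1 fun i => ψ_three _ (bk_cube_g h ht.1 i) (congrFun ht.2 i)

namespace Setting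

variable {G : Type u} [Group G] (D : Setting G)

theorem real_mul {a b : Bk} (h : D.Real a) (h' : D.Real b) : D.Real (a * b) :=
  ⟨_, h.choose_spec.mul h'.choose_spec⟩

theorem real_inv {a : Bk} (h : D.Real a) : D.Real a⁻¹ := ⟨_, h.choose_spec.inv⟩

theorem real_sB (e : Fin 3 → Bool) : D.Real (sB e) := ⟨_, D.sg_acts e⟩

/-- The quartic tuples realised. -/
def Pq (g : Fin 3 → SL23) : Prop := (∀ i, ψ (g i) = 0) ∧ D.Real (dg g)

theorem card_Pq : Nat.card {g // D.Pq g} = 128 := by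
  rw [← D.card_P]
  refine Nat.card_congr (Equiv.subtypeEquivRight fun g => and_congr_right fun _ => ?_)
  exact ⟨fun ⟨s, hs, e⟩ => ⟨s, hs.cz, hs.ct, e⟩, fun ⟨s, a, b, e⟩ => ⟨s, ⟨a, b⟩, e⟩⟩

variable {D}

theorem Pq.mul {g g' : Fin 3 → SL23} (h : D.Pq g) (h' : D.Pq g') : D.Pq (g * g') :=
  ⟨fun i => by rw [Pi.mul_apply, ψ_mul, h.1 i, h'.1 i, add_zero], by rw [← dg_mul]; exact D.real_mul h.2 h'.2⟩

theorem conj_dg (b : Bk) (g : Fin 3 → SL23) :
    b * dg g * b⁻¹ = dg fun i => b.g i * g (b.π.symm i) * (b.g i)⁻¹ := by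
  refine mul_inv_eq_iff_eq_mul.mpr (Bk.ext' (by simp [mul_π, dg_π]) fun i => ?_)
  simp [mul_g, dg_g, dg_π, Equiv.Perm.one_def]

theorem Pq.conj {g : Fin 3 → SL23} (h : D.Pq g) {b : Bk} (hb : D.Real b) :
    D.Pq fun i => b.g i * g (b.π.symm i) * (b.g i)⁻¹ :=
  ⟨fun i => by rw [ψ_conj]; exact h.1 _, by rw [← conj_dg]; exact D.real_mul (D.real_mul hb h.2) (D.real_inv hb)⟩

theorem Pq.comm {g d : Fin 3 → SL23} (h : D.Pq g) (hd : D.Real (dg d)) :
    D.Pq fun i => d i * g i * (d i)⁻¹ * (g i)⁻¹ := by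
  refine ⟨fun i => ψ_comm _ _, ?_⟩
  have e : (dg fun i => d i * g i * (d i)⁻¹ * (g i)⁻¹) * dg g = dg d * dg g * (dg d)⁻¹ := by
    rw [conj_dg, dg_mul]
    refine congrArg dg (funext fun i => ?_)
    simp [dg_π, dg_g, Equiv.Perm.one_def]
  rw [eq_mul_inv_of_mul_eq e]
  exact D.real_mul (D.real_mul (D.real_mul hd h.2) (D.real_inv hd)) (D.real_inv h.2)

variable (D)

theorem pq_sgn (e : Fin 3 → Bool) : D.Pq fun i => sgn (e i) :=
  ⟨fun i => (by decide +kernel : ∀ b : Bool, ψ (sgn b) = 0) _, D.real_sB e⟩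

/-- The quaternion part does not contain every single block. -/
theorem not_full (h : ∀ (i : Fin 3) (a : SL23), ψ a = 0 → D.Pq (Function.update 1 i a)) : False := by
  have e : ∀ g : Fin 3 → SL23, (∀ i, ψ (g i) = 0) → D.Pq g := fun g hg => by
    have e1 : g = Function.update (1 : Fin 3 → SL23) 0 (g 0) * Function.update (1 : Fin 3 → SL23) 1 (g 1) *
        Function.update (1 : Fin 3 → SL23) 2 (g 2) := by
      funext i; fin_cases i <;> simp
    rw [e1]
    exact ((h 0 _ (hg 0)).mul (h 1 _ (hg 1))).mul (h 2 _ (hg 2))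
  have h128 := D.card_Pq
  have : Nat.card {g : Fin 3 → SL23 // ∀ i, ψ (g i) = 0} = 128 := by
    rw [← h128]; exact Nat.card_congr (Equiv.subtypeEquivRight fun g => ⟨e g, fun h => h.1⟩)
  rw [Nat.card_congr (Equiv.subtypePiEquivPi (p := fun (_ : Fin 3) (a : SL23) => ψ a = 0)), Nat.card_pi, Fin.prod_const, Nat.card_eq_fintype_card] at this
  revert this
  rw [show Fintype.card {a : SL23 // ψ a = 0} = 8 by decide +kernel]
  norm_num

/-- With a cycle, no quaternion block of one plane only. -/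
theorem no_single {σ : Bk} (hσ : D.Real σ) (hc : σ.π * σ.π * σ.π = 1) (hne : σ.π ≠ 1) {d : Fin 3 → SL23}
    (hd : D.Real (dg d)) {m : Fin 3} (hm : ψ (d m) ≠ 0) {g : Fin 3 → SL23} (hg : D.Pq g)
    (h1 : g m ≠ 1 ∧ g m ≠ -1) (h2 : ∀ i, i ≠ m → g i = 1 ∨ g i = -1) : False := by
  have clean : ∀ f : Fin 3 → SL23, D.Pq f → (∀ i, i ≠ m → f i = 1 ∨ f i = -1) →
      D.Pq (Function.update 1 m (f m)) := fun f hf hf2 => by
    have := hf.mul (D.pq_sgn fun i => decide (i ≠ m ∧ f i = -1))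
    convert this using 1
    funext i
    by_cases hi : i = m
    · subst hi; simp [sgn]
    · rcases hf2 i hi with e | e <;> simp [hi, e, sgn]
  have a1 := clean g hg h2
  have a2 : D.Pq (Function.update 1 m (d m * g m * (d m)⁻¹)) := by
    have := a1.conj hd
    convert this using 1
    funext i
    by_cases hi : i = m
    · subst hi; simp [dg_π, dg_g, Equiv.Perm.one_def]
    · simp [dg_π, dg_g, Equiv.Perm.one_def, hi]
  have a0 : ∀ t : Bool, D.Pq (Function.update 1 m (sgn t)) := fun t => by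
    have := clean _ (D.pq_sgn fun i => decide (i = m) && t) fun i hi => Or.inl (by simp [hi, sgn])
    simpa using this
  have am : ∀ x y : SL23, D.Pq (Function.update 1 m x) → D.Pq (Function.update 1 m y) →
      D.Pq (Function.update 1 m (x * y)) := fun x y hx hy => by
    have := hx.mul hy
    rwa [← Function.update_mul, one_mul] at this
  have n1 : D.Pq (Function.update 1 m (-1)) := by simpa [sgn] using a0 true
  have all : ∀ c, ψ c = 0 → D.Pq (Function.update 1 m c) := fun c hc => by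
    rcases sl_fill _ _ hm (hg.1 m) h1.1 h1.2 c hc with e | e | e | e | e | e | e | e <;> rw [e]
    exacts [by simpa [sgn] using a0 false, n1, a1, am _ _ n1 a1, a2, am _ _ n1 a2, am _ _ a1 a2,
      am _ _ n1 (am _ _ a1 a2)]
  refine D.not_full fun i a ha => ?_
  have key : ∀ (p : Bk), D.Real p → p.π m = i → D.Pq (Function.update 1 i a) := fun p hp e => by
    have := (all ((p.g i)⁻¹ * a * p.g i) (by rw [ψ_mul, ψ_mul, ψ_inv, ha]; ring)).conj hp
    convert this using 1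
    funext k
    by_cases hk : k = i
    · subst hk; subst e; simp [mul_assoc]
    · have : p.π.symm k ≠ m := fun e' => hk (by rw [← e, ← e', Equiv.apply_symm_apply])
      simp [hk, this]
  rcases (by decide +kernel : ∀ (π : Equiv.Perm (Fin 3)), π * π * π = 1 → π ≠ 1 → ∀ m i : Fin 3,
      i = m ∨ π m = i ∨ (π * π) m = i) σ.π hc hne m i with e | e | e
  exacts [key 1 ⟨_, D.acts_one⟩ e.symm, key σ hσ e, key (σ * σ) (D.real_mul hσ hσ) e]

/-- With a cycle, every plane sees the quaternion part. -/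
theorem proj_ne {σ : Bk} (hσ : D.Real σ) (hc : σ.π * σ.π * σ.π = 1) (hne : σ.π ≠ 1) (m : Fin 3) :
    ∃ g, D.Pq g ∧ g m ≠ 1 ∧ g m ≠ -1 := by
  by_contra hno
  push Not at hno
  have all : ∀ g, D.Pq g → ∀ i, g i = 1 ∨ g i = -1 := fun g hg i => by
    have key : ∀ (p : Bk), D.Real p → p.π.symm m = i → g i = 1 ∨ g i = -1 := fun p hp e => by
      have := hno _ (hg.conj hp)
      rw [e] at this
      revert this
      exact (by decide +kernel : ∀ x a : SL23, (x * a * x⁻¹ ≠ 1 → x * a * x⁻¹ = -1) → a = 1 ∨ a = -1) _ _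
    rcases (by decide +kernel : ∀ (π : Equiv.Perm (Fin 3)), π * π * π = 1 → π ≠ 1 → ∀ m i : Fin 3,
        m = i ∨ π.symm m = i ∨ (π * π).symm m = i) σ.π hc hne m i with e | e | e
    exacts [key 1 ⟨_, D.acts_one⟩ e, key σ hσ e, key (σ * σ) (D.real_mul hσ hσ) e]
  have h128 := D.card_Pq
  have hle : Nat.card {g // D.Pq g} ≤ Nat.card {g : Fin 3 → SL23 // ∀ i, g i = 1 ∨ g i = -1} :=
    Nat.card_le_card_of_injective (fun g => ⟨g.1, all g.1 g.2⟩) fun a b e =>
      Subtype.ext (congrArg (fun x => x.1) e)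
  rw [h128, Nat.card_congr (Equiv.subtypePiEquivPi (p := fun _ a => a = 1 ∨ a = -1)), Nat.card_pi, Fin.prod_const,
    Nat.card_eq_fintype_card] at hle
  revert hle
  rw [show Fintype.card {a : SL23 // a = 1 ∨ a = -1} = 2 by decide +kernel]
  norm_num

/-- With a cycle, two diagonal elements do not meet in one plane only. -/
theorem no_meet {σ : Bk} (hσ : D.Real σ) (hc : σ.π * σ.π * σ.π = 1) (hne : σ.π ≠ 1) {d d' : Fin 3 → SL23}
    (hd : D.Real (dg d)) (hd' : D.Real (dg d')) {m : Fin 3} (hm : ψ (d m) ≠ 0) (hm' : ψ (d' m) ≠ 0)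
    (h : ∀ i, i ≠ m → ψ (d i) = 0 ∨ ψ (d' i) = 0) : False := by
  obtain ⟨g, hg, g1, g2⟩ := D.proj_ne hσ hc hne m
  have h1 := hg.comm hd
  refine D.no_single hσ hc hne hd hm (h1.comm hd') ?_ fun i hi => ?_
  · obtain ⟨a, b, c⟩ := sl_comm_moved _ _ hm (hg.1 m) g1 g2
    exact (sl_comm_moved _ _ hm' a b c).2
  · rcases h i hi with e | e
    · exact Or.inl (sl_scalar_comm _ _ (sl_comm_scalar _ _ e (hg.1 i)))
    · exact sl_comm_scalar _ _ e (ψ_comm _ _)

set_option maxHeartbeats 1000000 in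
/-- With a cycle the diagonal classes are constant. -/
theorem diag_const {σ : Bk} (hσ : D.Real σ) (hc : σ.π * σ.π * σ.π = 1) (hne : σ.π ≠ 1) {d : Bk} (hd : D.Real d)
    (hπ : d.π = 1) : cv d 0 = cv d 1 ∧ cv d 1 = cv d 2 := by
  -- all or none
  have full : ∀ c : Fin 3 → SL23, D.Real (dg c) → ∀ i k, ψ (c i) ≠ 0 → ψ (c k) ≠ 0 := by
    intro c hc' i k hi hk
    by_cases hs : ∀ l, l ≠ i → ψ (c l) = 0
    · exact D.no_meet hσ hc hne hc' hc' hi hi fun l hl => Or.inl (hs l hl)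
    push Not at hs
    obtain ⟨l, hl, hl0⟩ := hs
    obtain ⟨m, m1, m2, m3⟩ := perm_third σ.π hc hne k
    have hc2 : D.Real (dg fun x => σ.g x * c (σ.π.symm x) * (σ.g x)⁻¹) :=
      conj_dg σ c ▸ D.real_mul (D.real_mul hσ hc') (D.real_inv hσ)
    have nz : ∀ x, x ≠ k → ψ (c x) ≠ 0 := fun x hx => by
      rcases (by decide +kernel : ∀ i l k x : Fin 3, l ≠ i → x ≠ k → i ≠ k → l ≠ k → x = i ∨ x = l)
        i l k x hl hx (fun e => hi (e ▸ hk)) (fun e => hl0 (e ▸ hk)) with rfl | rfl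
      exacts [hi, hl0]
    refine D.no_meet hσ hc hne hc' hc2 (nz m m1) (by rw [ψ_conj]; exact nz _ m2) fun x hx => ?_
    rcases m3 x with e | e | e
    · exact absurd e hx
    · exact Or.inl (e ▸ hk)
    · exact Or.inr (by rw [ψ_conj, e]; exact hk)
  rw [eq_dg hπ] at hd
  obtain ⟨π, c⟩ := d
  change D.Real (dg c) at hd
  show ψ (c 0) = ψ (c 1) ∧ ψ (c 1) = ψ (c 2)
  by_cases h0 : ∀ i, ψ (c i) = 0
  · simp [h0]
  push Not at h0
  obtain ⟨i, hi⟩ := h0
  have nz : ∀ k, ψ (c k) ≠ 0 := fun k => full c hd i k hi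
  have hd2 : D.Real (dg fun x => σ.g x * c (σ.π.symm x) * (σ.g x)⁻¹) :=
    conj_dg σ c ▸ D.real_mul (D.real_mul hσ hd) (D.real_inv hσ)
  refine cv_shape (fun x => ψ (c x)) σ.π hc hne nz ?_
  have key : ∀ c' : Fin 3 → SL23, D.Real (dg c') → ψ (c' 0) = 0 → ∀ x, ψ (c' x) = 0 := fun c' h' e x => by
    by_contra hx
    exact full c' h' x 0 hx e
  rcases (by decide +kernel : ∀ a b : ZMod 3, a ≠ 0 → b ≠ 0 → a + b = 0 ∨ a - b = 0) _ _ (nz 0) (nz (σ.π.symm 0))
    with e | e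
  · refine Or.inr fun x => ?_
    have h2 := D.real_mul hd hd2
    rw [dg_mul] at h2
    have := key _ h2 (by rw [Pi.mul_apply, ψ_mul, ψ_conj]; exact e) x
    rw [Pi.mul_apply, ψ_mul, ψ_conj] at this
    exact eq_neg_of_add_eq_zero_left this
  · refine Or.inl fun x => ?_
    let c' : Fin 3 → SL23 := fun x => σ.g x * c (σ.π.symm x) * (σ.g x)⁻¹
    have hi' : (dg c')⁻¹ = dg c'⁻¹ := inv_eq_of_mul_eq_one_right (by rw [dg_mul, mul_inv_cancel, dg_one])
    have h2 : D.Real (dg (c * c'⁻¹)) := dg_mul c c'⁻¹ ▸ hi' ▸ D.real_mul hd (D.real_inv hd2)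
    have hval : ∀ x, ψ ((c * c'⁻¹) x) = ψ (c x) - ψ (c (σ.π.symm x)) := fun x => by
      rw [Pi.mul_apply, Pi.inv_apply, ψ_mul, ψ_inv, ψ_conj, ← sub_eq_add_neg]
    have := key _ h2 (by rw [hval]; exact e) x
    rw [hval, sub_eq_zero] at this
    exact this

/-- Two realised classes of order three commute modulo the quaternion groups. -/
theorem sm_comm {A B : Bk} (hA : D.Real A) (hB : D.Real B) (a : A.π * A.π * A.π = 1) (b : B.π * B.π * B.π = 1) :
    Sm (A * B) (B * A) := by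
  by_cases hπ : A.π = 1
  · by_cases hπ' : B.π = 1
    · exact ⟨by simp [mul_π, hπ, hπ'], funext fun i => by simp [cv_mul, hπ, hπ', Equiv.Perm.one_def]; ring⟩
    · obtain ⟨c1, c2⟩ := D.diag_const hB b hπ' hA hπ
      have k : ∀ i j, cv A i = cv A j := fun i j => by fin_cases i <;> fin_cases j <;> simp_all
      refine ⟨by simp [mul_π, hπ], funext fun i => ?_⟩
      simp only [cv_mul, hπ, Equiv.Perm.one_def, Equiv.refl_symm, Equiv.refl_apply, k (B.π.symm i) i, add_comm]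
  · obtain ⟨p, hp, hpA, e⟩ : ∃ p : Bk, D.Real p ∧ A * p = p * A ∧ B.π = p.π := by
      rcases perm_cases _ _ a hπ b with e | e | e
      · exact ⟨1, ⟨_, D.acts_one⟩, by rw [mul_one, one_mul], e⟩
      · exact ⟨A, hA, rfl, e⟩
      · exact ⟨A * A, D.real_mul hA hA, (mul_assoc _ _ _).symm, e⟩
    set B' := B * p⁻¹
    obtain ⟨c1, c2⟩ := D.diag_const hA a hπ (d := B') (D.real_mul hB (D.real_inv hp)) (by simp [B', mul_π, inv_π, e])
    have k : ∀ i j, cv B' i = cv B' j := fun i j => by fin_cases i <;> fin_cases j <;> simp_all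
    have hπ' : B'.π = 1 := by simp [B', mul_π, inv_π, e]
    have h1 : Sm (A * B') (B' * A) := ⟨by simp [mul_π, hπ'], funext fun i => by
      simp only [cv_mul, hπ', Equiv.Perm.one_def, Equiv.refl_symm, Equiv.refl_apply, k (A.π.symm i) i, add_comm]⟩
    have h2 := h1.mul (⟨rfl, rfl⟩ : Sm p p)
    have eB : B = B' * p := (inv_mul_cancel_right B p).symm
    rwa [mul_assoc B' A, hpA, ← mul_assoc B' p, ← eB, mul_assoc A, ← eB] at h2

variable {D}

/-- The commutator of two elements of order three lies in the core once its cube is trivial. -/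
theorem comm_mem_Q {a b : G} (ha : Commute a D.z) (hb : Commute b D.z) (a3 : a ^ 3 = 1) (b3 : b ^ 3 = 1)
    (c3 : (a * b * a⁻¹ * b⁻¹) ^ 3 = 1) : a * b * a⁻¹ * b⁻¹ ∈ D.Q := by
  obtain ⟨A, hA⟩ := D.img_exists ha
  obtain ⟨B, hB⟩ := D.img_exists hb
  have hC := ((hA.mul hB).mul hA.inv).mul hB.inv
  have cube : ∀ {x : G} {X : Bk}, D.Img x X → x ^ 3 = 1 → X * X * X = 1 := fun {x X} hx x3 => by
    have := hx.pow 3
    rw [x3, pow_succ, pow_two] at this
    exact this.unique (D.img_Q (one_mem _))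
  have hs := D.sm_comm (D.img_real hA) (D.img_real hB) (bk_cube_π (cube hA a3)) (bk_cube_π (cube hB b3))
  have h1 : Sm (A * B * A⁻¹ * B⁻¹) (B * A * A⁻¹ * B⁻¹) := (hs.mul ⟨rfl, rfl⟩).mul ⟨rfl, rfl⟩
  rw [mul_inv_cancel_right, mul_inv_cancel] at h1
  have := eq_one_of_tr (cube hC c3) ⟨h1.1, by rw [h1.2, cv_one]⟩
  exact Img.mem_Q (this ▸ hC)

end Setting

end CfsgLib.Fi22Loc
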