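import Cfsg.Agent.Lib.Fi22Loc.Model
import Mathlib.GroupTheory.Sylow

/-!
The setting: an element of order three whose centraliser has an extraspecial core of order 3^7 in coordinates, the
centraliser of the inverting involution acting by monomial blocks.
-/

set_option autoImplicit false

namespace CfsgLib.Fi22Loc

open CfsgLib.U6Three (V2 SL23 det2 app2)

universe u

/-- The data. -/
structure Setting (G : Type u) [Group G] where
  /-- the central element -/
  z : G
  /-- the inverting involution -/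
  j : G
  /-- the coordinates of the core -/
  q : V6 → G
  z_cube : z ^ 3 = 1
  z_ne : z ≠ 1
  j_sq : j * j = 1
  j_z : Commute j z
  q_z : ∀ v, Commute (q v) z
  q_mul : ∀ v w, q v * q w = z ^ (-om v w).val * q (v + w)
  q_inj : ∀ (k : ZMod 3) (v : V6), z ^ k.val * q v = 1 → k = 0 ∧ v = 0
  j_q : ∀ v, j * q v * j = q (-v)
  decomp : ∀ h, Commute h z → ∃ u s, Commute s z ∧ Commute s j ∧ h = q u * s
  blocks : ∀ s, Commute s z → Commute s j → ∃ b : Bk, ∀ v, s * q v * s⁻¹ = q (appB b v)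
  signs : ∀ g : Fin 3 → SL23, (∀ i, g i = 1 ∨ g i = -1) →
    ∃ s, Commute s z ∧ Commute s j ∧ ∀ v, s * q v * s⁻¹ = q (appB (dg g) v)
  self : ∀ x, (∀ v, Commute x (q v)) → ∃ k : ZMod 3, x = z ^ k.val
  card_P : Nat.card {g : Fin 3 → SL23 // (∀ i, ψ (g i) = 0) ∧
    ∃ s, Commute s z ∧ Commute s j ∧ ∀ v, s * q v * s⁻¹ = q (appB (dg g) v)} = 128
  nwc : ∃ g, Commute (g * z * g⁻¹) z ∧ ∀ k : ZMod 3, g * z * g⁻¹ ≠ z ^ k.val

namespace Setting

variable {G : Type u} [Group G] (D : Setting G)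

/-- A power of the central element. -/
def zz (k : ZMod 3) : G := D.z ^ k.val

theorem zz_zero : D.zz 0 = 1 := by simp [zz]

theorem zz_one : D.zz 1 = D.z := by rw [zz, show (1 : ZMod 3).val = 1 from rfl, pow_one]

theorem zz_add (a b : ZMod 3) : D.zz (a + b) = D.zz a * D.zz b := by
  rw [zz, zz, zz, ← pow_add, ZMod.val_add, ← pow_eq_pow_mod _ D.z_cube]

theorem zz_neg (a : ZMod 3) : D.zz (-a) = (D.zz a)⁻¹ :=
  eq_inv_of_mul_eq_one_left (by rw [← zz_add, neg_add_cancel, zz_zero])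

theorem zz_nat (n : ℕ) : D.z ^ n = D.zz n := by
  rw [zz, ZMod.val_natCast, ← pow_eq_pow_mod _ D.z_cube]

theorem zz_q (k : ZMod 3) (v : V6) : Commute (D.zz k) (D.q v) := ((D.q_z v).symm).pow_left _

theorem zz_comm {h : G} (hh : Commute h D.z) (k : ZMod 3) : Commute h (D.zz k) := hh.pow_right _

theorem q_mul' (v w : V6) : D.q v * D.q w = D.zz (-om v w) * D.q (v + w) := D.q_mul v w

theorem q_zero : D.q 0 = 1 := by
  have h := D.q_mul' 0 0
  rw [show om (0 : V6) 0 = 0 from om_self 0, neg_zero, zz_zero, one_mul, add_zero] at h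
  exact mul_left_cancel (h.trans (mul_one _).symm)

theorem q_inv (v : V6) : (D.q v)⁻¹ = D.q (-v) :=
  inv_eq_of_mul_eq_one_right (by
    rw [q_mul', om_neg_right, om_self, neg_zero, neg_zero, zz_zero, one_mul, add_neg_cancel, q_zero])

theorem el_inj {k l : ZMod 3} {v w : V6} (h : D.zz k * D.q v = D.zz l * D.q w) : k = l ∧ v = w := by
  have e : D.zz (k - l - -om (-w) v + 0) * D.q (-w + v) = 1 := by
    calc D.zz (k - l - -om (-w) v + 0) * D.q (-w + v) = D.zz (k + -l) * (D.zz (om (-w) v) * D.q (-w + v)) := by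
          rw [← mul_assoc, ← zz_add]; congr 2; ring
      _ = D.zz k * D.zz (-l) * (D.zz (- -om (-w) v) * D.q (-w + v)) := by rw [zz_add, neg_neg]
      _ = (D.zz l)⁻¹ * ((D.zz k * D.q v) * (D.q w)⁻¹) := by
          rw [zz_neg D l, neg_neg]
          have e2 : D.zz (om (-w) v) * D.q (-w + v) = D.q v * (D.q w)⁻¹ := by
            rw [q_inv, q_mul', om_neg_right, neg_neg, om_neg_left, om_swap v w, neg_neg, add_comm]
          rw [e2]
          have hc : Commute (D.zz k) (D.zz l)⁻¹ := ((Commute.refl D.z).pow_pow _ _).inv_right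
          rw [hc.eq]
          group
      _ = 1 := by rw [h]; group
  obtain ⟨h1, h2⟩ := D.q_inj _ _ e
  have hv : v = w := by
    have := congrArg (fun x => w + x) h2
    simpa [← add_assoc] using this
  subst hv
  rw [om_neg_left, om_self, neg_zero, neg_zero, sub_zero, add_zero] at h1
  exact ⟨sub_eq_zero.mp h1, rfl⟩

theorem q_injective {v w : V6} (h : D.q v = D.q w) : v = w :=
  (D.el_inj (k := 0) (l := 0) (by rw [h])).2

theorem zz_inj {k l : ZMod 3} (h : D.zz k = D.zz l) : k = l :=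
  (D.el_inj (v := 0) (w := 0) (by rw [h])).1

theorem q_conj (w v : V6) : D.q w * D.q v * (D.q w)⁻¹ = D.zz (om w v) * D.q v := by
  rw [q_mul', q_inv, mul_assoc, q_mul', ← mul_assoc, ← zz_add, add_neg_cancel_comm]
  congr 2
  rw [om_add_left, om_neg_right, om_neg_right, om_self, om_swap v w]
  simp only [neg_neg, neg_zero, zero_add, add_zero, neg_add_rev]
  exact (by decide : ∀ x : ZMod 3, x + x = -x) _

theorem q_comm {v w : V6} : Commute (D.q w) (D.q v) ↔ om w v = 0 := by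
  constructor
  · intro h
    have e := D.q_conj w v
    rw [h.eq, mul_inv_cancel_right] at e
    exact ((D.el_inj (k := 0) (by rw [zz_zero, one_mul]; exact e)).1).symm
  · intro h
    have e := D.q_conj w v
    rw [h, zz_zero, one_mul, mul_inv_eq_iff_eq_mul] at e
    exact e

theorem q_cube (v : V6) : D.q v ^ 3 = 1 := by
  rw [pow_succ, pow_two, q_mul', om_self, neg_zero, zz_zero, one_mul, q_mul', om_add_left, om_self, add_zero,
    neg_zero, zz_zero, one_mul, V6_three, q_zero]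

/-- The core. -/
def Q : Subgroup G where
  carrier := {x | ∃ k v, x = D.zz k * D.q v}
  one_mem' := ⟨0, 0, by rw [zz_zero, q_zero, one_mul]⟩
  mul_mem' := by
    rintro _ _ ⟨k, v, rfl⟩ ⟨l, w, rfl⟩
    refine ⟨k + l + -om v w, v + w, ?_⟩
    calc D.zz k * D.q v * (D.zz l * D.q w) = D.zz k * (D.q v * D.zz l) * D.q w := by group
      _ = D.zz k * D.zz l * (D.q v * D.q w) := by rw [← (D.zz_q l v).eq]; group
      _ = _ := by rw [q_mul', ← zz_add, ← mul_assoc, ← zz_add]
  inv_mem' := by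
    rintro _ ⟨k, v, rfl⟩
    refine ⟨-k, -v, ?_⟩
    rw [mul_inv_rev, q_inv, ← zz_neg, (D.zz_q (-k) (-v)).eq]

theorem mem_Q {x : G} : x ∈ D.Q ↔ ∃ k v, x = D.zz k * D.q v := Iff.rfl

theorem q_mem (v : V6) : D.q v ∈ D.Q := ⟨0, v, by rw [zz_zero, one_mul]⟩

theorem zz_mem (k : ZMod 3) : D.zz k ∈ D.Q := ⟨k, 0, by rw [q_zero, mul_one]⟩

theorem Q_z {x : G} (h : x ∈ D.Q) : Commute x D.z := by
  obtain ⟨k, v, rfl⟩ := h
  exact ((Commute.refl D.z).pow_left _).mul_left (D.q_z v)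

theorem Q_cube {x : G} (h : x ∈ D.Q) : x ^ 3 = 1 := by
  obtain ⟨k, v, rfl⟩ := h
  rw [(D.zz_q k v).mul_pow, D.q_cube, mul_one, zz, ← pow_mul, mul_comm, pow_mul, D.z_cube, one_pow]

/-- The elements commuting with the central element and the involution. -/
structure IsLevi (s : G) : Prop where
  cz : Commute s D.z
  ct : Commute s D.j

theorem IsLevi.mul {s s' : G} (h : D.IsLevi s) (h' : D.IsLevi s') : D.IsLevi (s * s') :=
  ⟨h.cz.mul_left h'.cz, h.ct.mul_left h'.ct⟩

theorem IsLevi.inv {s : G} (h : D.IsLevi s) : D.IsLevi s⁻¹ := ⟨h.cz.inv_left, h.ct.inv_left⟩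

theorem isLevi_one : D.IsLevi 1 := ⟨Commute.one_left _, Commute.one_left _⟩

theorem isLevi_zz (k : ZMod 3) : D.IsLevi (D.zz k) :=
  ⟨(Commute.refl D.z).pow_left _, (D.j_z.symm).pow_left _⟩

/-- Acting by a block matrix. -/
def Acts (s : G) (b : Bk) : Prop := D.IsLevi s ∧ ∀ v, s * D.q v * s⁻¹ = D.q (appB b v)

theorem levi_acts {s : G} (h : D.IsLevi s) : ∃ b, D.Acts s b := by
  obtain ⟨b, hb⟩ := D.blocks s h.cz h.ct
  exact ⟨b, h, hb⟩

/-- A general element of the centraliser of the central element. -/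
theorem cases_H {h : G} (hh : Commute h D.z) : ∃ u s b, h = D.q u * s ∧ D.Acts s b := by
  obtain ⟨u, s, hs, hsj, e⟩ := D.decomp h hh
  obtain ⟨b, hb⟩ := D.levi_acts ⟨hs, hsj⟩
  exact ⟨u, s, b, e, hb⟩

variable {D}

theorem Acts.unique {s : G} {b b' : Bk} (h : D.Acts s b) (h' : D.Acts s b') : b = b' :=
  appB_inj fun v => D.q_injective ((h.2 v).symm.trans (h'.2 v))

theorem Acts.mul {s s' : G} {b b' : Bk} (h : D.Acts s b) (h' : D.Acts s' b') : D.Acts (s * s') (b * b') :=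
  ⟨h.1.mul D h'.1, fun v => by
    rw [show s * s' * D.q v * (s * s')⁻¹ = s * (s' * D.q v * s'⁻¹) * s⁻¹ by group, h'.2, h.2, appB_mul]⟩

theorem Acts.inv {s : G} {b : Bk} (h : D.Acts s b) : D.Acts s⁻¹ b⁻¹ :=
  ⟨h.1.inv D, fun v => by
    have e := h.2 (appB b⁻¹ v)
    rw [← appB_mul, mul_inv_cancel, appB_one] at e
    rw [← e]; group⟩

theorem Acts.conj {s r : G} {b p : Bk} (h : D.Acts s b) (hr : D.Acts r p) :
    D.Acts (r * s * r⁻¹) (p * b * p⁻¹) := (hr.mul h).mul hr.inv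

theorem Acts.trivial {s : G} (h : D.Acts s 1) : ∃ k, s = D.zz k :=
  D.self s fun v => by
    have e := h.2 v
    rwa [appB_one, mul_inv_eq_iff_eq_mul] at e

theorem Acts.comm_q {s : G} {b : Bk} (h : D.Acts s b) {v : V6} (hv : appB b v = v) : Commute s (D.q v) := by
  have e := h.2 v
  rwa [hv, mul_inv_eq_iff_eq_mul] at e

theorem Acts.q_conj_inv {s : G} {b : Bk} (h : D.Acts s b) (v : V6) : s⁻¹ * D.q v * s = D.q (appB b⁻¹ v) := by
  simpa using h.inv.2 v

variable (D)

theorem acts_one : D.Acts 1 1 := ⟨D.isLevi_one, fun v => by simp [appB_one]⟩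

theorem acts_zz (k : ZMod 3) : D.Acts (D.zz k) 1 :=
  ⟨D.isLevi_zz k, fun v => by rw [(D.zz_q k v).eq, appB_one, mul_inv_cancel_right]⟩

theorem j_acts : D.Acts D.j negB :=
  ⟨⟨D.j_z, Commute.refl _⟩, fun v => by
    rw [inv_eq_of_mul_eq_one_right D.j_sq, D.j_q, appB_negB]⟩

theorem conj_zz {h : G} (hh : Commute h D.z) (k : ZMod 3) : h * D.zz k * h⁻¹ = D.zz k := by
  rw [(D.zz_comm hh k).eq, mul_inv_cancel_right]

/-- The action of a general element on the coordinates. -/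
theorem conj_q {u : V6} {s : G} {b : Bk} (hb : D.Acts s b) (v : V6) :
    D.q u * s * D.q v * (D.q u * s)⁻¹ = D.zz (om u (appB b v)) * D.q (appB b v) := by
  rw [show D.q u * s * D.q v * (D.q u * s)⁻¹ = D.q u * (s * D.q v * s⁻¹) * (D.q u)⁻¹ by group, hb.2, D.q_conj]

/-- Acting on the core modulo its centre by a block matrix. -/
def Img (h : G) (b : Bk) : Prop :=
  Commute h D.z ∧ ∀ v, ∃ k, h * D.q v * h⁻¹ = D.zz k * D.q (appB b v)

theorem img_of {u : V6} {s : G} {b : Bk} (hb : D.Acts s b) : D.Img (D.q u * s) b :=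
  ⟨(D.q_z u).mul_left hb.1.cz, fun v => ⟨_, D.conj_q hb v⟩⟩

theorem img_exists {h : G} (hh : Commute h D.z) : ∃ b, D.Img h b := by
  obtain ⟨u, s, b, rfl, hb⟩ := D.cases_H hh
  exact ⟨b, D.img_of hb⟩

theorem img_acts {s : G} {b : Bk} (hb : D.Acts s b) : D.Img s b := by
  have h := D.img_of (u := 0) hb
  rwa [D.q_zero, one_mul] at h

theorem img_Q {x : G} (hx : x ∈ D.Q) : D.Img x 1 := by
  obtain ⟨k, v, rfl⟩ := hx
  have h := D.img_of (u := v) (D.acts_zz k)
  rwa [← (D.zz_q k v).eq] at h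

variable {D}

theorem Img.unique {h : G} {b b' : Bk} (e : D.Img h b) (e' : D.Img h b') : b = b' :=
  appB_inj fun v => by
    obtain ⟨k, hk⟩ := e.2 v
    obtain ⟨l, hl⟩ := e'.2 v
    exact (D.el_inj (hk.symm.trans hl)).2

theorem Img.mul {h h' : G} {b b' : Bk} (e : D.Img h b) (e' : D.Img h' b') : D.Img (h * h') (b * b') :=
  ⟨e.1.mul_left e'.1, fun v => by
    obtain ⟨k, hk⟩ := e'.2 v
    obtain ⟨l, hl⟩ := e.2 (appB b' v)
    refine ⟨k + l, ?_⟩
    rw [show h * h' * D.q v * (h * h')⁻¹ = h * (h' * D.q v * h'⁻¹) * h⁻¹ by group, hk,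
      show h * (D.zz k * D.q (appB b' v)) * h⁻¹ = h * D.zz k * h⁻¹ * (h * D.q (appB b' v) * h⁻¹) by group,
      D.conj_zz e.1, hl, ← mul_assoc, ← zz_add, appB_mul]⟩

theorem Img.inv {h : G} {b : Bk} (e : D.Img h b) : D.Img h⁻¹ b⁻¹ := by
  obtain ⟨c, hc⟩ := D.img_exists e.1.inv_left
  have h1 := e.mul hc
  rw [mul_inv_cancel] at h1
  have h2 : b * c = 1 := h1.unique (D.img_Q (one_mem _))
  rwa [eq_inv_of_mul_eq_one_right h2] at hc

theorem Img.conj {h g : G} {b c : Bk} (e : D.Img h b) (e' : D.Img g c) : D.Img (g * h * g⁻¹) (c * b * c⁻¹) :=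
  (e'.mul e).mul e'.inv

theorem Img.mem_Q {h : G} (e : D.Img h 1) : h ∈ D.Q := by
  obtain ⟨u, s, b, rfl, hb⟩ := D.cases_H e.1
  obtain rfl : b = 1 := (D.img_of hb).unique e
  obtain ⟨k, rfl⟩ := hb.trivial
  exact mul_mem (D.q_mem u) (D.zz_mem k)

theorem Img.pow {h : G} {b : Bk} (e : D.Img h b) : ∀ n : ℕ, D.Img (h ^ n) (b ^ n)
  | 0 => by rw [pow_zero, pow_zero]; exact D.img_Q (one_mem _)
  | n + 1 => by rw [pow_succ, pow_succ]; exact (e.pow n).mul e

variable (D)

theorem mem_Q_iff {h : G} {b : Bk} (e : D.Img h b) : h ∈ D.Q ↔ b = 1 :=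
  ⟨fun hh => e.unique (D.img_Q hh), fun hb => Img.mem_Q (hb ▸ e)⟩

open scoped Classical in
/-- The block matrix of an element. -/
noncomputable def im (h : G) : Bk := if e : ∃ b, D.Img h b then e.choose else 1

theorem im_spec {h : G} (hh : Commute h D.z) : D.Img h (D.im h) := by
  have e := D.img_exists hh
  rw [im, dif_pos e]
  exact e.choose_spec

theorem im_eq {h : G} {b : Bk} (e : D.Img h b) : D.im h = b := (D.im_spec e.1).unique e

theorem conj_Q {h : G} (hh : Commute h D.z) {x : G} (hx : x ∈ D.Q) : h * x * h⁻¹ ∈ D.Q := by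
  obtain ⟨b, hb⟩ := D.img_exists hh
  refine Img.mem_Q ?_
  have := (D.img_Q hx).conj hb
  rwa [mul_one, mul_inv_cancel] at this

/-- Being realised. -/
def Real (b : Bk) : Prop := ∃ s, D.Acts s b

theorem img_real {h : G} {b : Bk} (e : D.Img h b) : D.Real b := by
  obtain ⟨u, s, c, rfl, hc⟩ := D.cases_H e.1
  exact ⟨s, (D.img_of hc).unique e ▸ hc⟩

/-- The scalar block of a sign. -/
def sgn (b : Bool) : SL23 := if b then -1 else 1

theorem sgn_mul : ∀ a b : Bool, sgn a * sgn b = sgn (xor a b) := by decide +kernel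

/-- The block matrix of signs. -/
def sB (e : Fin 3 → Bool) : Bk := dg fun i => sgn (e i)

theorem sB_mul (e e' : Fin 3 → Bool) : sB e * sB e' = sB fun i => xor (e i) (e' i) :=
  (dg_mul _ _).trans (congrArg dg (funext fun _ => sgn_mul _ _))

theorem sB_sq (e : Fin 3 → Bool) : sB e * sB e = 1 := by
  rw [sB_mul]; simp [sB, sgn]; rfl

theorem sB_inj {e e' : Fin 3 → Bool} (h : sB e = sB e') : e = e' :=
  funext fun i => (by decide +kernel : ∀ a b : Bool, sgn a = sgn b → a = b) _ _ (congrFun (dg_inj h) i)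

theorem sB_all : sB (fun _ => true) = negB := rfl

theorem sB_app (e : Fin 3 → Bool) (v : V6) (i : Fin 3) : appB (sB e) v i = if e i then -v i else v i := by
  rw [sB, appB_dg]
  exact (by decide +kernel : ∀ (b : Bool) (a : V2), app2 (sgn b) a = if b then -a else a) _ _

theorem sg_exists (e : Fin 3 → Bool) : ∃ s, D.Acts s (sB e) ∧ s * s = 1 := by
  obtain ⟨w, a, b, c⟩ := D.signs (fun i => sgn (e i)) fun i => by cases e i <;> simp [sgn]
  have hw : D.Acts w (sB e) := ⟨⟨a, b⟩, c⟩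
  have h2 := hw.mul hw
  rw [sB_sq] at h2
  obtain ⟨k, hk⟩ := h2.trivial
  refine ⟨w * (w * w), ?_, ?_⟩
  · have := hw.mul (hw.mul hw)
    rwa [sB_sq, mul_one] at this
  · rw [show w * (w * w) * (w * (w * w)) = (w * w) ^ 3 by simp only [pow_succ, pow_zero, one_mul, mul_assoc], hk]
    exact D.Q_cube (D.zz_mem k)

/-- The involution of a sign. -/
noncomputable def sg (e : Fin 3 → Bool) : G := (D.sg_exists e).choose

theorem sg_acts (e : Fin 3 → Bool) : D.Acts (D.sg e) (sB e) := (D.sg_exists e).choose_spec.1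

theorem sg_sq (e : Fin 3 → Bool) : D.sg e * D.sg e = 1 := (D.sg_exists e).choose_spec.2

theorem sg_inv (e : Fin 3 → Bool) : (D.sg e)⁻¹ = D.sg e := inv_eq_of_mul_eq_one_right (D.sg_sq e)

theorem sg_unique {x : G} {e : Fin 3 → Bool} (h : D.Acts x (sB e)) (hx : x * x = 1) : x = D.sg e := by
  have h1 := h.mul (D.sg_acts e)
  rw [sB_sq] at h1
  obtain ⟨k, hk⟩ := h1.trivial
  have e1 : x = D.zz k * D.sg e := by rw [← hk, mul_assoc, D.sg_sq, mul_one]
  have hc : Commute (D.zz k) (D.sg e) := (D.zz_comm (D.sg_acts e).1.cz k).symm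
  have e2 : D.zz (k + k) = 1 := by
    rw [zz_add, ← hx, e1, show D.zz k * D.sg e * (D.zz k * D.sg e) = D.zz k * (D.sg e * D.zz k) * D.sg e by group,
      ← hc.eq, show D.zz k * (D.zz k * D.sg e) * D.sg e = D.zz k * D.zz k * (D.sg e * D.sg e) by group, D.sg_sq,
      mul_one]
  have hk0 : k = 0 := (by decide : ∀ k : ZMod 3, k + k = 0 → k = 0) k (D.zz_inj (e2.trans D.zz_zero.symm))
  rw [e1, hk0, zz_zero, one_mul]

theorem sg_all : D.sg (fun _ => true) = D.j := (D.sg_unique D.j_acts D.j_sq).symm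

theorem sg_mul (e e' : Fin 3 → Bool) : D.sg e * D.sg e' = D.sg fun i => xor (e i) (e' i) := by
  have h := (D.sg_acts e).mul (D.sg_acts e')
  rw [sB_mul] at h
  refine D.sg_unique h ?_
  have hh : D.sg e * D.sg e' * D.sg e * (D.sg e')⁻¹ = 1 → D.sg e * D.sg e' * (D.sg e * D.sg e') = 1 := fun k => by
    rw [D.sg_inv] at k; simpa [mul_assoc] using k
  refine hh ?_
  have h' := (D.sg_acts e').conj (D.sg_acts e)
  have hb : sB e * sB e' * (sB e)⁻¹ = sB e' := by
    rw [inv_eq_of_mul_eq_one_right (sB_sq e), sB_mul, sB_mul]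
    congr 1; funext i; cases e i <;> cases e' i <;> rfl
  rw [hb] at h'
  have := D.sg_unique h' (by
    rw [show D.sg e * D.sg e' * (D.sg e)⁻¹ * (D.sg e * D.sg e' * (D.sg e)⁻¹) =
      D.sg e * (D.sg e' * D.sg e') * (D.sg e)⁻¹ by group, D.sg_sq]; group)
  rw [D.sg_inv] at this
  rw [this, mul_inv_cancel]

theorem sg_inj {e e' : Fin 3 → Bool} (h : D.sg e = D.sg e') : e = e' :=
  sB_inj ((D.sg_acts e).unique (h ▸ D.sg_acts e'))

/-- An element of the centraliser acts on the signs through its block matrix. -/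
theorem sg_comm {s : G} {b : Bk} (hs : D.Acts s b) (e : Fin 3 → Bool) :
    s * D.sg e * s⁻¹ = D.sg fun i => e (b.π.symm i) := by
  refine D.sg_unique ?_ (by
    rw [show s * D.sg e * s⁻¹ * (s * D.sg e * s⁻¹) = s * (D.sg e * D.sg e) * s⁻¹ by group, D.sg_sq]; group)
  have h := (D.sg_acts e).conj hs
  have hb : b * sB e = (sB fun i => e (b.π.symm i)) * b := Bk.ext' (by rw [mul_π, mul_π]; simp [sB, dg_π])
    fun i => by
      simp only [mul_g, sB, dg_g, dg_π]
      exact (by decide +kernel : ∀ (a : SL23) (t : Bool), a * sgn t = sgn t * a) _ _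
  rwa [hb, mul_inv_cancel_right] at h

end Setting

end CfsgLib.Fi22Loc
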