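import Cfsg.Agent.Lib.Fi22Loc.Lev
import Cfsg.Agent.Lib.Fi22Loc.Geom.Auto

/-!
Elements of order three with full three-part in their centralisers are conjugate to the central element.
-/

set_option autoImplicit false
set_option linter.unusedSectionVars false
set_option synthInstance.maxSize 1024

namespace CfsgLib.Fi22Loc

open CfsgLib.U6Three (V2 SL23 det2 app2)

universe u

namespace Setting

variable {G : Type u} [Group G] (D : Setting G)

theorem tt_pow_three : D.tt ^ 3 = D.tt := by rw [pow_succ, pow_two, D.tt_sq, one_mul]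

theorem lift_eq {a b : D.TC} (a3 : a ^ 3 = 1) (b3 : b ^ 3 = 1) (e : D.mkT a = D.mkT b) : a = b := by
  rcases D.mk_eq e with r | r
  · exact (Subtype.ext r).symm
  · exfalso
    have h : (b : G) ^ 3 = 1 := by rw [← Subgroup.coe_pow, b3, Subgroup.coe_one]
    rw [r, (D.mem_TC.mp a.2).mul_pow, ← Subgroup.coe_pow, a3, Subgroup.coe_one, one_mul, D.tt_pow_three] at h
    exact D.tt_ne h

theorem mk_inj_three {S : Subgroup D.TC} (hS : IsPGroup 3 S) : Function.Injective (D.mkT.comp S.subtype) := by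
  refine (injective_iff_map_eq_one _).mpr fun x hx => ?_
  obtain ⟨n, hn⟩ := hS x
  rcases D.mk_eq (a := 1) (b := (x : D.TC)) (by rw [map_one]; exact hx.symm) with r | r
  · exact Subtype.ext (Subtype.ext r)
  · exfalso
    have h : ((x : D.TC) : G) ^ 3 ^ n = 1 := by rw [← Subgroup.coe_pow, ← Subgroup.coe_pow, hn]; rfl
    rw [r, Subgroup.coe_one, one_mul] at h
    obtain ⟨m, hm⟩ : Odd (3 ^ n) := (by decide : Odd 3).pow
    rw [hm, pow_succ, pow_mul, pow_two, D.tt_sq, one_pow, one_mul] at h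
    exact D.tt_ne h

theorem zT_cube : D.zT ^ 3 = 1 := Subtype.ext D.z_cube

variable [Finite G]

theorem dvd_bar : 729 ∣ Nat.card (D.TC ⧸ D.NT) := by
  rw [← D.UU.card_mul_index, D.card_UU]
  exact Dvd.dvd.mul_right (by norm_num) _

theorem zb_mem_Qb : D.zb ∈ D.Qb.map D.CZ.subtype :=
  ⟨⟨D.zb, D.mk_CZ (h := D.zT) (Commute.refl _)⟩, D.mem_Qb.mpr ⟨D.zT, D.mem_Qt.mpr ⟨D.z_mem, D.tt_z.symm⟩, rfl⟩, rfl⟩

/-- The centre of a subgroup over the core is cyclic. -/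
theorem central_zb {R : Subgroup (D.TC ⧸ D.NT)} (hR : D.Qb.map D.CZ.subtype ≤ R) {c : D.TC ⧸ D.NT}
    (hc : ∀ x ∈ R, Commute c x) : c ∈ Subgroup.zpowers D.zb := by
  have hcz : c ∈ D.CZ := D.mem_CZ.mpr (hc _ (hR D.zb_mem_Qb))
  have hcQ : (⟨c, hcz⟩ : D.CZ) ∈ D.Qb := D.cent_Qb (Subgroup.mem_centralizer_iff.mpr fun y hy =>
    Subtype.ext (hc _ (hR ⟨y, hy, rfl⟩)).eq.symm)
  have hcc : (⟨_, hcQ⟩ : D.Qb) ∈ Subgroup.center D.Qb := Subgroup.mem_center_iff.mpr fun y =>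
    Subtype.ext (Subtype.ext (hc _ (hR ⟨y, y.2, rfl⟩)).eq.symm)
  let zq : D.Qb := ⟨⟨D.zb, D.mk_CZ (h := D.zT) (Commute.refl _)⟩,
    D.mem_Qb.mpr ⟨D.zT, D.mem_Qt.mpr ⟨D.z_mem, D.tt_z.symm⟩, rfl⟩⟩
  have hzqc : zq ∈ Subgroup.center D.Qb := Subgroup.mem_center_iff.mpr fun y =>
    Subtype.ext (Subtype.ext (D.mem_CZ.mp y.1.2).eq)
  have hgen : Subgroup.center D.Qb ≤ Subgroup.zpowers zq := by
    refine (Subgroup.eq_of_le_of_card_ge (Subgroup.zpowers_le.mpr hzqc) ?_).ge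
    haveI : Fact (Nat.Prime 3) := ⟨Nat.prime_three⟩
    rw [D.qb_extraspecial.2, Nat.card_zpowers, orderOf_eq_prime (p := 3) (Subtype.ext (Subtype.ext D.zb_cube))
      fun e => D.zb_ne (congrArg (fun w : D.Qb => ((w : D.CZ) : D.TC ⧸ D.NT)) e)]
  obtain ⟨n, hn⟩ := Subgroup.mem_zpowers_iff.mp (hgen hcc)
  exact Subgroup.mem_zpowers_iff.mpr ⟨n, by
    rw [← show ((((zq ^ n : D.Qb) : D.CZ)) : D.TC ⧸ D.NT) = D.zb ^ n by simp [zq], hn]⟩

theorem zb_pow_cases {c : D.TC ⧸ D.NT} (hc : c ∈ Subgroup.zpowers D.zb) (h1 : c ≠ 1) : c = D.zb ∨ c = D.zb⁻¹ := by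
  obtain ⟨n, rfl⟩ := Subgroup.mem_zpowers_iff.mp hc
  have e : D.zb ^ n = D.zb ^ (n % 3) := by
    conv_lhs => rw [← Int.emod_add_mul_ediv n 3, zpow_add, zpow_mul, show D.zb ^ (3 : ℤ) = D.zb ^ 3 from zpow_natCast _ 3,
      D.zb_cube, one_zpow, mul_one]
  rw [e] at h1 ⊢
  rcases (show n % 3 = 0 ∨ n % 3 = 1 ∨ n % 3 = 2 by omega) with r | r | r <;> rw [r] at h1 ⊢
  · exact absurd (zpow_zero _) h1
  · exact Or.inl (zpow_one _)
  · refine Or.inr (eq_inv_of_mul_eq_one_left ?_)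
    rw [← zpow_add_one, show ((2 : ℤ) + 1) = ((3 : ℕ) : ℤ) from rfl, zpow_natCast, D.zb_cube]

/-- Order three, full three-part. -/
theorem conj_zb {x : D.TC ⧸ D.NT} (x3 : x ^ 3 = 1) (x1 : x ≠ 1)
    (h : 729 ∣ Nat.card (Subgroup.centralizer ({x} : Set (D.TC ⧸ D.NT)))) :
    ∃ g, x = g * D.zb * g⁻¹ ∨ x = g * D.zb⁻¹ * g⁻¹ := by
  haveI : Fact (Nat.Prime 3) := ⟨Nat.prime_three⟩
  set C := Subgroup.centralizer ({x} : Set (D.TC ⧸ D.NT))
  set xc : C := ⟨x, Subgroup.mem_centralizer_singleton_iff.mpr rfl⟩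
  have hxc : IsPGroup 3 (Subgroup.zpowers xc) := IsPGroup.of_card (n := 1) (by
    rw [Nat.card_zpowers, pow_one]
    exact orderOf_eq_prime (Subtype.ext x3) fun e => x1 (congrArg Subtype.val e))
  obtain ⟨P, hP⟩ := hxc.exists_le_sylow
  set P' := (P : Subgroup C).map C.subtype
  have hP' : IsPGroup 3 P' := P.isPGroup'.map _
  have c729 : 729 ∣ Nat.card P' := by
    rw [Subgroup.card_map_of_injective C.subtype_injective]
    exact P.pow_dvd_card_of_pow_dvd_card (n := 6) (by simpa using h)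
  obtain ⟨R, hR⟩ := hP'.exists_le_sylow
  have hR729 : Nat.card (R : Subgroup (D.TC ⧸ D.NT)) ≤ 729 := by
    obtain ⟨k, hk⟩ := IsPGroup.iff_card.mp R.isPGroup'
    have hd := Subgroup.card_subgroup_dvd_card (R : Subgroup (D.TC ⧸ D.NT))
    rw [hk] at hd ⊢
    by_contra hlt
    refine D.card_bar (dvd_trans (pow_dvd_pow 3 ?_) hd)
    by_contra h7
    exact hlt ((Nat.pow_le_pow_right (by norm_num) (show k ≤ 6 by omega)).trans (by norm_num))
  have hEq : P' = R := Subgroup.eq_of_le_of_card_ge hR (hR729.trans (Nat.le_of_dvd Nat.card_pos c729))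
  obtain ⟨R0, hR0⟩ := (D.qb_pgroup.map D.CZ.subtype).exists_le_sylow
  obtain ⟨g, hg⟩ := MulAction.exists_smul_eq (D.TC ⧸ D.NT) R R0
  have hmem : ∀ y, y ∈ (R0 : Subgroup (D.TC ⧸ D.NT)) → g⁻¹ * y * g ∈ P' := fun y hy => by
    rw [← hg, Sylow.coe_subgroup_smul, Subgroup.mem_pointwise_smul_iff_inv_smul_mem] at hy
    rw [hEq]
    simpa [MulAut.smul_def, MulAut.conj_apply] using hy
  have hcomm : ∀ y ∈ (R0 : Subgroup (D.TC ⧸ D.NT)), Commute (g * x * g⁻¹) y := fun y hy => by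
    obtain ⟨q, -, hq⟩ := hmem y hy
    have hc : Commute (g⁻¹ * y * g) x := by
      rw [← hq]
      exact Subgroup.mem_centralizer_singleton_iff.mp q.2
    have := hc.symm.map (MulAut.conj g).toMonoidHom
    simpa [mul_assoc] using this
  rcases D.zb_pow_cases (D.central_zb hR0 hcomm) (fun e => x1 (by simpa using e)) with r | r
  · exact ⟨g⁻¹, Or.inl (by rw [← r]; group)⟩
  · exact ⟨g⁻¹, Or.inr (by rw [← r]; group)⟩

section Cls

variable (U : UData D) {v : Fin 6 → (Fin 6 → U.F)} (hv : Geom.IsFrame v) {z : U.F}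
  (hz : z * z + z + 1 = 0)

/-- The class seen in the quotient. -/
noncomputable def clsU : D.TC ⧸ D.NT := (U.e.symm (Geom.cls U.hF hv hz) : D.TC ⧸ D.NT)

theorem cls_order : (Geom.cls U.hF hv hz) ^ 3 = 1 ∧ Geom.cls U.hF hv hz ≠ 1 := by
  refine ⟨?_, fun e => ?_⟩
  · exact (Geom.diag_image U.hF hv hz).2.1 _ ⟨_, ⟨⟨Geom.half, Geom.half_sum.1⟩, rfl⟩, rfl⟩
  · have := (Geom.center_mono U.hF hv hz ((QuotientGroup.eq_one_iff _).mp e)).2 3
    exact absurd this (by decide)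

theorem clsU_conj : ∃ g, D.clsU U hv hz = g * D.zb * g⁻¹ ∨ D.clsU U hv hz = g * D.zb⁻¹ * g⁻¹ := by
  obtain ⟨c3, c1⟩ := D.cls_order U hv hz
  refine D.conj_zb ?_ (fun e => c1 ?_) ?_
  · rw [clsU, ← Subgroup.coe_pow, ← map_pow, c3, map_one]; rfl
  · rw [← U.e.apply_symm_apply (Geom.cls U.hF hv hz), show U.e.symm (Geom.cls U.hF hv hz) = 1 from Subtype.ext e,
      map_one]
  · refine (Geom.card_cent_cls U.hF hv hz).trans ?_
    set f : Subgroup.centralizer ({Geom.cls U.hF hv hz} : Set (Cfsg.PSU 6 U.F 2)) →*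
        Subgroup.centralizer ({D.clsU U hv hz} : Set (D.TC ⧸ D.NT)) :=
      ((D.UU.subtype.comp U.e.symm.toMonoidHom).comp (Subgroup.subtype _)).codRestrict _ fun a =>
        Subgroup.mem_centralizer_singleton_iff.mpr (by
          have := Subgroup.mem_centralizer_singleton_iff.mp a.2
          show (U.e.symm a.1 : D.TC ⧸ D.NT) * _ = _
          rw [clsU, ← Subgroup.coe_mul, ← map_mul, this, map_mul, Subgroup.coe_mul]
          rfl)
    refine Subgroup.card_dvd_of_injective f fun a b e => Subtype.ext (U.e.symm.injective (Subtype.ext ?_))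
    exact (congrArg Subtype.val e :)

end Cls

/-- An element of the centraliser inverting the central element. -/
theorem exists_inverter : ∃ h : D.TC, h * D.zT * h⁻¹ = D.zT⁻¹ := by
  obtain ⟨U⟩ := D.exists_udata
  obtain ⟨z, -, -, hz, -, -⟩ := CfsgThreeTrans.M22.exists_zeta U.hF
  obtain ⟨v, hv, -⟩ := Geom.exists_normalised U.hF 1 (fun _ => rfl) hz
  obtain ⟨k, hk⟩ := Geom.cls_conj_inv U.hF hv hz
  set k' : D.TC ⧸ D.NT := (U.e.symm k : D.TC ⧸ D.NT)
  have hk' : k' * D.clsU U hv hz * k'⁻¹ = (D.clsU U hv hz)⁻¹ := by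
    rw [clsU, ← Subgroup.coe_inv, ← Subgroup.coe_mul, ← Subgroup.coe_mul, ← map_inv, ← map_mul, ← map_mul, hk,
      map_inv, Subgroup.coe_inv]
  obtain ⟨g, hg⟩ := D.clsU_conj U hv hz
  have hinv : (g⁻¹ * k' * g) * D.zb * (g⁻¹ * k' * g)⁻¹ = D.zb⁻¹ := by
    rcases hg with e | e <;> rw [e] at hk'
    · rw [show g⁻¹ * k' * g * D.zb * (g⁻¹ * k' * g)⁻¹ = g⁻¹ * (k' * (g * D.zb * g⁻¹) * k'⁻¹) * g by group, hk']
      group
    · have := congrArg (·⁻¹) hk'
      simp only [inv_inv] at this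
      rw [show g⁻¹ * k' * g * D.zb * (g⁻¹ * k' * g)⁻¹ = g⁻¹ * (k' * (g * D.zb⁻¹ * g⁻¹) * k'⁻¹)⁻¹ * g by group, this]
      group
  obtain ⟨h, hh⟩ := D.mk_surj (g⁻¹ * k' * g)
  refine ⟨h, D.lift_eq (by rw [conj_pow, D.zT_cube, mul_one, mul_inv_cancel]) (by rw [inv_pow, D.zT_cube, inv_one]) ?_⟩
  rw [map_mul, map_mul, map_inv, map_inv, hh]
  exact hinv

/-- Elements of order three commuting with a group of order 729. -/
theorem conj_z {x : D.TC} (x3 : x ^ 3 = 1) (x1 : x ≠ 1) {S : Subgroup D.TC} (hS : Nat.card S = 729)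
    (hc : ∀ s ∈ S, Commute s x) : ∃ h : D.TC, x = h * D.zT * h⁻¹ := by
  haveI : Fact (Nat.Prime 3) := ⟨Nat.prime_three⟩
  have hp : IsPGroup 3 S := IsPGroup.of_card (n := 6) (by rw [hS]; norm_num)
  obtain ⟨g, hg⟩ := D.conj_zb (x := D.mkT x) (by rw [← map_pow, x3, map_one])
    (fun e => x1 (D.lift_eq x3 (one_pow 3) (by rw [e, map_one]))) (by
    have hle : (D.mkT.comp S.subtype).range ≤ Subgroup.centralizer ({D.mkT x} : Set (D.TC ⧸ D.NT)) := by
      rintro _ ⟨s, rfl⟩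
      exact Subgroup.mem_centralizer_singleton_iff.mpr ((hc s s.2).map D.mkT).eq
    refine dvd_trans ?_ (Subgroup.card_dvd_of_le hle)
    rw [← hS]
    exact dvd_of_eq (Nat.card_congr (MonoidHom.ofInjective (D.mk_inj_three hp)).toEquiv))
  obtain ⟨h, rfl⟩ := D.mk_surj g
  rcases hg with e | e
  · exact ⟨h, D.lift_eq x3 (by rw [conj_pow, D.zT_cube, mul_one, mul_inv_cancel]) (by rw [e, map_mul, map_mul, map_inv]; rfl)⟩
  · obtain ⟨i, hi⟩ := D.exists_inverter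
    refine ⟨h * i, D.lift_eq x3 (by rw [conj_pow, D.zT_cube, mul_one, mul_inv_cancel]) ?_⟩
    rw [show h * i * D.zT * (h * i)⁻¹ = h * (i * D.zT * i⁻¹) * h⁻¹ by group, hi, e, map_mul, map_mul, map_inv, map_inv]
    rfl

end Setting

end CfsgLib.Fi22Loc
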