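import Cfsg.Agent.Lib.Fi22Loc.Core
import Cfsg.Agent.Lib.Fi22Loc.NotWc

/-!
The involution inverting one plane: some conjugate of the central element in the centraliser and outside the core is
obtained by an element centralising it.
-/

set_option autoImplicit false
set_option synthInstance.maxSize 1024

namespace CfsgLib.Fi22Loc

open CfsgLib.U6Three (V2 SL23 det2 app2)

universe u

/-- The sign on one plane. -/
def one1 (i : Fin 3) : Fin 3 → Bool := fun l => decide (l = i)

/-- The vector with the last plane negated. -/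
def flip2 (v : V6) : V6 := fun i => if i = 2 then -v i else v i

theorem flip_sigma : ∀ (π : Equiv.Perm (Fin 3)) (c : ZMod 3), π * π * π = 1 → π ≠ 1 →
    ∃ i, (if i = 2 then (-1 : ZMod 3) else 1) ≠ (if π i = 2 then (-1 : ZMod 3) else 1) + c := by decide +kernel

theorem neg_eq_smul : ∀ a : V2, -a = (-1 : ZMod 3) • a := by decide +kernel

theorem smul_cancel : ∀ (c d : ZMod 3) (a : V2), a ≠ 0 → c • a = d • a → c = d := by decide +kernel

theorem app2_eq_zero : ∀ (a : SL23) (x : V2), app2 a x = 0 → x = 0 := by decide +kernel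

namespace Setting

variable {G : Type u} [Group G] {D : Setting G}

theorem sg_q (D : Setting G) (e : Fin 3 → Bool) (v : V6) :
    D.sg e * D.q v * (D.sg e)⁻¹ = D.q (appB (sB e) v) := (D.sg_acts e).2 v

/-- Conjugates in the core outside the centre have full support. -/
theorem full (D : Setting G) {g : G} {k : ZMod 3} {v : V6} (h : g * D.z * g⁻¹ = D.zz k * D.q v) (hv : v ≠ 0) :
    ∀ i, v i ≠ 0 := by
  obtain ⟨k', v', P'⟩ := CPt.partner (D := D) ⟨h, hv⟩
  exact (Duo.symm ⟨⟨h, hv⟩, P'⟩).shape.1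

/-- The realised classes contain a cycle. -/
theorem exists_sigma (D : Setting G) : ∃ σ : Bk, D.Real σ ∧ σ.π * σ.π * σ.π = 1 ∧ σ.π ≠ 1 := by
  obtain ⟨g, k, v, h, hv⟩ := D.exists_pt
  obtain ⟨k', v', P'⟩ := CPt.partner (D := D) ⟨h, hv⟩
  have P : D.Duo g k v k' v' := ⟨⟨h, hv⟩, P'⟩
  obtain ⟨-, -, ⟨w, hw, hne⟩, -⟩ := P.shape
  exact ⟨_, D.img_real (P.img hw), bk_cube_π (P.im_cube hw), hne⟩

/-- Diagonal realised classes are constant. -/
theorem const (D : Setting G) {b : Bk} (hb : D.Real b) (hπ : b.π = 1) : cv b = fun _ => cv b 0 := by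
  obtain ⟨σ, hσ, hc, hne⟩ := D.exists_sigma
  obtain ⟨e1, e2⟩ := D.diag_const hσ hc hne hb hπ
  funext i; fin_cases i
  exacts [rfl, e1.symm, (e1.trans e2).symm]

theorem const_full (D : Setting G) {b : Bk} (hb : D.Real b) (hπ : b.π = 1) (h3 : b * b * b = 1) (h1 : b ≠ 1) :
    ∀ i, b.g i ≠ 1 := fun i hi => h1 (eq_one_of_tr h3 ⟨hπ, by
      have h := D.const hb hπ
      have h0 : cv b i = 0 := by rw [cv, hi, ψ_one]
      rw [h] at h0 ⊢
      exact funext fun _ => h0⟩)

/-- The partner of a conjugate outside the core lies outside. -/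
theorem out_partner (D : Setting G) {g : G} (h : g * D.z * g⁻¹ ∉ D.Q) : g⁻¹ * D.z * g ∉ D.Q := by
  intro hq
  obtain ⟨k, v, e⟩ := hq
  by_cases hv : v = 0
  · rw [hv, D.q_zero, mul_one] at e
    refine h ?_
    have e2 : g * D.zz k * g⁻¹ = D.z := by rw [← e]; group
    rcases (by decide : ∀ k : ZMod 3, k = 0 ∨ k = 1 ∨ k = 2) k with r | r | r <;> rw [r] at e2
    · rw [D.zz_zero, mul_one, mul_inv_cancel] at e2; exact absurd e2.symm D.z_ne
    · rw [D.zz_one] at e2; rw [e2]; exact D.z_mem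
    · have : g * D.z * g⁻¹ = (g * D.zz 2 * g⁻¹) ^ 2 := by
        rw [conj_pow, pow_two (D.zz 2), ← D.zz_add, show (2 : ZMod 3) + 2 = 1 from by decide, D.zz_one]
      rw [this, e2]
      exact pow_mem D.z_mem 2
  · obtain ⟨k', v', e', -⟩ := CPt.partner (D := D) (g := g⁻¹) ⟨by rw [inv_inv]; exact e, hv⟩
    rw [inv_inv] at e'
    exact h (e' ▸ D.zz_q_mem_Q _ _)

/-- The vector of the core moved by a general element. -/
theorem conj_by_q {X : G} {p : Bk} (hX : D.Img X p) (w : V6) :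
    ∃ n, D.q w * X * (D.q w)⁻¹ = D.zz n * D.q (w - appB p w) * X := by
  obtain ⟨n, hn⟩ := hX.2 (-w)
  refine ⟨n + -om w (-appB p w), ?_⟩
  rw [show D.q w * X * (D.q w)⁻¹ = D.q w * (X * D.q (-w) * X⁻¹) * X by rw [← D.q_inv]; group, hn, appB_neg,
    ← mul_assoc (D.q w), ← (D.zz_q n w).eq, mul_assoc (D.zz n), D.q_mul', ← mul_assoc (D.zz n), ← D.zz_add,
    ← sub_eq_add_neg w]

/-- A conjugate outside the core in the Levi part with constant block matrix. -/
theorem exists_levi (D : Setting G) : ∃ (g s : G) (b : Bk), D.Pt g 0 s b ∧ b.π = 1 := by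
  classical
  obtain ⟨g, k, v, h, hv⟩ := D.exists_pt
  obtain ⟨k', v', P'⟩ := CPt.partner (D := D) ⟨h, hv⟩
  have P : D.Duo g k v k' v' := ⟨⟨h, hv⟩, P'⟩
  obtain ⟨full', h27, ⟨w1, hw1, hσ⟩, ⟨w0, c0, hw0, hd, hc0, hcv⟩⟩ := P.shape
  obtain ⟨-, h27', -, -⟩ := P.symm.shape
  set v2 := flip2 v'
  have hv2' : appB (sB (one1 2)) v' = v2 := funext fun i => by
    rw [sB_app]; simp [one1, v2, flip2]
  have hperp : om v' v2 = 0 := by
    simp only [om, v2, flip2, Fin.isValue, show (0 : Fin 3) ≠ 2 by decide, show (1 : Fin 3) ≠ 2 by decide, if_false,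
      if_true, det2, Prod.fst_neg, Prod.snd_neg]
    ring
  set gx := g * D.sg (one1 2) * g⁻¹
  set x := gx * D.z * gx⁻¹
  set p := D.im (g⁻¹⁻¹ * D.q v2 * g⁻¹)
  have ex : x = g * D.zz k' * g⁻¹ * (g⁻¹⁻¹ * D.q v2 * g⁻¹) := by
    rw [show x = g * (D.sg (one1 2) * (g⁻¹ * D.z * g) * (D.sg (one1 2))⁻¹) * g⁻¹ by simp only [x, gx]; group, P.eq',
      show D.sg (one1 2) * (D.zz k' * D.q v') * (D.sg (one1 2))⁻¹ =
        D.sg (one1 2) * D.zz k' * (D.sg (one1 2))⁻¹ * (D.sg (one1 2) * D.q v' * (D.sg (one1 2))⁻¹) by group,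
      D.conj_zz (D.sg_acts _).1.cz, D.sg_q, hv2']
    group
  have hx : D.Img x p := by
    have := (D.img_Q (P.symm.zz_back_mem k')).mul (P.symm.img hperp)
    rw [one_mul] at this
    rw [ex]; simpa only [inv_inv, p] using this
  -- not in the core
  have hp1 : p ≠ 1 := fun hp => by
    have hm : v2 ∈ P.symm.ker := ⟨hperp, hp⟩
    obtain ⟨a, w, hw⟩ := P.symm.ker_elt hm
    rw [inv_inv] at hw
    have hb : g⁻¹ * D.q w * g = D.zz (-a * k' + -om (-a • v') v2) * D.q (-a • v' + v2) := by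
      rw [show D.q w = D.zz (-a) * (g * D.q v2 * g⁻¹) by
        rw [hw, ← mul_assoc, ← D.zz_add, neg_add_cancel, D.zz_zero, one_mul],
        show g⁻¹ * (D.zz (-a) * (g * D.q v2 * g⁻¹)) * g = g⁻¹ * D.zz (-a) * g * D.q v2 by group, P.zz_back, mul_assoc,
        D.q_mul', ← mul_assoc, ← D.zz_add]
    have hmv := P.move hw1 hb
    rw [appB_add, appB_smul, P.fix hw1, add_assoc, add_right_inj] at hmv
    obtain ⟨i, hi⟩ := flip_sigma _ (om w1 w) (bk_cube_π (P.im_cube hw1)) hσ
    refine hi (smul_cancel _ _ _ (full' ((D.im (g⁻¹ * D.q w1 * g)).π i)) ?_)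
    have hfl : ∀ l, v2 l = (if l = 2 then (-1 : ZMod 3) else 1) • v' l := fun l => by
      simp only [v2, flip2]; split_ifs
      · exact neg_eq_smul _
      · rw [one_smul]
    have h1 := congrFun hmv ((D.im (g⁻¹ * D.q w1 * g)).π i)
    have h2 := congrFun (P.fix hw1) ((D.im (g⁻¹ * D.q w1 * g)).π i)
    simp only [appB, Equiv.symm_apply_apply, Pi.add_apply, Pi.smul_apply, hfl] at h1 h2
    rw [app2_smul, h2] at h1
    rw [h1, add_smul]
  obtain ⟨u, s, hP⟩ := pt_of_img hx hp1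
  -- vectors moving it along the conjugate
  let T : AddSubgroup V6 :=
    { carrier := {w | om v w = 0 ∧ ∃ c, D.q w * x * (D.q w)⁻¹ = g * D.zz c * g⁻¹ * x}
      zero_mem' := ⟨om_zero_right v, 0, by rw [D.q_zero, D.zz_zero]; group⟩
      add_mem' := by
        rintro a b ⟨ha, c, hc⟩ ⟨hb, d, hd⟩
        refine ⟨by rw [om_add_right, ha, hb, add_zero], c + d, ?_⟩
        have e : D.q (a + b) = D.zz (om a b) * (D.q a * D.q b) := by
          rw [D.q_mul', ← mul_assoc, ← D.zz_add, add_neg_cancel, D.zz_zero, one_mul]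
        rw [e, show D.zz (om a b) * (D.q a * D.q b) * x * (D.zz (om a b) * (D.q a * D.q b))⁻¹ =
          D.zz (om a b) * (D.q a * (D.q b * x * (D.q b)⁻¹) * (D.q a)⁻¹) * (D.zz (om a b))⁻¹ by group, hd,
          show D.q a * (g * D.zz d * g⁻¹ * x) * (D.q a)⁻¹ =
            D.q a * (g * D.zz d * g⁻¹) * (D.q a)⁻¹ * (D.q a * x * (D.q a)⁻¹) by group, hc]
        have ca : Commute (D.q a) (g * D.zz d * g⁻¹) := by
          have := (CPt.commute (D := D) ⟨h, hv⟩ ha).pow_right d.val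
          rwa [conj_pow] at this
        rw [ca.eq, mul_inv_cancel_right, ← mul_assoc (g * D.zz d * g⁻¹)]
        have e2 : g * D.zz d * g⁻¹ * (g * D.zz c * g⁻¹) = g * D.zz (c + d) * g⁻¹ := by
          rw [add_comm c, D.zz_add]; group
        rw [e2]
        have hcz : Commute (g * D.zz (c + d) * g⁻¹ * x) D.z := by
          refine Commute.mul_left ?_ hx.1
          have := ((CPt.zcomm (D := D) ⟨h, hv⟩)).pow_left (c + d).val
          rwa [conj_pow] at this
        rw [← (D.zz_comm hcz _).eq, mul_inv_cancel_right]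
      neg_mem' := by
        rintro a ⟨ha, c, hc⟩
        refine ⟨by rw [om_neg_right, ha, neg_zero], -c, ?_⟩
        have ca : Commute (D.q a) (g * D.zz c * g⁻¹) := by
          have := (CPt.commute (D := D) ⟨h, hv⟩ ha).pow_right c.val
          rwa [conj_pow] at this
        rw [← D.q_inv, inv_inv, D.zz_neg, show g * (D.zz c)⁻¹ * g⁻¹ = (g * D.zz c * g⁻¹)⁻¹ by group]
        calc (D.q a)⁻¹ * x * D.q a = (g * D.zz c * g⁻¹)⁻¹ * (D.q a)⁻¹ * (g * D.zz c * g⁻¹ * x) * D.q a := by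
              rw [show (g * D.zz c * g⁻¹)⁻¹ * (D.q a)⁻¹ = (D.q a)⁻¹ * (g * D.zz c * g⁻¹)⁻¹ from
                (ca.inv_inv).eq.symm]; group
          _ = _ := by rw [← hc]; group }
  have hT : ∀ w, om v w = 0 → appB (D.im (g⁻¹ * D.q w * g)) v2 = v2 → w ∈ T := by
    intro w hw hfix
    obtain ⟨n, hn⟩ := (P.img hw).2 v2
    rw [hfix] at hn
    refine ⟨hw, n, ?_⟩
    have hzc : Commute (D.q w) (g * D.zz k' * g⁻¹) := by
      have := (CPt.commute (D := D) ⟨h, hv⟩ hw).pow_right k'.val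
      rwa [conj_pow] at this
    have hX : Commute (g * D.zz n * g⁻¹) (g * D.zz k' * g⁻¹) := by
      have := ((Commute.refl D.z).pow_pow n.val k'.val).map (MulAut.conj g).toMonoidHom
      simpa [zz] using this
    rw [ex, inv_inv, show D.q w * (g * D.zz k' * g⁻¹ * (g * D.q v2 * g⁻¹)) * (D.q w)⁻¹ =
      D.q w * (g * D.zz k' * g⁻¹) * (D.q w)⁻¹ * (g * (g⁻¹ * D.q w * g * D.q v2 * (g⁻¹ * D.q w * g)⁻¹) * g⁻¹) by group,
      hzc.eq, mul_inv_cancel_right, hn, show g * (D.zz n * D.q v2) * g⁻¹ = g * D.zz n * g⁻¹ * (g * D.q v2 * g⁻¹) by group,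
      ← mul_assoc, ← hX.eq, mul_assoc]
  have hkT : P.ker ≤ T := fun w hw => hT w hw.1 (by rw [hw.2, appB_one])
  have hw0T : w0 ∈ T := hT w0 hw0 (funext fun i => by
    have h2 := congrFun (P.fix hw0) i
    have hs : ∀ k, (D.im (g⁻¹ * D.q w0 * g)).π.symm k = k := fun k => by rw [hd]; rfl
    simp only [appB, hs, v2, flip2] at h2 ⊢
    split_ifs
    · rw [neg_eq_smul, app2_smul, h2]
    · exact h2)
  have hT81 : 81 ≤ Nat.card T := by
    have hne : P.ker ≠ T := fun e => by
      have hk : w0 ∈ P.ker := e ▸ hw0T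
      have := congrFun hcv 0
      rw [hk.2, cv_one] at this
      exact hc0 this.symm
    have hd' := AddSubgroup.card_addSubgroup_dvd_card T
    rw [card_V6] at hd'
    have hgt : 27 < Nat.card T := by
      by_contra hle
      exact hne (AddSubgroup.eq_of_le_of_card_ge hkT (by omega))
    obtain ⟨i, hi, ei⟩ := (Nat.dvd_prime_pow Nat.prime_three (m := 6)).mp hd'
    interval_cases i <;> omega
  choose cf hcf using fun w : T => w.2.2
  have hmove : ∀ w : T, w.1 - appB p w.1 = cf w • v := fun w => by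
    obtain ⟨n, hn⟩ := conj_by_q hx w.1
    have h3 := P.symm.zz_back (cf w)
    rw [inv_inv] at h3
    exact (D.el_inj (mul_right_cancel ((hn.symm.trans (hcf w)).trans (by rw [h3])))).2
  have hpπ : p.π = 1 := by
    by_contra hne
    have hinj : Function.Injective fun w : T => (w.1 0, cf w) := fun a b e => by
      obtain ⟨e0, ec⟩ := Prod.ext_iff.mp e
      simp only at e0 ec
      have hdiff : appB p (a.1 - b.1) = a.1 - b.1 := by
        have h1 := hmove a
        rw [ec, ← hmove b] at h1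
        rw [appB_sub]
        linear_combination -(h1 : a.1 - appB p a.1 = b.1 - appB p b.1)
      have st : ∀ i, (a.1 - b.1) i = 0 → (a.1 - b.1) (p.π i) = 0 := fun i hi => by
        have := congrFun hdiff (p.π i)
        rw [appB, Equiv.symm_apply_apply, hi, app2_zero] at this
        exact this.symm
      have z0 : (a.1 - b.1) 0 = 0 := by rw [Pi.sub_apply, e0, sub_self]
      refine Subtype.ext (sub_eq_zero.mp (funext fun i => ?_))
      rcases (by decide +kernel : ∀ π : Equiv.Perm (Fin 3), π * π * π = 1 → π ≠ 1 → ∀ i : Fin 3,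
        i = 0 ∨ i = π 0 ∨ i = π (π 0)) p.π (bk_cube_π hP.cube) hne i with r | r | r <;> rw [r]
      exacts [z0, st _ z0, st _ (st _ z0)]
    have := Nat.card_le_card_of_injective _ hinj
    rw [Nat.card_prod, Nat.card_prod, Nat.card_zmod] at this
    omega
  have hfull := D.const_full ⟨s, hP.acts⟩ hpπ hP.cube hp1
  have g3 := bk_cube_g hP.cube hpπ
  choose hax hfx hline hpre using fun i => ax_spec _ (g3 i) (hfull i)
  have hd2 : ∀ (w : V6) i, appB p w i = app2 (p.g i) (w i) := fun w i => appB_diag hpπ w i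
  -- the kernel fills the fixed space
  let cH : T →+ ZMod 3 := AddMonoidHom.mk' cf fun a b => by
    have e1 := hmove (a + b)
    have e2 : ((a + b : T) : V6) = a.1 + b.1 := rfl
    rw [e2, appB_add, add_sub_add_comm, hmove a, hmove b, ← add_smul] at e1
    obtain ⟨i, hi⟩ := Function.ne_iff.mp hv
    exact (smul_cancel _ _ _ hi (congrFun e1 i)).symm
  have h27k : 27 ≤ Nat.card cH.ker := by
    have hm := cH.ker.card_mul_index
    rw [AddSubgroup.index_ker] at hm
    have := Nat.mul_le_mul_left (Nat.card cH.ker) (cH.range.card_le_card_addGroup.trans (Nat.card_zmod 3).le)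
    omega
  have hker : ∀ w : cH.ker, appB p w.1.1 = w.1.1 ∧ om u w.1.1 = 0 := fun w => by
    have hc : cf w.1 = 0 := AddMonoidHom.mem_ker.mp w.2
    have hfix : appB p w.1.1 = w.1.1 := by
      have := hmove w.1
      rw [hc, zero_smul, sub_eq_zero] at this
      exact this.symm
    refine ⟨hfix, ?_⟩
    have h1 := hcf w.1
    rw [hc, D.zz_zero, mul_one, mul_inv_cancel, one_mul, mul_inv_eq_iff_eq_mul] at h1
    have hx' : Commute (D.q w.1.1) (D.q u * s) := hP.eq ▸ (show Commute (D.q w.1.1) x from h1)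
    have hs : Commute (D.q w.1.1) s := (hP.acts.comm_q hfix).symm
    have := hx'.mul_right hs.inv_right
    rw [mul_inv_cancel_right] at this
    rw [om_swap, D.q_comm.mp this, neg_zero]
  choose lf hlf using fun (w : cH.ker) i => hline i (w.1.1 i) (by rw [← hd2, (hker w).1])
  have linj : Function.Injective lf := fun a b e => Subtype.ext (Subtype.ext (funext fun i => by
    rw [hlf a i, hlf b i, e]))
  have h3 : Nat.card (Fin 3 → ZMod 3) = 27 := by rw [Nat.card_pi, Fin.prod_const, Nat.card_zmod]; norm_num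
  have lsurj := ((Nat.bijective_iff_injective_and_card _).mpr ⟨linj,
    le_antisymm (Nat.card_le_card_of_injective _ linj) (h3 ▸ h27k)⟩).2
  have hdet : ∀ i, det2 (u i) (ax (p.g i)) = 0 := fun i => by
    obtain ⟨w, hw⟩ := lsurj (Pi.single i 1)
    have h1 := (hker w).2
    have e : w.1.1 = emb i (ax (p.g i)) := funext fun l => by
      rw [hlf w l, hw]
      by_cases hl : l = i
      · subst hl; simp [emb_self]
      · simp [hl, emb_ne hl]
    rwa [e, om_emb] at h1
  choose n hn using fun i => det2_line _ _ (hax i) (hdet i)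
  choose c hc using fun i => hpre i (n i)
  obtain ⟨s', hP'⟩ := levi_of hP (w := c) (funext fun i => by rw [Pi.sub_apply, hd2, hc i, hn i])
  exact ⟨_, s', p, hP', hpπ⟩

/-- An element centralising the involution of the first plane moving the central element outside the core. -/
theorem exists_cent_pt (D : Setting G) : ∃ g, Commute g (D.sg (one1 0)) ∧ Commute (g * D.z * g⁻¹) D.z ∧
    g * D.z * g⁻¹ ∉ D.Q := by
  obtain ⟨g, s, b, P, hπ⟩ := D.exists_levi
  have e0 : g * D.z * g⁻¹ = s := by rw [P.eq, D.q_zero, one_mul]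
  have hg : ∀ e, Commute (D.sg e) (g * D.z * g⁻¹) := fun e => by
    have := D.sg_comm P.acts e
    rw [hπ, mul_inv_eq_iff_eq_mul] at this
    rw [e0]; exact this.symm
  have bfull := D.const_full ⟨s, P.acts⟩ hπ P.cube P.ne
  obtain ⟨⟨e, he⟩, ⟨e', k, he'⟩, hno⟩ := D.sign_image hg
  obtain ⟨w, hw⟩ := D.neg_invol he (by
    rw [show g⁻¹ * D.sg e * g * (g⁻¹ * D.sg e * g) = g⁻¹ * (D.sg e * D.sg e) * g by group, D.sg_sq]; group)
  set g1 := g * D.q w
  have hz1 : g1 * D.z * g1⁻¹ = g * D.z * g⁻¹ := by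
    simp only [g1]
    rw [show g * D.q w * D.z * (g * D.q w)⁻¹ = g * (D.q w * D.z * (D.q w)⁻¹) * g⁻¹ by group, (D.q_z w).eq,
      mul_inv_cancel_right]
  have hj1 : g1⁻¹ * D.sg e * g1 = D.j := by
    rw [show g1⁻¹ * D.sg e * g1 = (D.q w)⁻¹ * (g⁻¹ * D.sg e * g) * D.q w by simp only [g1]; group, hw]; group
  have hout : g1⁻¹ * D.z * g1 ∉ D.Q := D.out_partner (hz1.symm ▸ P.notQ)
  have hcz : ∀ f, Commute (g1⁻¹ * D.sg f * g1) D.z := fun f => D.conj_back (hz1.symm ▸ hg f)
  have hcj : ∀ f, Commute (g1⁻¹ * D.sg f * g1) D.j := fun f => by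
    rw [← hj1]
    have : Commute (D.sg f) (D.sg e) := by
      show _ = _
      rw [D.sg_mul, D.sg_mul]; simp only [Bool.xor_comm]
    have := this.map (MulAut.conj g1⁻¹).toMonoidHom
    simpa [mul_assoc] using this
  have hy1 : Commute (g1⁻¹ * D.z * g1) D.z := D.conj_back (hz1.symm ▸ P.comm.symm)
  have hy1j : Commute (g1⁻¹ * D.z * g1) D.j := by
    rw [← hj1]
    have := ((D.sg_acts e).1.cz.symm).map (MulAut.conj g1⁻¹).toMonoidHom
    simpa [mul_assoc] using this
  obtain ⟨B, hB⟩ := D.levi_acts ⟨hy1, hy1j⟩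
  have hB3 : B * B * B = 1 := D.img_cube (D.img_acts hB) (cube_conj D.z_cube)
  have hB1 : B ≠ 1 := fun h => hout ((D.mem_Q_iff (D.img_acts hB)).mpr h)
  have hBimg : ∀ f, D.Img (g⁻¹ * D.sg f * g) (D.im (g1⁻¹ * D.sg f * g1)) := fun f => by
    have h := ((D.img_Q (D.q_mem w)).mul (D.im_spec (hcz f))).mul (D.img_Q (D.q_mem w)).inv
    rw [one_mul, inv_one, mul_one] at h
    rwa [show D.q w * (g1⁻¹ * D.sg f * g1) * (D.q w)⁻¹ = g⁻¹ * D.sg f * g by simp only [g1]; group] at h
  have hBπ : B.π = 1 := by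
    have hy : D.Img (g⁻¹ * D.z * g) B := by
      have h := ((D.img_Q (D.q_mem w)).mul (D.img_acts hB)).mul (D.img_Q (D.q_mem w)).inv
      rw [one_mul, inv_one, mul_one] at h
      rwa [show D.q w * (g1⁻¹ * D.z * g1) * (D.q w)⁻¹ = g⁻¹ * D.z * g by simp only [g1]; group] at h
    refine hno hy (fun f => ?_) (bk_cube_π hB3)
    have := ((D.sg_acts f).1.cz).map (MulAut.conj g⁻¹).toMonoidHom
    simpa [mul_assoc] using this
  have Bfull := D.const_full ⟨_, hB⟩ hBπ hB3 hB1
  have B3 := bk_cube_g hB3 hBπ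
  choose Bax Bfx Bline Bpre using fun i => ax_spec _ (B3 i) (Bfull i)
  -- the single sign
  have hk : g1⁻¹ * D.sg e' * g1 = D.sg (one1 k) := by
    obtain ⟨C, hC⟩ := D.levi_acts ⟨hcz e', hcj e'⟩
    have hh := (hBimg e').unique he'
    rw [D.im_eq (D.img_acts hC)] at hh
    refine D.sg_unique (by rw [hh] at hC; exact hC) ?_
    rw [show g1⁻¹ * D.sg e' * g1 * (g1⁻¹ * D.sg e' * g1) = g1⁻¹ * (D.sg e' * D.sg e') * g1 by group, D.sg_sq]; group
  -- its vectors land on one line
  have g3 := bk_cube_g P.cube hπ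
  choose hax hfx hline hpre using fun i => ax_spec _ (g3 i) (bfull i)
  have hland : ∀ i, e' i = true → ∃ t : ZMod 3, t ≠ 0 ∧
      g1⁻¹ * D.q (emb i (ax (b.g i))) * g1 = D.q (emb k (t • ax (B.g k))) := by
    intro i hi
    set c := D.q (emb i (ax (b.g i)))
    have hfix : appB b (emb i (ax (b.g i))) = emb i (ax (b.g i)) := by rw [appB_emb_diag hπ, hfx i]
    have hc : Commute c (g1 * D.z * g1⁻¹) := by rw [hz1, e0]; exact (P.acts.comm_q hfix).symm
    have hinv : D.sg e' * c * (D.sg e')⁻¹ = c⁻¹ := by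
      rw [D.sg_q, D.q_inv]
      congr 1
      funext l
      rw [sB_app]
      by_cases hl : l = i
      · subst hl; simp [hi, emb_self]
      · simp [emb_ne hl]
    have hFi : D.Img (g1⁻¹ * D.sg e' * g1) (sB (one1 k)) := by rw [hk]; exact D.img_acts (D.sg_acts _)
    obtain ⟨a, β, eβ⟩ := kill hFi rfl hc (D.q_cube _) hinv
    have hi' := congrArg (fun y => g1⁻¹ * y * g1) hinv
    have e1 : g1⁻¹ * (D.sg e' * c * (D.sg e')⁻¹) * g1 = D.zz a * D.q (appB (sB (one1 k)) β) := by
      rw [show g1⁻¹ * (D.sg e' * c * (D.sg e')⁻¹) * g1 =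
        g1⁻¹ * D.sg e' * g1 * (g1⁻¹ * c * g1) * (g1⁻¹ * D.sg e' * g1)⁻¹ by group, hk, eβ,
        show D.sg (one1 k) * (D.zz a * D.q β) * (D.sg (one1 k))⁻¹ =
          D.sg (one1 k) * D.zz a * (D.sg (one1 k))⁻¹ * (D.sg (one1 k) * D.q β * (D.sg (one1 k))⁻¹) by group,
        D.conj_zz (D.sg_acts _).1.cz, D.sg_q]
    rw [e1, show g1⁻¹ * c⁻¹ * g1 = (g1⁻¹ * c * g1)⁻¹ by group, eβ, mul_inv_rev, D.q_inv, ← D.zz_neg,
      ← (D.zz_q (-a) (-β)).eq] at hi'
    obtain ⟨ha, hβ⟩ := D.el_inj hi'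
    have a0 : a = 0 := (by decide : ∀ a : ZMod 3, a = -a → a = 0) a ha
    rw [a0, D.zz_zero, one_mul] at eβ
    have hβ0 : ∀ l, l ≠ k → β l = 0 := fun l hl => by
      have := congrFun hβ l
      rw [sB_app] at this
      simp [one1, hl] at this
      exact (by decide +kernel : ∀ x : V2, x = -x → x = 0) _ this
    have hcy : Commute (D.q β) (g1⁻¹ * D.z * g1) := by
      rw [← eβ]
      have := ((D.q_z (emb i (ax (b.g i))))).map (MulAut.conj g1⁻¹).toMonoidHom
      simpa [c, mul_assoc] using this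
    have hBβ : appB B β = β := D.q_injective (by
      rw [← hB.2, ← hcy.eq, mul_inv_cancel_right])
    obtain ⟨t, ht⟩ := Bline k (β k) (by rw [← appB_diag hBπ, hBβ])
    have hemb : β = emb k (t • ax (B.g k)) := funext fun l => by
      by_cases hl : l = k
      · subst hl; rw [emb_self, ht]
      · rw [emb_ne hl, hβ0 l hl]
    refine ⟨t, fun t0 => hax i ?_, eβ.trans (by rw [hemb])⟩
    have : β = 0 := by rw [hemb, t0, zero_smul]; funext l; simp [emb]
    rw [this, D.q_zero] at eβ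
    have hc1 : c = 1 := by
      have := congrArg (fun y => g1 * y * g1⁻¹) eβ
      simpa [mul_assoc] using this
    have := congrFun (D.q_injective (hc1.trans D.q_zero.symm)) i
    rwa [emb_self] at this
  obtain ⟨m, hm⟩ : ∃ m, e' = one1 m := by
    by_cases hz : ∀ i, e' i = false
    · exfalso
      have : D.sg e' = 1 := by
        rw [show e' = fun i => xor (e' i) (e' i) from funext fun i => by rw [hz i]; rfl, ← D.sg_mul, D.sg_sq]
      rw [this, mul_one, inv_mul_cancel] at hk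
      have := congrFun (sB_inj ((D.sg_acts (one1 k)).unique (hk ▸ D.acts_one) |>.trans
        (show (1 : Bk) = sB fun _ => false from rfl))) k
      simp [one1] at this
    push Not at hz
    obtain ⟨m, hm⟩ := hz
    have hm : e' m = true := by simpa using hm
    refine ⟨m, funext fun i => ?_⟩
    by_cases him : i = m
    · subst him; simp [one1, hm]
    · have : e' i ≠ true := fun hi => by
        obtain ⟨t, ht, et⟩ := hland i hi
        obtain ⟨t', ht', et'⟩ := hland m hm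
        obtain ⟨r, hr⟩ := (by decide : ∀ t t' : ZMod 3, t' ≠ 0 → ∃ r, t = r * t') t t' ht'
        have e3 : ∀ (r : ZMod 3) (x : V6), D.q x ^ r.val = D.q (r • x) := fun r x => by
          have := D.zz_smul_q r 0 x
          rwa [D.zz_zero, one_mul, mul_zero, D.zz_zero, one_mul] at this
        have e4 : g1⁻¹ * D.q (r • emb m (ax (b.g m))) * g1 = g1⁻¹ * D.q (emb i (ax (b.g i))) * g1 := by
          rw [et, ← e3, show g1⁻¹ * D.q (emb m (ax (b.g m))) ^ r.val * g1 =
            (g1⁻¹ * D.q (emb m (ax (b.g m))) * g1) ^ r.val by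
              rw [show g1⁻¹ * D.q (emb m (ax (b.g m))) * g1 = g1⁻¹ * D.q (emb m (ax (b.g m))) * g1⁻¹⁻¹ by rw [inv_inv],
                conj_pow, inv_inv], et', e3]
          congr 1
          funext l
          by_cases hl : l = k
          · subst hl; rw [Pi.smul_apply, emb_self, emb_self, smul_smul, hr]
          · rw [Pi.smul_apply, emb_ne hl, emb_ne hl, smul_zero]
        have := congrFun (D.q_injective (mul_left_cancel (mul_right_cancel e4))) i
        rw [Pi.smul_apply, emb_ne him, smul_zero, emb_self] at this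
        exact hax i this.symm
      simpa [one1, him] using this
  subst hm
  -- relabel
  obtain ⟨σ, hσ, hc, hne⟩ := D.exists_sigma
  have move : ∀ a b : Fin 3, ∃ h p, D.Acts h p ∧ p.π a = b := fun a b => by
    obtain ⟨s1, hs1⟩ := hσ
    rcases (by decide +kernel : ∀ (π : Equiv.Perm (Fin 3)), π * π * π = 1 → π ≠ 1 → ∀ a b : Fin 3,
      a = b ∨ π a = b ∨ (π * π) a = b) σ.π hc hne a b with r | r | r
    exacts [⟨1, 1, D.acts_one, r⟩, ⟨s1, σ, hs1, r⟩, ⟨s1 * s1, σ * σ, hs1.mul hs1, r⟩]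
  have mv : ∀ {h : G} {p : Bk} {a b : Fin 3}, D.Acts h p → p.π a = b → h * D.sg (one1 a) * h⁻¹ = D.sg (one1 b) := by
    intro h p a b hh he
    rw [D.sg_comm hh]
    congr 1
    funext i
    simp only [one1]
    rw [decide_eq_decide, Equiv.symm_apply_eq, he]
  obtain ⟨h, p, hh, hp⟩ := move k m
  obtain ⟨h1, p1, hh1, hp1⟩ := move m 0
  set g2 := g1 * h⁻¹
  have hz2 : g2 * D.z * g2⁻¹ = g * D.z * g⁻¹ := by
    rw [← hz1]; simp only [g2]
    rw [show g1 * h⁻¹ * D.z * (g1 * h⁻¹)⁻¹ = g1 * (h⁻¹ * D.z * h) * g1⁻¹ by group, mul_assoc h⁻¹, hh.1.cz.eq.symm,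
      inv_mul_cancel_left]
  have hg2 : g2 * D.sg (one1 m) * g2⁻¹ = D.sg (one1 m) := by
    simp only [g2]
    rw [show g1 * h⁻¹ * D.sg (one1 m) * (g1 * h⁻¹)⁻¹ = g1 * (h⁻¹ * D.sg (one1 m) * h) * g1⁻¹ by group,
      show h⁻¹ * D.sg (one1 m) * h = D.sg (one1 k) by rw [← mv hh hp]; group, ← hk]
    group
  refine ⟨h1 * g2 * h1⁻¹, ?_, ?_⟩
  · rw [← mv hh1 hp1]
    have h' : Commute g2 (D.sg (one1 m)) := mul_inv_eq_iff_eq_mul.mp hg2
    have := h'.map (MulAut.conj h1).toMonoidHom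
    simpa [MulAut.conj_apply] using this
  · have e3 : h1 * g2 * h1⁻¹ * D.z * (h1 * g2 * h1⁻¹)⁻¹ = h1 * (g * D.z * g⁻¹) * h1⁻¹ := by
      rw [← hz2, show h1 * g2 * h1⁻¹ * D.z * (h1 * g2 * h1⁻¹)⁻¹ = h1 * g2 * (h1⁻¹ * D.z * h1) * g2⁻¹ * h1⁻¹ by group,
        mul_assoc h1⁻¹, hh1.1.cz.eq.symm, inv_mul_cancel_left]
      group
    rw [e3]
    refine ⟨?_, fun hq => P.notQ ?_⟩
    · exact (hh1.1.cz.mul_left P.comm).mul_left hh1.1.cz.inv_left
    · have := D.conj_Q hh1.1.cz.inv_left hq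
      simpa [mul_assoc] using this

end Setting

end CfsgLib.Fi22Loc
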