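import Cfsg.Agent.Lib.Fi22Loc.Model

/-!
Counting in the six dimensional symplectic space over three elements.
-/

set_option autoImplicit false
set_option synthInstance.maxSize 1024

namespace CfsgLib.Fi22Loc

open CfsgLib.U6Three (V2 SL23 det2 app2)

theorem det2_add_right : ∀ a b c : V2, det2 a (b + c) = det2 a b + det2 a c := by decide +kernel

theorem om_smul_right (c : ZMod 3) (v w : V6) : om v (c • w) = c * om v w := by
  simp only [om, Pi.smul_apply, det2, Prod.smul_fst, Prod.smul_snd, smul_eq_mul]; ring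

theorem om_smul_left (c : ZMod 3) (v w : V6) : om (c • v) w = c * om v w := by
  simp only [om, Pi.smul_apply, det2, Prod.smul_fst, Prod.smul_snd, smul_eq_mul]; ring

theorem appB_smul (b : Bk) (c : ZMod 3) (v : V6) : appB b (c • v) = c • appB b v := funext fun i =>
  (by decide +kernel : ∀ (g : SL23) (n : ZMod 3) (a : V2), app2 g (n • a) = n • app2 g a) _ _ _

theorem card_V6 : Nat.card V6 = 729 := by
  rw [Nat.card_pi, Fin.prod_const, Nat.card_prod, Nat.card_zmod]; norm_num

/-- Nonzero vectors pair to one with some vector. -/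
theorem om_one {v : V6} (hv : v ≠ 0) : ∃ w, om v w = 1 := by
  obtain ⟨w, hw⟩ := om_nondeg hv
  exact ⟨om v w • w, by
    rw [om_smul_right]; exact (by decide : ∀ a : ZMod 3, a ≠ 0 → a * a = 1) _ hw⟩

/-- A vector orthogonal to all of a perp lies on the line. -/
theorem perp_line {v x : V6} (hv : v ≠ 0) (h : ∀ w, om v w = 0 → om x w = 0) : ∃ c : ZMod 3, x = c • v := by
  obtain ⟨w0, hw0⟩ := om_one hv
  refine ⟨om x w0, sub_eq_zero.mp ?_⟩
  by_contra hne
  obtain ⟨w, hw⟩ := om_nondeg hne
  apply hw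
  have := h (w - om v w • w0) (by rw [om_sub_right, om_smul_right, hw0, mul_one, sub_self])
  rw [om_sub_right, om_smul_right, sub_eq_zero] at this
  rw [om_sub_left, om_smul_left, this, mul_comm, sub_self]

/-- The perp of a vector as a subgroup. -/
def perpG (v : V6) : AddSubgroup V6 where
  carrier := {w | om v w = 0}
  zero_mem' := om_zero_right v
  add_mem' := fun {a b} (ha : om v a = 0) (hb : om v b = 0) => show om v (a + b) = 0 by
    rw [om_add_right, ha, hb, add_zero]
  neg_mem' := fun {a} (ha : om v a = 0) => show om v (-a) = 0 by rw [om_neg_right, ha, neg_zero]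

theorem mem_perpG {v w : V6} : w ∈ perpG v ↔ om v w = 0 := Iff.rfl

theorem card_perpG {v : V6} (hv : v ≠ 0) : Nat.card (perpG v) = 243 := by
  let f : V6 →+ ZMod 3 := AddMonoidHom.mk' (om v) (om_add_right v)
  obtain ⟨w0, hw0⟩ := om_one hv
  have hs : Function.Surjective f := fun c => ⟨c • w0, by
    show om v (c • w0) = c
    rw [om_smul_right, hw0, mul_one]⟩
  have h := f.ker.card_mul_index
  rw [AddSubgroup.index_ker, AddMonoidHom.range_eq_top.mpr hs, AddSubgroup.card_top, Nat.card_zmod, card_V6,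
    show f.ker = perpG v from AddSubgroup.ext fun w => by simp [f, mem_perpG, AddMonoidHom.mem_ker]] at h
  omega

theorem dot_one : ∀ s : Fin 3 → ZMod 3, s ≠ 0 →
    Fintype.card {b : Fin 3 → ZMod 3 // s 0 * b 0 + s 1 * b 1 + s 2 * b 2 = 0} ≤ 9 := by decide +kernel

theorem dot_two : ∀ s t : Fin 3 → ZMod 3, s ≠ 0 → (∀ c : ZMod 3, t ≠ c • s) →
    Fintype.card {b : Fin 3 → ZMod 3 // (s 0 * b 0 + s 1 * b 1 + s 2 * b 2 = 0) ∧
      (t 0 * b 0 + t 1 * b 1 + t 2 * b 2 = 0)} ≤ 3 := by decide +kernel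

theorem dot_all : ∀ b : Fin 3 → ZMod 3,
    (∀ s : Fin 3 → ZMod 3, s 0 * b 0 + s 1 * b 1 + s 2 * b 2 = 0) → b = 0 := by decide +kernel

/-- A totally isotropic subgroup has at most 27 elements. -/
theorem iso_bound (B : AddSubgroup V6) (h : ∀ v ∈ B, ∀ w ∈ B, om v w = 0) : Nat.card B ≤ 27 := by
  classical
  let f : B →+ (Fin 3 → ZMod 3) := AddMonoidHom.mk' (fun v i => ((v : V6) i).1) fun v w => rfl
  have hm := f.ker.card_mul_index
  rw [AddSubgroup.index_ker] at hm
  let e : f.ker → Fin 3 → ZMod 3 := fun k i => (((k : B) : V6) i).2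
  have einj : Function.Injective e := fun k l he => Subtype.ext (Subtype.ext (funext fun i => Prod.ext
    ((congrFun (AddMonoidHom.mem_ker.mp k.2) i).trans (congrFun (AddMonoidHom.mem_ker.mp l.2) i).symm)
    (congrFun he i)))
  have hdot : ∀ (s : B) (k : f.ker), f s 0 * e k 0 + f s 1 * e k 1 + f s 2 * e k 2 = 0 := fun s k => by
    have h1 := h _ s.2 _ (k : B).2
    have h0 : ∀ i, (((k : B) : V6) i).1 = 0 := fun i => congrFun (AddMonoidHom.mem_ker.mp k.2) i
    simp only [om, det2, h0, mul_zero, sub_zero] at h1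
    exact h1
  have h3 : Nat.card (Fin 3 → ZMod 3) = 27 := by rw [Nat.card_pi, Fin.prod_const, Nat.card_zmod]; norm_num
  have hr := AddSubgroup.card_addSubgroup_dvd_card f.range
  rw [h3] at hr
  obtain ⟨i, hi, ei⟩ := (Nat.dvd_prime_pow Nat.prime_three (m := 3)).mp hr
  rw [ei] at hm
  have hk27 : Nat.card f.ker ≤ 27 := h3 ▸ Nat.card_le_card_of_injective e einj
  have pick : ∀ n, n < Nat.card f.range → ∀ T : Finset (Fin 3 → ZMod 3), T.card ≤ n → ∃ s : B, f s ∉ T := by
    intro n hn T hT
    by_contra hno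
    push Not at hno
    have := Nat.card_le_card_of_injective (β := T) (fun x : f.range => ⟨x.1, by
      obtain ⟨s, hs⟩ := x.2; exact hs ▸ hno s⟩) fun x y he => Subtype.ext (congrArg (fun z : T => (z : Fin 3 → ZMod 3)) he)
    rw [Nat.card_eq_finsetCard] at this
    omega
  interval_cases i
  · rw [← hm]; exact le_trans (Nat.mul_le_mul_right _ hk27) (by norm_num)
  · obtain ⟨s, hs⟩ := pick 1 (by rw [ei]; norm_num) {0} (by simp)
    have hk := (Nat.card_le_card_of_injective (β := {b : Fin 3 → ZMod 3 // f s 0 * b 0 + f s 1 * b 1 + f s 2 * b 2 = 0})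
      (fun k => ⟨e k, hdot s k⟩) fun k l he => einj (congrArg Subtype.val he)).trans
      (Nat.card_eq_fintype_card.le.trans (dot_one _ (by simpa using hs)))
    rw [← hm]; exact le_trans (Nat.mul_le_mul_right _ hk) (by norm_num)
  · obtain ⟨s, hs⟩ := pick 1 (by rw [ei]; norm_num) {0} (by simp)
    obtain ⟨t, ht⟩ := pick 3 (by rw [ei]; norm_num) (Finset.univ.image fun c : ZMod 3 => c • f s)
      (Finset.card_image_le.trans (by simp))
    have hk := (Nat.card_le_card_of_injective (β := {b : Fin 3 → ZMod 3 // (f s 0 * b 0 + f s 1 * b 1 + f s 2 * b 2 = 0) ∧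
      (f t 0 * b 0 + f t 1 * b 1 + f t 2 * b 2 = 0)}) (fun k => ⟨e k, hdot s k, hdot t k⟩)
      fun k l he => einj (congrArg Subtype.val he)).trans (Nat.card_eq_fintype_card.le.trans (dot_two _ _
        (by simpa using hs) fun c hc => ht (Finset.mem_image.mpr ⟨c, Finset.mem_univ _, hc.symm⟩)))
    rw [← hm]; exact le_trans (Nat.mul_le_mul_right _ hk) (by norm_num)
  · have htop : f.range = ⊤ := AddSubgroup.eq_top_of_card_eq _ (by rw [ei, h3]; norm_num)
    haveI : Subsingleton f.ker := ⟨fun k l => einj (sub_eq_zero.mp (dot_all _ fun s => by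
      obtain ⟨x, hx⟩ := (htop.symm ▸ AddSubgroup.mem_top s : s ∈ f.range)
      subst hx
      simp only [Pi.sub_apply]
      linear_combination hdot x k - hdot x l))⟩
    have hk : Nat.card f.ker ≤ 1 := Finite.card_le_one_iff_subsingleton.mpr inferInstance
    rw [← hm]; exact le_trans (Nat.mul_le_mul_right _ hk) (by norm_num)

end CfsgLib.Fi22Loc
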